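import Cfsg.Agent.A8Type.AutomizerPerm

/-!
The orbit patterns of a linear group on sixteen points with a small stabilizer of the point: three
points, nine points, or five points.
-/

set_option autoImplicit false
set_option maxRecDepth 20000

namespace Cfsg.Agent.A8Type.AutPerm

open Subgroup

/-- The orbit of the point when two involutions move it. -/
def orbII (e : Bool) : List (Fin 16) :=
  cond e [1, 4, 5, 6, 7, 8, 11, 12, 14] [1, 2, 3, 4, 5, 8, 10, 12, 15]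

/-- The orbit of the point when no involution moves it. -/
def orbK (e : Bool) : List (Fin 16) :=
  cond e [4, 6, 7, 11, 14] [4, 2, 3, 10, 15]

/-- The pattern with an orbit of three points. -/
def PI (G : Subgroup P16) : Prop :=
  (∀ j, (∃ g ∈ G, g 4 = j) ↔ j ∈ ([4, 8, 12] : List (Fin 16))) ∧ (∀ g ∈ G, g 1 ≠ 9) ∧
    ∀ j, j ≠ 0 → j ∉ ([4, 8, 12] : List (Fin 16)) → ∃ g ∈ G, g 1 = j ∨ g 9 = j

/-- The pattern with an orbit of nine points. -/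
def PII (e : Bool) (G : Subgroup P16) : Prop :=
  (∀ j, (∃ g ∈ G, g 4 = j) ↔ j ∈ orbII e) ∧ (∀ j, j ≠ 0 → j ∉ orbII e → ∃ g ∈ G, g 9 = j) ∧
    (∃ g ∈ G, g 4 = 8) ∧ cyc 0 e ^ 2 * cyc 1 e ^ 2 ∈ G

/-- The pattern with an orbit of five points. -/
def PK (e : Bool) (G : Subgroup P16) : Prop :=
  (∀ j, (∃ g ∈ G, g 4 = j) ↔ j ∈ orbK e) ∧ ∀ j, j ≠ 0 → j ∉ orbK e → ∃ g ∈ G, g 8 = j

theorem factsI : ∀ e : Bool,
    (∀ (i : Fin 3) u, (cyc 0 e ^ (i : ℕ)) (U4 u 4) ∈ ([4, 8, 12] : List (Fin 16)) ∧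
      (cyc 0 e ^ (i : ℕ)) (U4 u 1) ≠ 9) ∧
    (∀ j ∈ ([4, 8, 12] : List (Fin 16)), ∃ i : Fin 3, (cyc 0 e ^ (i : ℕ)) 4 = j) ∧
    ∀ j, j ≠ 0 → j ∉ ([4, 8, 12] : List (Fin 16)) →
      ∃ (i : Fin 3) (u : Fin 4), (cyc 0 e ^ (i : ℕ)) (U4 u 1) = j ∨ (cyc 0 e ^ (i : ℕ)) (U4 u 9) = j := by
  decide +kernel

theorem factsII : ∀ e : Bool,
    (∀ (i j : Fin 3) u, (cyc 0 e ^ (i : ℕ)) ((cyc 1 e ^ (j : ℕ)) (U4 u 4)) ∈ orbII e) ∧
    (∀ w ∈ orbII e, ∃ i j : Fin 3, (cyc 0 e ^ (i : ℕ)) ((cyc 1 e ^ (j : ℕ)) 4) = w) ∧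
    ∀ w, w ≠ 0 → w ∉ orbII e →
      ∃ (i j : Fin 3) (u : Fin 4), (cyc 0 e ^ (i : ℕ)) ((cyc 1 e ^ (j : ℕ)) (U4 u 9)) = w := by
  decide +kernel

theorem mixed01 : ∀ e : Bool, let a := cyc 0 e; let b := cyc 1 (!e)
    a (b (a (b (a 4)))) = 4 ∧ ∃ j, a (b (a (b (a j)))) ≠ j := by
  decide +kernel

theorem mixed02 : ∀ e : Bool, let a := cyc 0 e; let b := cyc 2 (!e)
    a (b (a (b (a 4)))) = 4 ∧ ∃ j, a (b (a (b (a j)))) ≠ j := by
  decide +kernel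

theorem mixed12 : ∀ e : Bool, let a := cyc 1 e; let b := cyc 2 e
    a (b (a (b (a 4)))) = 4 ∧ ∃ j, a (b (a (b (a j)))) ≠ j := by
  decide +kernel

theorem cyc_orbit : ∀ k e, ∀ x : Fin 16, (x = 4 ∨ x = X k ∨ x = X k ^^^ 4) →
    ∃ i : Fin 3, (cyc k e ^ (i : ℕ)) 4 = x := by
  decide +kernel

theorem inv_app (g : P16) (x : Fin 16) : g⁻¹ (g x) = x := g.symm_apply_apply x

theorem xor_comm16 : ∀ x y : Fin 16, x ^^^ y = y ^^^ x := by
  decide +kernel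

theorem pow_fin {g : P16} (h : g ^ 3 = 1) (n : ℕ) : ∃ i : Fin 3, g ^ n = g ^ (i : ℕ) :=
  ⟨⟨n % 3, Nat.mod_lt _ (by norm_num)⟩, by
    conv_lhs => rw [← Nat.mod_add_div n 3, pow_add, pow_mul, h, one_pow, mul_one]⟩

namespace Aut

variable {G : Subgroup P16}

section CaseS

variable {K : Subgroup P16}

theorem cyc_mem (hA : Aut G) (h4 : ∀ g ∈ G, g ^ 4 ∈ K) {k : Fin 3} (h : Moved G k) :
    ∃ e, cyc k e ∈ K := by
  obtain ⟨g, hg, e, he⟩ := hA.exists_cyc h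
  exact ⟨e, he ▸ h4 g hg⟩

theorem unmoved (hle : K ≤ G) (hreg : ∀ x ∈ K, x 4 = 4 → x = 1) {k : Fin 3} (h : ¬ Moved G k)
    {x : P16} (hx : x ∈ K) (hc : x * T k = T k * x) : x = 1 := by
  by_contra hne
  exact h ⟨x, hle hx, hc, fun h4 => hne (hreg x hx h4)⟩

theorem inverts (hle : K ≤ G) (hreg : ∀ x ∈ K, x 4 = 4 → x = 1)
    (hconj : ∀ x ∈ K, ∀ k, T k * x * T k ∈ K) {k : Fin 3} (h : ¬ Moved G k)
    {x : P16} (hx : x ∈ K) : T k * x * T k = x⁻¹ := by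
  let ψ : K →* K := MonoidHom.mk' (fun y => ⟨T k * y * T k, hconj y y.2 k⟩) (fun a b => Subtype.ext (by
    show T k * ((a : P16) * b) * T k = T k * a * T k * (T k * b * T k)
    simp only [mul_assoc]
    rw [← mul_assoc (T k) (T k), t_sq, one_mul]))
  have hψ : MonoidHom.FixedPointFree ψ := fun y hy => Subtype.ext (unmoved hle hreg h y.2 (by
    have e : T k * (y : P16) * T k = y := congrArg Subtype.val hy
    conv_lhs => rw [← e]
    rw [mul_assoc _ (T k), t_sq, mul_one]))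
  have hinv : Function.Involutive ψ := fun y => Subtype.ext (by
    show T k * (T k * y * T k) * T k = y
    simp only [← mul_assoc]
    rw [t_sq, one_mul, mul_assoc, t_sq, mul_one])
  exact congrArg Subtype.val (congrFun (hψ.coe_eq_inv_of_involutive hinv) ⟨x, hx⟩)

theorem centK (hA : Aut G) (hle : K ≤ G) (hreg : ∀ x ∈ K, x 4 = 4 → x = 1) {k : Fin 3} {e : Bool}
    (he : cyc k e ∈ K) {x : P16} (hx : x ∈ K) (hc : x * T k = T k * x) :
    ∃ i : Fin 3, x = cyc k e ^ (i : ℕ) := by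
  have hfix : T k (x 4) = x 4 := by
    have := congrArg (fun σ : P16 => σ 4) hc
    simp only [Equiv.Perm.mul_apply, (x_facts k).2.2] at this
    exact this.symm
  obtain ⟨i, hi⟩ := cyc_orbit k e (x 4)
    ((fix_T k _ hfix).resolve_left (hA.ne_zero (hle hx) (by decide)))
  refine ⟨i, (inv_mul_eq_one.1 (hreg _ (mul_mem (inv_mem (pow_mem he _)) hx) ?_)).symm⟩
  rw [Equiv.Perm.mul_apply, ← hi, inv_app]

theorem compat {a b : P16} (hreg : ∀ x ∈ K, x 4 = 4 → x = 1) (ha : a ∈ K) (hb : b ∈ K)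
    (h : a (b (a (b (a 4)))) = 4 ∧ ∃ j, a (b (a (b (a j)))) ≠ j) : False := by
  obtain ⟨h4, j, hj⟩ := h
  exact hj (congrArg (fun σ : P16 => σ j)
    (hreg (a * b * a * b * a) (mul_mem (mul_mem (mul_mem (mul_mem ha hb) ha) hb) ha) h4))

end CaseS

variable (hA : Aut G) (hS : ∀ g ∈ G, g 4 = 4 → IsU g)
include hA hS

theorem exists_moved (h : ∃ g ∈ G, g 4 ≠ 4) : Moved G 0 ∨ Moved G 1 ∨ Moved G 2 := by
  obtain ⟨K, hle, hreg, -, hconj, hfac, -⟩ := hA.exists_compl hS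
  by_contra hno
  simp only [not_or] at hno
  obtain ⟨n0, n1, n2⟩ := hno
  obtain ⟨g, hg, hne⟩ := h
  obtain ⟨x, hx, u, rfl⟩ := hfac g hg
  refine hne ?_
  rw [Equiv.Perm.mul_apply, u4_four, unmoved hle hreg n2 hx, Equiv.Perm.one_apply]
  have e0 := inverts hle hreg hconj n0 hx
  have e1 := inverts hle hreg hconj n1 (hconj x hx 0)
  rw [e0, inv_inv] at e1
  have e : T 2 * x * T 2 = x := by
    calc T 2 * x * T 2 = T 1 * (T 0 * x * T 0) * T 1 := by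
          rw [← t_mul.2.2.2.1]
          nth_rw 2 [show T 1 * T 0 = T 0 * T 1 by rw [t_mul.2.2.2.1, t_mul.1]]
          group
      _ = x := by rw [e0]; exact e1
  calc x * T 2 = T 2 * x * T 2 * T 2 := by rw [e]
    _ = T 2 * x := by rw [mul_assoc _ (T 2) (T 2), t_sq, mul_one]

theorem not_all : ¬ (Moved G 0 ∧ Moved G 1 ∧ Moved G 2) := by
  rintro ⟨h0, h1, h2⟩
  obtain ⟨K, -, hreg, hp4, -, -, -⟩ := hA.exists_compl hS
  obtain ⟨a, ha⟩ := hA.cyc_mem hp4 h0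
  obtain ⟨b, hb⟩ := hA.cyc_mem hp4 h1
  obtain ⟨c, hc⟩ := hA.cyc_mem hp4 h2
  cases a <;> cases b <;> cases c <;>
    first
    | exact compat hreg ha hb (mixed01 _)
    | exact compat hreg ha hc (mixed02 _)
    | exact compat hreg hb hc (mixed12 _)

/-- One involution moves the point. -/
theorem caseI (h0 : Moved G 0) (n1 : ¬ Moved G 1) (n2 : ¬ Moved G 2) : PI G := by
  obtain ⟨K, hle, hreg, hp4, hconj, hfac, -⟩ := hA.exists_compl hS
  obtain ⟨e, he⟩ := hA.cyc_mem hp4 h0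
  have hform : ∀ g ∈ G, ∃ (i : Fin 3) (u : Fin 4), g = cyc 0 e ^ (i : ℕ) * U4 u := by
    intro g hg
    obtain ⟨x, hx, u, rfl⟩ := hfac g hg
    have e1 := inverts hle hreg hconj n1 hx
    have e2 := inverts hle hreg hconj n2 (hconj x hx 1)
    rw [e1, inv_inv] at e2
    have h : T 0 * x * T 0 = x := by
      calc T 0 * x * T 0 = T 2 * (T 1 * x * T 1) * T 2 := by
            rw [← t_mul.2.2.2.2.1]
            nth_rw 2 [show T 2 * T 1 = T 1 * T 2 by rw [t_mul.2.2.2.2.1, t_mul.2.1]]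
            group
        _ = x := by rw [e1]; exact e2
    obtain ⟨i, rfl⟩ := hA.centK hle hreg he hx (by
      calc x * T 0 = T 0 * x * T 0 * T 0 := by rw [h]
        _ = T 0 * x := by rw [mul_assoc _ (T 0) (T 0), t_sq, mul_one])
    exact ⟨i, u, rfl⟩
  obtain ⟨f1, f2, f3⟩ := factsI e
  refine ⟨fun j => ⟨?_, fun hj => ?_⟩, ?_, fun j h0 hj => ?_⟩
  · rintro ⟨g, hg, rfl⟩
    obtain ⟨i, u, rfl⟩ := hform g hg
    exact (f1 i u).1
  · obtain ⟨i, hi⟩ := f2 j hj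
    exact ⟨_, pow_mem (hle he) _, hi⟩
  · intro g hg
    obtain ⟨i, u, rfl⟩ := hform g hg
    exact (f1 i u).2
  · obtain ⟨i, u, h⟩ := f3 j h0 hj
    exact ⟨_, mul_mem (pow_mem (hle he) _) (hA.u_mem u), h⟩

/-- Two involutions move the point. -/
theorem caseII (h0 : Moved G 0) (h1 : Moved G 1) : ∃ e, PII e G := by
  have n2 : ¬ Moved G 2 := fun h2 => hA.not_all hS ⟨h0, h1, h2⟩
  obtain ⟨K, hle, hreg, hp4, hconj, hfac, hodd⟩ := hA.exists_compl hS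
  obtain ⟨e, he⟩ := hA.cyc_mem hp4 h0
  obtain ⟨e', he'⟩ := hA.cyc_mem hp4 h1
  have hee : e' = e := by
    cases e <;> cases e' <;>
      first
      | rfl
      | exact (compat hreg he he' (mixed01 _)).elim
  subst hee
  have hab : ∀ x ∈ K, ∀ y ∈ K, x * y = y * x := by
    intro x hx y hy
    have := inverts hle hreg hconj n2 (mul_mem hx hy)
    rw [mul_inv_rev, ← inverts hle hreg hconj n2 hx, ← inverts hle hreg hconj n2 hy] at this
    have h' : T 2 * (x * y) * T 2 = T 2 * (y * x) * T 2 := by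
      rw [this]
      simp only [mul_assoc]
      rw [← mul_assoc (T 2) (T 2), t_sq, one_mul]
    exact mul_left_cancel (mul_right_cancel h')
  have hform : ∀ g ∈ G, ∃ (i j : Fin 3) (u : Fin 4),
      g = cyc 0 e' ^ (i : ℕ) * cyc 1 e' ^ (j : ℕ) * U4 u := by
    intro g hg
    obtain ⟨x, hx, u, rfl⟩ := hfac g hg
    set x' := T 0 * x * T 0 with hx'
    have hx'K := hconj x hx 0
    have key : T 0 * x' * T 0 = x := by
      rw [hx']
      simp only [← mul_assoc]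
      rw [t_sq, one_mul, mul_assoc, t_sq, mul_one]
    have dist : ∀ a b : P16, T 0 * (a * b) * T 0 = T 0 * a * T 0 * (T 0 * b * T 0) := fun a b => by
      simp only [mul_assoc]
      rw [← mul_assoc (T 0) (T 0), t_sq, one_mul]
    obtain ⟨i, hi⟩ := hA.centK hle hreg he (mul_mem hx hx'K) (by
      have e1 : T 0 * (x * x') * T 0 = x * x' := by rw [dist, key, ← hx', hab _ hx'K _ hx]
      calc x * x' * T 0 = T 0 * (x * x') * T 0 * T 0 := by rw [e1]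
        _ = T 0 * (x * x') := by rw [mul_assoc _ (T 0) (T 0), t_sq, mul_one])
    set y := x * x'⁻¹ with hy
    have hyK : y ∈ K := mul_mem hx (inv_mem hx'K)
    obtain ⟨j, hj⟩ := hA.centK hle hreg he' hyK (by
      have hinv0 : T 0 * x'⁻¹ * T 0 = x⁻¹ := by
        rw [← key]; simp only [mul_inv_rev, inv_eq_of_mul_eq_one_right (t_sq 0), mul_assoc]
      have e0 : T 0 * y * T 0 = y⁻¹ := by
        rw [hy, dist, ← hx', hinv0, mul_inv_rev, inv_inv]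
      have e2 := inverts hle hreg hconj n2 (inv_mem hyK)
      rw [inv_inv] at e2
      have e1 : T 1 * y * T 1 = y := by
        calc T 1 * y * T 1 = T 2 * (T 0 * y * T 0) * T 2 := by
              rw [← t_mul.2.2.2.2.2]
              nth_rw 2 [show T 2 * T 0 = T 0 * T 2 by rw [t_mul.2.2.2.2.2, t_mul.2.2.1]]
              group
          _ = y := by rw [e0, e2]
      calc y * T 1 = T 1 * y * T 1 * T 1 := by rw [e1]
        _ = T 1 * y := by rw [mul_assoc _ (T 1) (T 1), t_sq, mul_one])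
    have hxx : x ^ 2 = cyc 0 e' ^ (i : ℕ) * cyc 1 e' ^ (j : ℕ) := by
      rw [← hi, ← hj, hy, mul_assoc x, ← mul_assoc x', hab _ hx'K _ hx, mul_assoc x x',
        mul_inv_cancel, mul_one, pow_two]
    obtain ⟨m, hm⟩ := hodd x hx
    have hxm : x = (x ^ 2) ^ (m + 1) := by
      rw [← pow_mul, show 2 * (m + 1) = (2 * m + 1) + 1 by ring, pow_add, ← hm, pow_orderOf_eq_one,
        one_mul, pow_one]
    have hc : Commute (cyc 0 e' ^ (i : ℕ)) (cyc 1 e' ^ (j : ℕ)) :=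
      hab _ (pow_mem he _) _ (pow_mem he' _)
    obtain ⟨i', hi'⟩ := pow_fin (cyc_three 0 e') ((i : ℕ) * (m + 1))
    obtain ⟨j', hj'⟩ := pow_fin (cyc_three 1 e') ((j : ℕ) * (m + 1))
    exact ⟨i', j', u, by rw [hxm, hxx, hc.mul_pow, ← pow_mul, ← pow_mul, hi', hj']⟩
  obtain ⟨f1, f2, f3⟩ := factsII e'
  refine ⟨e', fun w => ⟨?_, fun hw => ?_⟩, fun w h0 hw => ?_, ⟨_, hle he, (cyc_facts 0 e').2.1⟩,
    hle (mul_mem (pow_mem he _) (pow_mem he' _))⟩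
  · rintro ⟨g, hg, rfl⟩
    obtain ⟨i, j, u, rfl⟩ := hform g hg
    exact f1 i j u
  · obtain ⟨i, j, h⟩ := f2 w hw
    exact ⟨_, mul_mem (pow_mem (hle he) _) (pow_mem (hle he') _), h⟩
  · obtain ⟨i, j, u, h⟩ := f3 w h0 hw
    exact ⟨_, mul_mem (mul_mem (pow_mem (hle he) _) (pow_mem (hle he') _)) (hA.u_mem u), h⟩

end Aut

/-! ### The stabilizer of order twelve -/

theorem stab_comm : ∀ k (i : Fin 3) u, (∀ j, U4 u ((kap ^ (i : ℕ)) (T k j)) = T k (U4 u ((kap ^ (i : ℕ)) j))) →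
    i = 0 := by
  decide +kernel

theorem kap_to_zero : ∀ k, ∃ i : Fin 3, ∀ j, (kap ^ (i : ℕ)) (T k j) = T 0 ((kap ^ (i : ℕ)) j) := by
  decide +kernel

theorem kap_four : ∀ i : Fin 3, (kap ^ (i : ℕ)) 4 = 4 := by
  decide +kernel

theorem kap_invol : ∀ k (i : Fin 3) u,
    (∀ j, U4 u ((kap ^ (i : ℕ)) (U4 u ((kap ^ (i : ℕ)) j))) = j) →
    (∃ j, U4 u ((kap ^ (i : ℕ)) j) ≠ j) →
    ∃ i' : Fin 3, ∀ j, (kap ^ (i' : ℕ)) (T k j) = U4 u ((kap ^ (i : ℕ)) ((kap ^ (i' : ℕ)) j)) := by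
  decide +kernel

/-- The word contradicting a moved triangle. -/
def wrd (e : Bool) (j : Fin 16) : Fin 16 :=
  (cyc 0 e).symm (kap.symm ((cyc 0 e).symm (kap (cyc 0 e (kap (cyc 0 e j))))))

theorem word_facts : ∀ e, wrd e 4 = 4 ∧ ∀ (i : Fin 3) u, ∃ j, wrd e j ≠ U4 u ((kap ^ (i : ℕ)) j) := by
  decide +kernel

theorem moved_all : ∀ w : Fin 16, w ≠ 0 → (∀ k, T k w ≠ w) →
    w ∈ ([2, 3, 10, 15, 6, 7, 11, 14] : List (Fin 16)) := by
  decide +kernel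

theorem both_small : ∀ x y : Fin 16,
    x ∈ ([4, 2, 3, 10, 15, 6, 7, 11, 14] : List (Fin 16)) →
    2 ^^^ x ∈ ([4, 2, 3, 10, 15, 6, 7, 11, 14] : List (Fin 16)) →
    y ∈ ([4, 2, 3, 10, 15, 6, 7, 11, 14] : List (Fin 16)) →
    2 ^^^ y ∈ ([4, 2, 3, 10, 15, 6, 7, 11, 14] : List (Fin 16)) →
    x = 2 ∨ y = 2 ∨ x = y ∨ x = 2 ^^^ y := by
  decide +kernel

/-- The head of an orbit of five points, and a second member. -/
def hd (e : Bool) : Fin 16 := cond e 6 2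

/-- A second member of an orbit of five points. -/
def hd2 (e : Bool) : Fin 16 := cond e 7 3

theorem five_facts : ∀ e,
    (∀ j ∈ ([2, 3, 10, 15, 6, 7, 11, 14] : List (Fin 16)),
      (∃ u, U4 u (hd e) = j) ∨ (∃ u, U4 u (hd (!e)) = j)) ∧
    (∀ j ∈ orbK e, j = 4 ∨ ∃ u, U4 u (hd e) = j) ∧
    (∀ u, U4 u (hd e) ∈ orbK e) ∧
    (∀ j ∈ ([1, 5, 8, 9, 12, 13] : List (Fin 16)), ∃ (i : Fin 3) (u : Fin 4), U4 u ((kap ^ (i : ℕ)) 8) = j) ∧
    (∀ x ∈ orbK e, x ≠ hd e → x = 4 ∨ hd e ^^^ x ∈ ([1, 5, 8, 9, 12, 13] : List (Fin 16))) ∧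
    (∀ j, j ≠ 0 → j ∉ orbK e → j ∈ ([1, 5, 8, 9, 12, 13] : List (Fin 16)) ∨
      ((∃ u, U4 u (hd e ^^^ 4) = j) ∧ ∃ u, U4 u (hd2 e ^^^ 4) = j)) ∧
    hd e ∈ orbK e ∧ hd2 e ∈ orbK e ∧ hd e ≠ hd2 e ∧ hd e ≠ 4 ∧ hd2 e ≠ 4 := by
  intro e
  cases e <;> refine ⟨?_, ?_, ?_, ?_, ?_, ?_, ?_, ?_, ?_, ?_, ?_⟩ <;> decide +kernel

/-- The hypotheses with a stabilizer of order twelve. -/
structure AutK (G : Subgroup P16) : Prop where
  lin : ∀ g ∈ G, ∀ i j : Fin 16, g (i ^^^ j) = g i ^^^ g j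
  tmem : ∀ k, T k ∈ G
  not8 : ¬ 8 ∣ Nat.card G
  kmem : kap ∈ G
  stab4 : ∀ g ∈ G, g 4 = 4 → ∃ (i : Fin 3) (u : Fin 4), g = U4 u * kap ^ (i : ℕ)

namespace AutK

variable {G : Subgroup P16}

theorem aut (h : AutK G) : Aut G :=
  ⟨h.lin, h.tmem, h.not8, fun g hg h4 k hc => by
    obtain ⟨i, u, rfl⟩ := h.stab4 g hg h4
    rw [stab_comm k i u fun j => congrArg (fun σ : P16 => σ j) hc]
    exact ⟨u, by simp⟩⟩

theorem not_moved (h : AutK G) (k : Fin 3) : ¬ Moved G k := by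
  rintro ⟨g, hg, hc, hne⟩
  obtain ⟨i, hi⟩ := kap_to_zero k
  set p := kap ^ (i : ℕ) with hp
  have hpk : p * T k = T 0 * p := Equiv.ext hi
  have hp4 : p 4 = 4 := kap_four i
  have hm : Moved G 0 := by
    refine ⟨p * g * p⁻¹, mul_mem (mul_mem (pow_mem h.kmem _) hg) (inv_mem (pow_mem h.kmem _)), ?_, ?_⟩
    · have e : T 0 = p * T k * p⁻¹ := by rw [hpk, mul_inv_cancel_right]
      rw [e]
      calc p * g * p⁻¹ * (p * T k * p⁻¹) = p * (g * T k) * p⁻¹ := by group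
        _ = p * T k * p⁻¹ * (p * g * p⁻¹) := by rw [hc]; group
    · intro h4
      rw [Equiv.Perm.mul_apply, Equiv.Perm.mul_apply] at h4
      have hp' : p⁻¹ 4 = 4 := Equiv.Perm.inv_eq_iff_eq.2 hp4.symm
      rw [hp'] at h4
      exact hne (p.injective (h4.trans hp4.symm))
  obtain ⟨g', hg', e, he⟩ := h.aut.exists_cyc hm
  have ha : cyc 0 e ∈ G := he ▸ pow_mem hg' _
  obtain ⟨hw4, hw⟩ := word_facts e
  obtain ⟨i', u, hu⟩ := h.stab4
    ((cyc 0 e)⁻¹ * kap⁻¹ * (cyc 0 e)⁻¹ * kap * cyc 0 e * kap * cyc 0 e)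
    (mul_mem (mul_mem (mul_mem (mul_mem (mul_mem (mul_mem (inv_mem ha) (inv_mem h.kmem)) (inv_mem ha))
      h.kmem) ha) h.kmem) ha) hw4
  obtain ⟨j, hj⟩ := hw i' u
  exact hj (congrArg (fun σ : P16 => σ j) hu)

theorem orbit_moved (h : AutK G) {g : P16} (hg : g ∈ G) (hne : g 4 ≠ 4) :
    g 4 ∈ ([2, 3, 10, 15, 6, 7, 11, 14] : List (Fin 16)) := by
  refine moved_all _ (h.aut.ne_zero hg (by decide)) fun k hfix => ?_
  set t := g⁻¹ * T k * g with ht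
  have ht4 : t 4 = 4 := by
    rw [ht, Equiv.Perm.mul_apply, Equiv.Perm.mul_apply, hfix, inv_app]
  obtain ⟨i, u, hiu⟩ := h.stab4 t (mul_mem (mul_mem (inv_mem hg) (h.tmem k)) hg) ht4
  have htt : t * t = 1 := by
    rw [ht, show g⁻¹ * T k * g * (g⁻¹ * T k * g) = g⁻¹ * (T k * T k) * g by group, t_sq]
    group
  have ht1 : t ≠ 1 := by
    intro e
    have : T k = 1 := by
      rw [show T k = g * t * g⁻¹ by rw [ht]; group, e, mul_one, mul_inv_cancel]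
    rw [t_u4] at this
    exact Fin.succ_ne_zero k (u4_inj _ 0 fun j => by rw [this]; rfl)
  obtain ⟨i', hi'⟩ := kap_invol k i u
    (fun j => by
      have := congrArg (fun σ : P16 => σ j) htt
      rw [hiu] at this
      exact this)
    (by
      by_contra hall
      simp only [not_exists, not_not] at hall
      exact ht1 (hiu.trans (Equiv.ext hall)))
  set p := kap ^ (i' : ℕ) with hp
  have hpk : p * T k = t * p := by
    rw [hiu]
    exact Equiv.ext hi'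
  refine h.not_moved k ⟨g * p, mul_mem hg (pow_mem h.kmem _), ?_, ?_⟩
  · calc g * p * T k = g * (p * T k) := mul_assoc _ _ _
      _ = T k * (g * p) := by rw [hpk, ht]; group
  · rwa [Equiv.Perm.mul_apply, hp, kap_four]

theorem not_both (h : AutK G) {g g' : P16} (hg : g ∈ G) (hg' : g' ∈ G) (h2 : g 4 = 2) (h6 : g' 4 = 6) :
    False := by
  have att : ∀ j ∈ ([4, 2, 3, 10, 15, 6, 7, 11, 14] : List (Fin 16)), ∃ x ∈ G, x 4 = j := by
    intro j hj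
    rcases List.mem_cons.1 hj with rfl | hj
    · exact ⟨1, one_mem G, rfl⟩
    rcases (five_facts false).1 j hj with ⟨u, hu⟩ | ⟨u, hu⟩
    · exact ⟨_, mul_mem (h.aut.u_mem u) hg, by rw [Equiv.Perm.mul_apply, h2]; exact hu⟩
    · exact ⟨_, mul_mem (h.aut.u_mem u) hg', by rw [Equiv.Perm.mul_apply, h6]; exact hu⟩
  have img : ∀ j ∈ ([4, 2, 3, 10, 15, 6, 7, 11, 14] : List (Fin 16)),
      g j ∈ ([4, 2, 3, 10, 15, 6, 7, 11, 14] : List (Fin 16)) := by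
    intro j hj
    obtain ⟨x, hx, rfl⟩ := att j hj
    by_cases hne : g (x 4) = 4
    · rw [hne]; exact List.mem_cons_self
    · exact List.mem_cons_of_mem _ (h.orbit_moved (mul_mem hg hx) hne)
  have e6 : g 6 = 2 ^^^ g 2 := by
    rw [show (6 : Fin 16) = 4 ^^^ 2 by rfl, h.lin g hg, h2]
  have e7 : g 7 = 2 ^^^ g 3 := by
    rw [show (7 : Fin 16) = 4 ^^^ 3 by rfl, h.lin g hg, h2]
  rcases both_small (g 2) (g 3) (img 2 (by decide)) (e6 ▸ img 6 (by decide)) (img 3 (by decide))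
    (e7 ▸ img 7 (by decide)) with c | c | c | c
  · exact absurd (g.injective (c.trans h2.symm)) (by decide)
  · exact absurd (g.injective (c.trans h2.symm)) (by decide)
  · exact absurd (g.injective c) (by decide)
  · exact absurd (g.injective (c.trans e7.symm)) (by decide)

/-- The orbit has five points. -/
theorem caseK (h : AutK G) (hm : ∃ g ∈ G, g 4 ≠ 4) : ∃ e, PK e G := by
  obtain ⟨g, hg, hne⟩ := hm
  obtain ⟨e, g₀, hg₀, h0⟩ : ∃ e, ∃ g₀ ∈ G, g₀ 4 = hd e := by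
    rcases (five_facts false).1 _ (h.orbit_moved hg hne) with ⟨u, hu⟩ | ⟨u, hu⟩
    · exact ⟨false, U4 u * g, mul_mem (h.aut.u_mem u) hg,
        by rw [Equiv.Perm.mul_apply, ← hu, u4_inv]⟩
    · exact ⟨true, U4 u * g, mul_mem (h.aut.u_mem u) hg,
        by rw [Equiv.Perm.mul_apply, ← hu, u4_inv]; rfl⟩
  obtain ⟨f1, f2, f3, f4, f5, f6, f7, f8, f9, f10, f11⟩ := five_facts e
  have horb : ∀ j, (∃ x ∈ G, x 4 = j) ↔ j ∈ orbK e := by
    intro j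
    refine ⟨?_, fun hj => ?_⟩
    · rintro ⟨x, hx, rfl⟩
      by_cases hx4 : x 4 = 4
      · rw [hx4]; cases e <;> decide
      rcases f1 _ (h.orbit_moved hx hx4) with ⟨u, hu⟩ | ⟨u, hu⟩
      · rw [← hu]; exact f3 u
      · exfalso
        have hx' : (U4 u * x) 4 = hd (!e) := by rw [Equiv.Perm.mul_apply, ← hu, u4_inv]
        cases e
        · exact h.not_both hg₀ (mul_mem (h.aut.u_mem u) hx) h0 hx'
        · exact h.not_both (mul_mem (h.aut.u_mem u) hx) hg₀ hx' h0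
    · rcases f2 j hj with rfl | ⟨u, hu⟩
      · exact ⟨1, one_mem G, rfl⟩
      · exact ⟨_, mul_mem (h.aut.u_mem u) hg₀, by rw [Equiv.Perm.mul_apply, h0, hu]⟩
  have hsix : ∀ j ∈ ([1, 5, 8, 9, 12, 13] : List (Fin 16)), ∃ x ∈ G, x 8 = j := fun j hj => by
    obtain ⟨i, u, hiu⟩ := f4 j hj
    exact ⟨_, mul_mem (h.aut.u_mem u) (pow_mem h.kmem _), hiu⟩
  refine ⟨e, horb, fun j hj0 hj => ?_⟩
  rcases f6 j hj0 hj with hj | ⟨⟨u, hu⟩, ⟨v, hv⟩⟩
  · exact hsix j hj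
  have img : ∀ w ∈ orbK e, w ≠ 4 → g₀ w ∈ orbK e ∧ g₀ w ≠ hd e ∧ g₀ (w ^^^ 4) = hd e ^^^ g₀ w := by
    intro w hw hw4
    refine ⟨?_, fun he => hw4 (g₀.injective (he.trans h0.symm)), ?_⟩
    · obtain ⟨x, hx, rfl⟩ := (horb w).2 hw
      exact (horb _).1 ⟨g₀ * x, mul_mem hg₀ hx, rfl⟩
    · rw [h.lin g₀ hg₀, h0]
      exact xor_comm16 _ _
  obtain ⟨w, hw, hw4, hu', hgw⟩ : ∃ w ∈ orbK e, w ≠ 4 ∧ (∃ u, U4 u (w ^^^ 4) = j) ∧ g₀ w ≠ 4 := by
    by_cases hh : g₀ (hd e) = 4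
    · exact ⟨hd2 e, f8, f11, ⟨v, hv⟩, fun c => f9 (g₀.injective (hh.trans c.symm))⟩
    · exact ⟨hd e, f7, f10, ⟨u, hu⟩, hh⟩
  obtain ⟨hi, hne', heq⟩ := img w hw hw4
  obtain ⟨x, hx, hx8⟩ := hsix _ ((f5 _ hi hne').resolve_left hgw)
  obtain ⟨u', hu''⟩ := hu'
  refine ⟨U4 u' * g₀⁻¹ * x, mul_mem (mul_mem (h.aut.u_mem u') (inv_mem hg₀)) hx, ?_⟩
  rw [Equiv.Perm.mul_apply, Equiv.Perm.mul_apply, hx8, ← heq, inv_app, hu'']

end AutK

end Cfsg.Agent.A8Type.AutPerm
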