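import Cfsg.Agent.A8Type.Basic
import Cfsg.Agent.A8Type.AutomizerCases

/-!
The automizer of the elementary abelian subgroup of order sixteen, given the stabilizer of the central
involution in it: the possible classes of involutions in the subgroup.
-/

set_option autoImplicit false
set_option maxRecDepth 20000

namespace Cfsg.Agent.A8Type

open Subgroup

namespace Aut16

open AutPerm

/-- The element of the elementary abelian subgroup with the given code. -/
def cd (j : Fin 16) : UT := UT.el (2 * (j : ℕ))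

/-- The code of an element. -/
def code (a : UT) : Fin 16 := ⟨a.idx / 2 % 16, Nat.mod_lt _ (by norm_num)⟩

theorem cd_facts : (∀ j, cd j ∈ AS ∧ code (cd j) = j) ∧ (∀ a ∈ AS, cd (code a) = a) ∧
    (∀ i j, cd (i ^^^ j) = cd i * cd j) ∧ cd 4 = zs ∧ cd 9 = as ∧ cd 1 = UT.x24 ∧ cd 8 = UT.x13 ∧
    cd 0 = 1 ∧ (∀ j, (cd j).idx = 2 * (j : ℕ)) := by
  refine ⟨?_, ?_, ?_, ?_, ?_, ?_, ?_, ?_, ?_⟩ <;> decide +kernel

theorem cd_mem (j : Fin 16) : cd j ∈ AS := (cd_facts.1 j).1

theorem cd_inj {i j : Fin 16} (h : cd i = cd j) : i = j := by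
  rw [← (cd_facts.1 i).2, h, (cd_facts.1 j).2]

/-- Representatives of the four-group in the model. -/
def tg : Fin 3 → UT := ![UT.x12, UT.x34, UT.x12 * UT.x34]

theorem tg_facts : ∀ k j, tg k * cd j * (tg k)⁻¹ = cd (T k j) := by
  decide +kernel

theorem conj_cd : ∀ s : UT, ∃ u, ∀ j, s * cd j * s⁻¹ = cd (U4 u j) := by
  decide +kernel

theorem kap_cd : ∀ (i : Fin 3) j, Base.kapTab^[(i : ℕ)] (cd j) = cd ((kap ^ (i : ℕ)) j) := by
  decide +kernel

theorem sig_cd : (∀ j, sigTab false (cd j) = cd ((cyc 0 false ^ 2 * cyc 1 false ^ 2) j)) ∧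
    ∀ j, ((cyc 0 false ^ 2 * cyc 1 false ^ 2) ^ 3) j = j := by
  decide +kernel

/-- The action of an automorphism of the model on codes. -/
def sg (i : Fin 12) (j : Fin 16) : Fin 16 := code (UT.autoFun i (cd j))

theorem sg_cd : ∀ i j, UT.autoFun i (cd j) = cd (sg i j) := by
  decide +kernel

theorem sg_facts : (∀ i j j', sg i j = sg i j' → j = j') ∧ (∀ i, sg i 4 = 4) := by
  decide +kernel

theorem sg_surj (i : Fin 12) : Function.Surjective (sg i) :=
  Finite.injective_iff_surjective.1 fun a b => sg_facts.1 i a b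

/-- The permutation of the three involutions induced by an automorphism of the model. -/
def km (i : Fin 12) : Fin 3 → Fin 3 :=
  ([![0, 1, 2], ![0, 2, 1], ![1, 0, 2], ![1, 2, 0], ![2, 0, 1], ![2, 1, 0]] :
    List (Fin 3 → Fin 3)).getD ((i : ℕ) % 6) id

theorem km_facts : ∀ i k j, sg i (T k j) = T (km i k) (sg i j) := by
  decide +kernel

theorem swap_facts : ∀ i ∈ ([0, 1, 3] : List (Fin 12)), ∃ j, j ∉ orbII true ∧
    sg (i + 6) j = sg i 6 := by
  decide +kernel

theorem km_shift : ∀ i ∈ ([0, 1, 3] : List (Fin 12)), km (i + 6) = km i := by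
  decide +kernel

theorem swapK : (∀ j, sg 6 j ∈ orbK true ↔ j ∈ orbK false) ∧ (∀ j, sg 6 j = 0 → j = 0) ∧
    (8 : Fin 16) ∉ orbK false := by
  decide +kernel

theorem idx_lists : (∀ j, (cd j).idx ∈ ([8, 16, 24] : List ℕ) ↔ j ∈ ([4, 8, 12] : List (Fin 16))) ∧
    (∀ j, zp false (cd j) ↔ j ∈ orbII false) ∧ (∀ j, zp true (cd j) ↔ j ∈ orbK false) := by
  refine ⟨?_, ?_, ?_⟩ <;> decide +kernel

variable {G : Type*} [Group G] (B : Base G)

/-- The element of `A` with the given code. -/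
def el (j : Fin 16) : G := B.f (cd j)

theorem el_mem (j : Fin 16) : el B j ∈ B.A := ⟨_, cd_mem j, rfl⟩

theorem el_inj {i j : Fin 16} (h : el B i = el B j) : i = j := cd_inj (B.inj h)

theorem el_z : el B 4 = B.z := congrArg B.f cd_facts.2.2.2.1

theorem exists_code {x : G} (hx : x ∈ B.A) : ∃ j, x = el B j := by
  obtain ⟨a, ha, rfl⟩ := hx
  exact ⟨code a, by rw [el, cd_facts.2.1 a ha]⟩

theorem conj_el_mem (n : normalizer (B.A : Set G)) (j : Fin 16) : ∃ i, (n : G) * el B j * (n : G)⁻¹ = el B i :=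
  exists_code B ((mem_normalizer_iff.1 n.2 _).1 (el_mem B j))

/-- The action of an element of the normalizer on codes, as a function. -/
noncomputable def actFun (n : normalizer (B.A : Set G)) (j : Fin 16) : Fin 16 :=
  (conj_el_mem B n j).choose

theorem actFun_spec (n : normalizer (B.A : Set G)) (j : Fin 16) :
    (n : G) * el B j * (n : G)⁻¹ = el B (actFun B n j) :=
  (conj_el_mem B n j).choose_spec

theorem actFun_bij (n : normalizer (B.A : Set G)) : Function.Bijective (actFun B n) :=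
  Finite.injective_iff_bijective.1 fun i j h => el_inj B (by
    have := actFun_spec B n i
    rw [h, ← actFun_spec B n j] at this
    exact mul_left_cancel (mul_right_cancel this))

/-- The action of the normalizer on codes. -/
noncomputable def act : normalizer (B.A : Set G) →* P16 :=
  MonoidHom.mk' (fun n => Equiv.ofBijective _ (actFun_bij B n)) fun m n => Equiv.ext fun j => el_inj B (by
    show el B (actFun B (m * n) j) = el B (actFun B m (actFun B n j))
    rw [← actFun_spec B (m * n), ← actFun_spec B m, ← actFun_spec B n, Subgroup.coe_mul]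
    group)

theorem act_spec (n : normalizer (B.A : Set G)) (j : Fin 16) :
    (n : G) * el B j * (n : G)⁻¹ = el B (act B n j) :=
  actFun_spec B n j

theorem act_eq {n : normalizer (B.A : Set G)} {g : P16}
    (h : ∀ j, (n : G) * el B j * (n : G)⁻¹ = el B (g j)) : act B n = g :=
  Equiv.ext fun j => el_inj B ((act_spec B n j).symm.trans (h j))

/-- The automizer of `A`, on codes. -/
noncomputable def auts : Subgroup P16 := (act B).range

theorem f_mem_normalizer [Finite G] (s : UT) : B.f s ∈ normalizer (B.A : Set G) :=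
  mem_normalizer_fintype (by
    rintro _ ⟨a, ha, rfl⟩
    exact ⟨s * a * s⁻¹, UT.AS_facts.2.2.1 a ha s, B.conj_f s a⟩)

theorem lin_auts : ∀ g ∈ auts B, ∀ i j : Fin 16, g (i ^^^ j) = g i ^^^ g j := by
  rintro _ ⟨n, rfl⟩ i j
  have hmul : ∀ a b, el B (a ^^^ b) = el B a * el B b := fun a b => by
    rw [el, cd_facts.2.2.1, map_mul]
    rfl
  refine el_inj B ?_
  rw [← act_spec, hmul, hmul, ← act_spec, ← act_spec]
  group

variable [Finite G]

theorem tmem (k : Fin 3) : T k ∈ auts B :=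
  ⟨⟨B.f (tg k), f_mem_normalizer B _⟩, act_eq B fun j => by
    show B.f (tg k) * B.f (cd j) * (B.f (tg k))⁻¹ = B.f (cd (T k j))
    rw [← B.conj_f, tg_facts]⟩

theorem index_range_odd : ¬ 2 ∣ B.f.range.index := by
  have : Fact (Nat.Prime 2) := ⟨Nat.prime_two⟩
  obtain ⟨P, hP⟩ := B.sylow
  rw [← hP]
  exact P.not_dvd_index

theorem not8 : ¬ 8 ∣ Nat.card (auts B) := by
  intro h
  set N := normalizer (B.A : Set G)
  have hk : 16 ∣ Nat.card (act B).ker := by
    have e : Nat.card (B.A.subgroupOf N) = 16 :=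
      (Nat.card_congr (subgroupOfEquivOfLe le_normalizer).toEquiv).trans B.card_A
    refine (dvd_of_eq e.symm).trans (card_dvd_of_le fun n hn => MonoidHom.mem_ker.2 (act_eq B fun j => ?_))
    rw [Equiv.Perm.one_apply, B.A_comm _ (mem_subgroupOf.1 hn) _ (el_mem B j), mul_inv_cancel_right]
  have h128 : 128 ∣ Nat.card G := by
    refine dvd_trans ?_ (card_subgroup_dvd_card N)
    rw [← (act B).ker.card_mul_index, Subgroup.index_ker]
    exact Nat.mul_dvd_mul hk h
  rw [← B.f.range.card_mul_index, B.card_range] at h128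
  exact index_range_odd B (Nat.dvd_of_mul_dvd_mul_left (by norm_num : 0 < 64) h128)

theorem stab_z {n : normalizer (B.A : Set G)} (h : act B n 4 = 4) : Commute (n : G) B.z := by
  have := act_spec B n 4
  rw [h, el_z] at this
  show (n : G) * B.z = B.z * n
  conv_rhs => rw [← this]
  group

theorem autS (h : B.StabS) : Aut (auts B) ∧ ∀ g ∈ auts B, g 4 = 4 → IsU g := by
  have hS : ∀ g ∈ auts B, g 4 = 4 → IsU g := by
    rintro _ ⟨n, rfl⟩ h4
    obtain ⟨s, hs⟩ := h _ (stab_z B h4) n.2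
    obtain ⟨u, hu⟩ := conj_cd s
    exact ⟨u, act_eq B fun j => by rw [el, hs _ (cd_mem j), hu]; rfl⟩
  exact ⟨⟨lin_auts B, tmem B, not8 B, fun g hg h4 _ _ => hS g hg h4⟩, hS⟩

theorem autK (h : B.StabK) : AutK (auts B) := by
  obtain ⟨⟨k, -, hkN, hk⟩, hst⟩ := h
  refine ⟨lin_auts B, tmem B, not8 B, ⟨⟨k, hkN⟩, act_eq B fun j => ?_⟩, ?_⟩
  · show k * B.f (cd j) * k⁻¹ = B.f (cd (kap j))
    rw [hk _ (cd_mem j)]
    exact congrArg B.f (kap_cd 1 j)
  · rintro _ ⟨n, rfl⟩ h4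
    obtain ⟨s, i, hs⟩ := hst _ (stab_z B h4) n.2
    obtain ⟨u, hu⟩ := conj_cd s
    exact ⟨i, u, act_eq B fun j => by
      rw [el, hs _ (cd_mem j), kap_cd, hu]; rfl⟩

theorem conj_iff {i j : Fin 16} : IsConj (el B i) (el B j) ↔ ∃ g ∈ auts B, g i = j := by
  refine ⟨fun h => ?_, ?_⟩
  · obtain ⟨n, hn, e⟩ := B.conj_in_A (el_mem B i) (el_mem B j) h
    exact ⟨_, ⟨⟨n, hn⟩, rfl⟩, el_inj B ((act_spec B ⟨n, hn⟩ i).symm.trans e)⟩
  · rintro ⟨_, ⟨n, rfl⟩, rfl⟩
    exact isConj_iff.2 ⟨n, act_spec B n i⟩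

theorem exists_moving {i j : Fin 16} (h : ∃ g ∈ auts B, g i = j) :
    ∃ n ∈ normalizer (B.A : Set G), n * el B i * n⁻¹ = el B j := by
  obtain ⟨_, ⟨n, rfl⟩, rfl⟩ := h
  exact ⟨n, n.2, act_spec B n i⟩

theorem moves (hmove : ∃ a ∈ AS, a ≠ zs ∧ IsConj B.z (B.f a)) : ∃ g ∈ auts B, g 4 ≠ 4 := by
  obtain ⟨a, ha, hne, hc⟩ := hmove
  have e : el B (code a) = B.f a := by rw [el, cd_facts.2.1 a ha]
  rw [← el_z, ← e, conj_iff] at hc
  obtain ⟨g, hg, hj⟩ := hc
  refine ⟨g, hg, fun h4 => hne ?_⟩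
  rw [← cd_facts.2.1 a ha, ← hj, h4, cd_facts.2.2.2.1]

/-! ### Twisting -/

theorem el_twist (i : Fin 12) (j : Fin 16) : el (B.twist i) j = el B (sg i j) := by
  show B.f (UT.auto i (cd j)) = B.f (cd (sg i j))
  rw [UT.auto_apply, sg_cd]

theorem twist_A (i : Fin 12) : (B.twist i).A = B.A := by
  refine eq_of_le_of_card_ge ?_ (by rw [B.card_A, (B.twist i).card_A])
  intro x hx
  obtain ⟨j, rfl⟩ := exists_code (B.twist i) hx
  rw [el_twist]
  exact el_mem B _

theorem twist_stabS (i : Fin 12) (h : B.StabS) : (B.twist i).StabS := by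
  intro g hg hN
  rw [Base.twist_z] at hg
  rw [twist_A] at hN
  obtain ⟨s, hs⟩ := h g hg hN
  refine ⟨(UT.auto i).symm s, fun a ha => ?_⟩
  show g * B.f (UT.auto i a) * g⁻¹ = B.f (UT.auto i _)
  have e : UT.auto i ((UT.auto i).symm s * a * ((UT.auto i).symm s)⁻¹) = s * UT.auto i a * s⁻¹ := by
    rw [map_mul (UT.auto i), map_mul (UT.auto i), map_inv (UT.auto i), MulEquiv.apply_symm_apply]
  rw [e]
  refine hs _ ?_
  rw [UT.auto_apply, ← cd_facts.2.1 a ha, sg_cd]
  exact cd_mem _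

theorem twist_auts (i : Fin 12) {g' : P16} (hg : g' ∈ auts (B.twist i)) :
    ∃ g ∈ auts B, ∀ j, sg i (g' j) = g (sg i j) := by
  obtain ⟨n, rfl⟩ := hg
  refine ⟨act B ⟨n, twist_A B i ▸ n.2⟩, ⟨_, rfl⟩, fun j => el_inj B ?_⟩
  rw [← act_spec, ← el_twist, ← el_twist, ← act_spec]

theorem auts_twist (i : Fin 12) {g : P16} (hg : g ∈ auts B) :
    ∃ g' ∈ auts (B.twist i), ∀ j, sg i (g' j) = g (sg i j) := by
  obtain ⟨n, rfl⟩ := hg
  refine ⟨act (B.twist i) ⟨n, (twist_A B i).symm ▸ n.2⟩, ⟨_, rfl⟩, fun j => el_inj B ?_⟩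
  rw [← act_spec, ← el_twist, ← el_twist, ← act_spec]

theorem orbit_twist (i : Fin 12) (a b : Fin 16) :
    (∃ g ∈ auts (B.twist i), g a = b) ↔ ∃ g ∈ auts B, g (sg i a) = sg i b := by
  rw [← conj_iff, ← conj_iff, el_twist, el_twist]

theorem moved_twist (i : Fin 12) (k : Fin 3) : Moved (auts (B.twist i)) k ↔ Moved (auts B) (km i k) := by
  constructor
  · rintro ⟨g', hg', hc, hne⟩
    obtain ⟨g, hg, e⟩ := twist_auts B i hg'
    refine ⟨g, hg, Equiv.ext fun x => ?_, fun h4 => hne (sg_facts.1 i _ _ ?_)⟩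
    · obtain ⟨j, rfl⟩ := sg_surj i x
      have hj : g' (T k j) = T k (g' j) := Equiv.ext_iff.1 hc j
      rw [Equiv.Perm.mul_apply, Equiv.Perm.mul_apply, ← km_facts, ← e, ← e, ← km_facts, hj]
    · rw [e, sg_facts.2, h4]
  · rintro ⟨g, hg, hc, hne⟩
    obtain ⟨g', hg', e⟩ := auts_twist B i hg
    refine ⟨g', hg', Equiv.ext fun j => sg_facts.1 i _ _ ?_, fun h4 => hne ?_⟩
    · have hj : g (T (km i k) (sg i j)) = T (km i k) (g (sg i j)) := Equiv.ext_iff.1 hc (sg i j)
      rw [Equiv.Perm.mul_apply, Equiv.Perm.mul_apply, e, km_facts, km_facts, e, hj]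
    · rw [← sg_facts.2 i, ← e, h4]

theorem conj_z_iff {a : UT} (ha : a ∈ AS) :
    IsConj B.z (B.f a) ↔ ∃ g ∈ auts B, g 4 = code a := by
  rw [← conj_iff, el_z, el, cd_facts.2.1 a ha]

end Aut16

namespace Base

open AutPerm Aut16

variable {G : Type*} [Group G] [Finite G] (B : Base G)

/-- The classes in `A` when its normalizer acts as the Sylow subgroup in the centralizer of `z`: one
of two patterns, after an automorphism of the model. -/
theorem automizer_stabS (hmove : ∃ a ∈ AS, a ≠ zs ∧ IsConj B.z (B.f a)) (h : B.StabS) : ∃ i : Fin 12,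
    ((∀ a ∈ AS, IsConj (B.twist i).z ((B.twist i).f a) ↔ a.idx ∈ ([8, 16, 24] : List ℕ)) ∧
      ¬ IsConj ((B.twist i).f UT.x24) ((B.twist i).f as) ∧
      ∀ a ∈ AS, a ≠ 1 → a.idx ∉ ([8, 16, 24] : List ℕ) →
        ∃ n ∈ normalizer ((B.twist i).A : Set G),
          n * (B.twist i).f UT.x24 * n⁻¹ = (B.twist i).f a ∨
            n * (B.twist i).f as * n⁻¹ = (B.twist i).f a) ∨
    ((∀ a ∈ AS, IsConj (B.twist i).z ((B.twist i).f a) ↔ zp false a) ∧
      (∀ a ∈ AS, a ≠ 1 → ¬ zp false a →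
        ∃ n ∈ normalizer ((B.twist i).A : Set G), n * (B.twist i).f as * n⁻¹ = (B.twist i).f a) ∧
      (∃ g ∈ normalizer ((B.twist i).A : Set G), g * (B.twist i).z * g⁻¹ = (B.twist i).f UT.x13) ∧
      ∃ l ∈ normalizer ((B.twist i).A : Set G), Odd (orderOf l) ∧
        ∀ a ∈ AS, l * (B.twist i).f a * l⁻¹ = (B.twist i).f (sigTab false a)) := by
  obtain ⟨hA, hS⟩ := autS B h
  obtain ⟨hcd, hcode, hcmul, hc4, hc9, hc1, hc8, hc0, hcidx⟩ := cd_facts
  have hnz : ∀ a ∈ AS, a ≠ 1 → code a ≠ 0 := fun a ha h1 e => h1 (by rw [← hcode a ha, e, hc0])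
  have outI : ∀ i, PI (auts (B.twist i)) → _ := fun i (hP : PI (auts (B.twist i))) =>
    show (∀ a ∈ AS, IsConj (B.twist i).z ((B.twist i).f a) ↔ a.idx ∈ ([8, 16, 24] : List ℕ)) ∧
      ¬ IsConj ((B.twist i).f UT.x24) ((B.twist i).f as) ∧
      ∀ a ∈ AS, a ≠ 1 → a.idx ∉ ([8, 16, 24] : List ℕ) →
        ∃ n ∈ normalizer ((B.twist i).A : Set G),
          n * (B.twist i).f UT.x24 * n⁻¹ = (B.twist i).f a ∨
            n * (B.twist i).f as * n⁻¹ = (B.twist i).f a from by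
    obtain ⟨p1, p2, p3⟩ := hP
    refine ⟨fun a ha => ?_, ?_, fun a ha h1 hidx => ?_⟩
    · rw [conj_z_iff _ ha, p1, ← idx_lists.1, hcode a ha]
    · rw [← hc1, ← hc9]
      show ¬ IsConj (el (B.twist i) 1) (el (B.twist i) 9)
      rw [conj_iff]
      rintro ⟨g, hg, hg9⟩
      exact p2 g hg hg9
    · obtain ⟨g, hg, hga⟩ := p3 (code a) (hnz a ha h1)
        (fun hm => hidx (by rw [← hcode a ha]; exact (idx_lists.1 _).2 hm))
      rcases hga with hga | hga
      · obtain ⟨n, hn, e⟩ := exists_moving (B.twist i) ⟨g, hg, hga⟩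
        exact ⟨n, hn, Or.inl (by rwa [el, el, hc1, hcode a ha] at e)⟩
      · obtain ⟨n, hn, e⟩ := exists_moving (B.twist i) ⟨g, hg, hga⟩
        exact ⟨n, hn, Or.inr (by rwa [el, el, hc9, hcode a ha] at e)⟩
  have selI : ∀ i, Moved (auts B) (km i 0) → ¬ Moved (auts B) (km i 1) → ¬ Moved (auts B) (km i 2) →
      PI (auts (B.twist i)) := fun i h0 h1 h2 => by
    obtain ⟨hA', hS'⟩ := autS _ (twist_stabS B i h)
    exact hA'.caseI hS' ((moved_twist B i 0).2 h0) (fun h' => h1 ((moved_twist B i 1).1 h'))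
      fun h' => h2 ((moved_twist B i 2).1 h')
  have two : ∀ i, Moved (auts B) (km i 0) → Moved (auts B) (km i 1) → ∃ e, PII e (auts (B.twist i)) :=
    fun i h0 h1 => by
      obtain ⟨hA', hS'⟩ := autS _ (twist_stabS B i h)
      exact hA'.caseII hS' ((moved_twist B i 0).2 h0) ((moved_twist B i 1).2 h1)
  have selII : ∀ i ∈ ([0, 1, 3] : List (Fin 12)), Moved (auts B) (km i 0) → Moved (auts B) (km i 1) →
      ∃ i', PII false (auts (B.twist i')) := by
    intro i hi h0 h1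
    obtain ⟨e, hP⟩ := two i h0 h1
    cases e
    · exact ⟨i, hP⟩
    have hk : km (i + 6) = km i := km_shift i hi
    obtain ⟨e', hP'⟩ := two (i + 6) (by rw [hk]; exact h0) (by rw [hk]; exact h1)
    cases e'
    · exact ⟨_, hP'⟩
    exfalso
    obtain ⟨j, hj, hsj⟩ := swap_facts i hi
    have h6 := (hP.1 6).2 (by decide)
    rw [orbit_twist, ← hsj, sg_facts.2, ← sg_facts.2 (i + 6), ← orbit_twist] at h6
    exact hj ((hP'.1 j).1 h6)
  have key : (∃ i, PI (auts (B.twist i))) ∨ ∃ i, PII false (auts (B.twist i)) := by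
    have hm := hA.exists_moved hS (moves B hmove)
    have hn := hA.not_all hS
    by_cases m0 : Moved (auts B) 0 <;> by_cases m1 : Moved (auts B) 1 <;>
      by_cases m2 : Moved (auts B) 2
    · exact absurd ⟨m0, m1, m2⟩ hn
    · exact Or.inr (selII 0 (by simp) m0 m1)
    · exact Or.inr (selII 1 (by simp) m0 m2)
    · exact Or.inl ⟨0, selI 0 m0 m1 m2⟩
    · exact Or.inr (selII 3 (by simp) m1 m2)
    · exact Or.inl ⟨2, selI 2 m1 m0 m2⟩
    · exact Or.inl ⟨4, selI 4 m2 m0 m1⟩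
    · rcases hm with h' | h' | h' <;> contradiction
  rcases key with ⟨i, hP⟩ | ⟨i, p1, p2, p3, p4⟩
  · exact ⟨i, Or.inl (outI i hP)⟩
  refine ⟨i, Or.inr ⟨fun a ha => ?_, fun a ha h1 hz => ?_, ?_, ?_⟩⟩
  · rw [conj_z_iff _ ha, p1, ← idx_lists.2.1, hcode a ha]
  · obtain ⟨n, hn, e⟩ := exists_moving (B.twist i) (p2 (code a) (hnz a ha h1)
      (fun hm => hz (by rw [← hcode a ha]; exact (idx_lists.2.1 _).2 hm)))
    exact ⟨n, hn, by rwa [el, el, hc9, hcode a ha] at e⟩
  · obtain ⟨n, hn, e⟩ := exists_moving (B.twist i) p3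
    exact ⟨n, hn, by rwa [el_z, el, hc8] at e⟩
  · obtain ⟨n, hn⟩ := p4
    refine ⟨((n ^ 64 : _) : G), (n ^ 64).2, ?_, fun a ha => ?_⟩
    · have h2 := index_range_odd B
      rw [Nat.odd_iff]
      by_contra hne
      have hd : orderOf ((n ^ 64 : _) : G) ∣ B.f.range.index := by
        refine orderOf_dvd_of_pow_eq_one ?_
        rw [Subgroup.coe_pow, ← pow_mul, ← B.card_range, B.f.range.card_mul_index, pow_card_eq_one']
      exact h2 ((Nat.dvd_of_mod_eq_zero (by omega)).trans hd)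
    · have hs : act (B.twist i) (n ^ 64) = cyc 0 false ^ 2 * cyc 1 false ^ 2 := by
        rw [map_pow, hn, show 64 = 3 * 21 + 1 by norm_num, pow_succ, pow_mul,
          (Equiv.ext sig_cd.2 : (cyc 0 false ^ 2 * cyc 1 false ^ 2) ^ 3 = (1 : P16)), one_pow, one_mul]
      have e := act_spec (B.twist i) (n ^ 64) (code a)
      rw [hs, el, el, hcode a ha, ← sig_cd.1, hcode a ha] at e
      exact e

/-- The classes in `A` when its normalizer acts as the alternating group of degree four in the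
centralizer of `z`. -/
theorem automizer_stabK (hmove : ∃ a ∈ AS, a ≠ zs ∧ IsConj B.z (B.f a)) (h : B.StabK) : ∃ i : Fin 12,
    (∀ a ∈ AS, IsConj (B.twist i).z ((B.twist i).f a) ↔ zp true a) ∧
      ∀ a ∈ AS, a ≠ 1 → ¬ zp true a →
        ∃ n ∈ normalizer ((B.twist i).A : Set G), n * (B.twist i).f UT.x13 * n⁻¹ = (B.twist i).f a := by
  obtain ⟨hcd, hcode, hcmul, hc4, hc9, hc1, hc8, hc0, hcidx⟩ := cd_facts
  suffices hP : ∃ i, PK false (auts (B.twist i)) by
    obtain ⟨i, p1, p2⟩ := hP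
    refine ⟨i, fun a ha => ?_, fun a ha h1 hz => ?_⟩
    · rw [conj_z_iff _ ha, p1, ← idx_lists.2.2, hcode a ha]
    · obtain ⟨n, hn, e⟩ := exists_moving (B.twist i) (p2 (code a) (fun e => h1 (by rw [← hcode a ha, e, hc0]))
        (fun hm => hz (by rw [← hcode a ha]; exact (idx_lists.2.2 _).2 hm)))
      exact ⟨n, hn, by rwa [el, el, hc8, hcode a ha] at e⟩
  obtain ⟨e, p1, p2⟩ := (autK B h).caseK (moves B hmove)
  cases e
  · refine ⟨0, fun j => ?_, fun j h0 hj => ?_⟩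
    · have hid : ∀ x, sg 0 x = x := by decide +kernel
      rw [orbit_twist, hid, hid, p1]
    · have hid : ∀ x, sg 0 x = x := by decide +kernel
      rw [orbit_twist, hid, hid]
      exact p2 j h0 hj
  · refine ⟨6, fun j => ?_, fun j h0 hj => ?_⟩
    · rw [orbit_twist, sg_facts.2, p1, swapK.1]
    · rw [orbit_twist]
      obtain ⟨g₁, hg₁, e₁⟩ := p2 (sg 6 j) (fun e => h0 (swapK.2.1 j e)) (fun hm => hj ((swapK.1 j).1 hm))
      obtain ⟨g₂, hg₂, e₂⟩ := p2 (sg 6 8) (fun e => absurd (swapK.2.1 8 e) (by decide))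
        (fun hm => swapK.2.2 ((swapK.1 8).1 hm))
      exact ⟨g₁ * g₂⁻¹, mul_mem hg₁ (inv_mem hg₂), by rw [Equiv.Perm.mul_apply, ← e₂, inv_app, e₁]⟩

end Base

end Cfsg.Agent.A8Type
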