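import Mathlib.GroupTheory.FixedPointFree
import Mathlib.GroupTheory.Transfer
import Mathlib.GroupTheory.SpecificGroups.Cyclic
import Mathlib.Tactic.FinCases
import Mathlib.Tactic.Group

/-!
Linear groups on sixteen points with a prescribed four-group as Sylow 2-subgroup and a small
stabilizer of its fixed point: the three possible patterns of orbits.
-/

set_option autoImplicit false
set_option maxRecDepth 20000

namespace Cfsg.Agent.A8Type.AutPerm

open Subgroup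

/-- Permutations of the sixteen codes. -/
abbrev P16 := Equiv.Perm (Fin 16)

/-- A table as a function. -/
def tb (l : List (Fin 16)) (j : Fin 16) : Fin 16 := l.getD (j : ℕ) 0

/-- The three involutions of the four-group. -/
def T : Fin 3 → P16 :=
  ![⟨tb [0, 5, 10, 15, 4, 1, 14, 11, 8, 13, 2, 7, 12, 9, 6, 3], tb [0, 5, 10, 15, 4, 1, 14, 11, 8, 13, 2, 7, 12, 9, 6, 3],
      fun x => by revert x; decide +kernel, fun x => by revert x; decide +kernel⟩,
    ⟨tb [0, 1, 3, 2, 4, 5, 7, 6, 12, 13, 15, 14, 8, 9, 11, 10], tb [0, 1, 3, 2, 4, 5, 7, 6, 12, 13, 15, 14, 8, 9, 11, 10],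
      fun x => by revert x; decide +kernel, fun x => by revert x; decide +kernel⟩,
    ⟨tb [0, 5, 15, 10, 4, 1, 11, 14, 12, 9, 3, 6, 8, 13, 7, 2], tb [0, 5, 15, 10, 4, 1, 11, 14, 12, 9, 3, 6, 8, 13, 7, 2],
      fun x => by revert x; decide +kernel, fun x => by revert x; decide +kernel⟩]

/-- The elements of order three centralizing one involution and inverted by the others. -/
def cyc : Fin 3 → Bool → P16 :=
  let mk := fun (l l' : List (Fin 16)) (h : ∀ x, tb l' (tb l x) = x) (h' : ∀ x, tb l (tb l' x) = x) =>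
    (⟨tb l, tb l', h, h'⟩ : P16)
  ![fun e => cond e
      (mk [0, 6, 15, 9, 8, 14, 7, 1, 12, 10, 3, 5, 4, 2, 11, 13] [0, 7, 13, 10, 12, 11, 1, 6, 4, 3, 9, 14, 8, 15, 5, 2]
        (by decide +kernel) (by decide +kernel))
      (mk [0, 2, 3, 1, 8, 10, 11, 9, 12, 14, 15, 13, 4, 6, 7, 5] [0, 3, 1, 2, 12, 15, 13, 14, 4, 7, 5, 6, 8, 11, 9, 10]
        (by decide +kernel) (by decide +kernel)),
    fun e => cond e
      (mk [0, 5, 15, 10, 1, 4, 14, 11, 6, 3, 9, 12, 7, 2, 8, 13] [0, 4, 13, 9, 5, 1, 8, 12, 14, 10, 3, 7, 11, 15, 6, 2]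
        (by decide +kernel) (by decide +kernel))
      (mk [0, 5, 10, 15, 1, 4, 11, 14, 2, 7, 8, 13, 3, 6, 9, 12] [0, 4, 8, 12, 5, 1, 13, 9, 10, 14, 2, 6, 15, 11, 7, 3]
        (by decide +kernel) (by decide +kernel)),
    fun e => cond e
      (mk [0, 7, 8, 15, 9, 14, 1, 6, 10, 13, 2, 5, 3, 4, 11, 12] [0, 6, 10, 12, 13, 11, 7, 1, 2, 4, 8, 14, 15, 9, 5, 3]
        (by decide +kernel) (by decide +kernel))
      (mk [0, 3, 1, 2, 9, 10, 8, 11, 14, 13, 15, 12, 7, 4, 6, 5] [0, 2, 3, 1, 13, 15, 14, 12, 6, 4, 5, 7, 11, 9, 8, 10]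
        (by decide +kernel) (by decide +kernel))]

/-- The element of order three normalizing the four-group and fixing the point. -/
def kap : P16 :=
  ⟨tb [0, 13, 2, 15, 4, 9, 6, 11, 1, 12, 3, 14, 5, 8, 7, 10],
    tb [0, 8, 2, 10, 4, 12, 6, 14, 13, 5, 15, 7, 9, 1, 11, 3],
    fun x => by revert x; decide +kernel, fun x => by revert x; decide +kernel⟩

/-- The four elements of the four-group. -/
def U4 : Fin 4 → P16 := ![1, T 0, T 1, T 2]

/-- Membership in the four-group. -/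
def IsU (g : P16) : Prop := ∃ u, g = U4 u

theorem u4_mul : ∀ u v, ∃ w, ∀ j, U4 u (U4 v j) = U4 w j := by
  decide +kernel

theorem u4_inv : ∀ u j, U4 u (U4 u j) = j := by
  decide +kernel

theorem u4_inj : ∀ u v, (∀ j, U4 u j = U4 v j) → u = v := by
  decide +kernel

theorem u4_four : ∀ u, U4 u 4 = 4 := by
  decide +kernel

theorem t_u4 (k : Fin 3) : T k = U4 k.succ := by
  fin_cases k <;> rfl

theorem t_sq : ∀ k, T k * T k = 1 := fun k => Equiv.ext (by revert k; decide +kernel)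

theorem t_mul : T 0 * T 1 = T 2 ∧ T 1 * T 2 = T 0 ∧ T 0 * T 2 = T 1 ∧
    T 1 * T 0 = T 2 ∧ T 2 * T 1 = T 0 ∧ T 2 * T 0 = T 1 := by
  refine ⟨?_, ?_, ?_, ?_, ?_, ?_⟩ <;> exact Equiv.ext (by decide +kernel)

/-- The four-group. -/
def U : Subgroup P16 where
  carrier := {g | IsU g}
  one_mem' := ⟨0, rfl⟩
  mul_mem' := fun {a b} ha hb => by
    obtain ⟨u, rfl⟩ := ha
    obtain ⟨v, rfl⟩ := hb
    obtain ⟨w, hw⟩ := u4_mul u v
    exact ⟨w, Equiv.ext hw⟩
  inv_mem' := fun {a} ha => by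
    obtain ⟨u, rfl⟩ := ha
    exact ⟨u, inv_eq_of_mul_eq_one_right (Equiv.ext (u4_inv u))⟩

theorem card_U : Nat.card U = 4 := by
  rw [← Nat.card_fin 4]
  exact (Nat.card_congr (Equiv.ofBijective (fun u => (⟨U4 u, u, rfl⟩ : U))
    ⟨fun u v h => u4_inj u v fun j => congrArg (fun g : U => (g : P16) j) h,
      fun ⟨_, u, rfl⟩ => ⟨u, rfl⟩⟩)).symm

theorem commute_of_isU {g : P16} (hg : IsU g) (k : Fin 3) : g * T k = T k * g := by
  obtain ⟨u, rfl⟩ := hg
  exact Equiv.ext (by revert k u; decide +kernel)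

theorem isU_pt {g : P16} (hg : IsU g) : g 4 = 4 := by
  obtain ⟨u, rfl⟩ := hg
  exact u4_four u

/-- A linear group with the four-group as a Sylow 2-subgroup, whose stabilizer of the point meets
the centralizer of each involution in the four-group. -/
structure Aut (G : Subgroup P16) : Prop where
  lin : ∀ g ∈ G, ∀ i j : Fin 16, g (i ^^^ j) = g i ^^^ g j
  tmem : ∀ k, T k ∈ G
  not8 : ¬ 8 ∣ Nat.card G
  stab : ∀ g ∈ G, g 4 = 4 → ∀ k, g * T k = T k * g → IsU g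

/-- Some element centralizing the involution moves the point. -/
def Moved (G : Subgroup P16) (k : Fin 3) : Prop :=
  ∃ g ∈ G, g * T k = T k * g ∧ g 4 ≠ 4

/-- The partner involution. -/
def nx : Fin 3 → Fin 3 := ![1, 0, 0]

/-- The two other fixed points. -/
def X (k : Fin 3) : Fin 16 := cyc k false 4

theorem fix_T : ∀ k j, T k j = j → j = 0 ∨ j = 4 ∨ j = X k ∨ j = X k ^^^ 4 := by
  decide +kernel

theorem x_facts : ∀ k, T k (X k) = X k ∧ X k ^^^ 4 ^^^ X k = 4 ∧ T k 4 = 4 := by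
  decide +kernel

theorem xor_self_eq : ∀ x y : Fin 16, y = x ^^^ x → y = 0 := by
  decide +kernel

theorem u4_comm : ∀ u v j, U4 u (U4 v j) = U4 v (U4 u j) := by
  decide +kernel

theorem fix_U : ∀ j, (∀ k, T k j = j) → j = 0 ∨ j = 4 := by
  decide +kernel

theorem nx_facts : ∀ k, T (nx k) (X k) = X k ^^^ 4 ∧ T (nx k) (X k ^^^ 4) = X k ∧ T (nx k) 4 = 4 ∧
    T (nx k) 0 = 0 ∧ X k ≠ 4 ∧ X k ^^^ (X k ^^^ 4) = 4 ∧ 4 ^^^ X k = X k ^^^ 4 ∧ X k ≠ 0 := by
  decide +kernel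

/-- The images of the basis `1, 2, 4, 8` of a map with the given triangle. -/
def bas (k : Fin 3) (q r : Fin 16) : Fin 16 × Fin 16 × Fin 16 × Fin 16 :=
  ![(q, r, X k, X k ^^^ 4), (X k ^^^ 4, q, X k, r), (q, r, X k, q ^^^ (X k ^^^ 4))] k

/-- The linear map with the given images of the basis. -/
def mk4 (b : Fin 16 × Fin 16 × Fin 16 × Fin 16) (j : Fin 16) : Fin 16 :=
  (if j &&& 1 = 0 then 0 else b.1) ^^^ (if j &&& 2 = 0 then 0 else b.2.1) ^^^
    (if j &&& 4 = 0 then 0 else b.2.2.1) ^^^ (if j &&& 8 = 0 then 0 else b.2.2.2)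

theorem split_bits : ∀ j : Fin 16, (j &&& 1) ^^^ (j &&& 2) ^^^ (j &&& 4) ^^^ (j &&& 8) = j ∧
    (j &&& 1 = 0 ∨ j &&& 1 = 1) ∧ (j &&& 2 = 0 ∨ j &&& 2 = 2) ∧ (j &&& 4 = 0 ∨ j &&& 4 = 4) ∧
    (j &&& 8 = 0 ∨ j &&& 8 = 8) := by
  decide +kernel

theorem cand : ∀ k q r, (∀ j, mk4 (bas k q r) (T k j) = T k (mk4 (bas k q r) j)) →
    (∃ u, ∀ j, mk4 (bas k q r) (mk4 (bas k q r) (mk4 (bas k q r) j)) = U4 u j) →
    (∃ u, ∀ j, T (nx k) (mk4 (bas k q r) (T (nx k) (mk4 (bas k q r) j))) = U4 u j) →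
    ∃ e, ∀ j, mk4 (bas k q r) (mk4 (bas k q r) (mk4 (bas k q r) (mk4 (bas k q r) j))) = cyc k e j := by
  decide +kernel

theorem cyc_facts : ∀ k e, (∀ j, cyc k e (T k j) = T k (cyc k e j)) ∧ cyc k e 4 = X k ∧
    cyc k e (cyc k e 4) = X k ^^^ 4 ∧ ∀ j, cyc k e (cyc k e (cyc k e j)) = j := by
  decide +kernel

theorem cyc_three (k : Fin 3) (e : Bool) : cyc k e ^ 3 = 1 :=
  Equiv.ext fun j => (cyc_facts k e).2.2.2 j

theorem cyc_comm (k : Fin 3) (e : Bool) : cyc k e * T k = T k * cyc k e :=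
  Equiv.ext (cyc_facts k e).1

namespace Aut

variable {G : Subgroup P16}

theorem map_zero (hA : Aut G) {g : P16} (hg : g ∈ G) : g 0 = 0 := by
  exact xor_self_eq (g 0) _ (hA.lin g hg 0 0)

theorem ne_zero (hA : Aut G) {g : P16} (hg : g ∈ G) {j : Fin 16} (hj : j ≠ 0) : g j ≠ 0 :=
  fun h => hj (g.injective (h.trans (hA.map_zero hg).symm))

theorem eq_mk4 (hA : Aut G) {g : P16} (hg : g ∈ G) (j : Fin 16) :
    g j = mk4 (g 1, g 2, g 4, g 8) j := by
  obtain ⟨e, h1, h2, h4, h8⟩ := split_bits j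
  conv_lhs => rw [← e]
  rw [hA.lin g hg, hA.lin g hg, hA.lin g hg, mk4]
  rcases h1 with a | a <;> rcases h2 with b | b <;> rcases h4 with c | c <;> rcases h8 with d | d <;>
    simp [a, b, c, d, hA.map_zero hg]

theorem u_mem (hA : Aut G) (u : Fin 4) : U4 u ∈ G := by
  fin_cases u
  · exact one_mem G
  · exact hA.tmem 0
  · exact hA.tmem 1
  · exact hA.tmem 2

theorem u_le (hA : Aut G) : U ≤ G := by
  rintro _ ⟨u, rfl⟩
  exact hA.u_mem u

/-- An element centralizing one involution and moving the point gives one of order three. -/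
theorem exists_cyc (hA : Aut G) {k : Fin 3} (h : Moved G k) :
    ∃ g ∈ G, ∃ e, g ^ 4 = cyc k e := by
  obtain ⟨hp, hp', hp4, hp0, hX, hXY, h4X, hX0⟩ := nx_facts k
  set p := T (nx k)
  have hpc : p * T k = T k * p := commute_of_isU ⟨_, t_u4 _⟩ k
  have step : ∀ {g : P16}, g ∈ G → g * T k = T k * g → ∀ j, T k j = j → T k (g j) = g j :=
    fun {g} _ hc j hj => by
      have := congrArg (fun σ : P16 => σ j) hc
      simp only [Equiv.Perm.mul_apply, hj] at this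
      exact this.symm
  -- normalise the image of the point
  obtain ⟨g, hg, hc, h4⟩ : ∃ g ∈ G, g * T k = T k * g ∧ g 4 = X k := by
    obtain ⟨g, hg, hc, hne⟩ := h
    have hfix := step hg hc 4 (x_facts k).2.2
    rcases fix_T k _ hfix with h' | h' | h' | h'
    · exact absurd h' (hA.ne_zero hg (by decide))
    · exact absurd h' hne
    · exact ⟨g, hg, hc, h'⟩
    · refine ⟨p * g, mul_mem (hA.tmem _) hg, ?_, by rw [Equiv.Perm.mul_apply, h', hp']⟩
      rw [mul_assoc, hc, ← mul_assoc, hpc, mul_assoc]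
  obtain ⟨g, hg, hc, h4, hgX⟩ : ∃ g ∈ G, g * T k = T k * g ∧ g 4 = X k ∧ g (X k) = X k ^^^ 4 := by
    have hXfix : T k (X k) = X k := (x_facts k).1
    rcases fix_T k _ (step hg hc _ hXfix) with h' | h' | h' | h'
    · exact absurd h' (hA.ne_zero hg hX0)
    · refine ⟨g * p, mul_mem hg (hA.tmem _), ?_, by rw [Equiv.Perm.mul_apply, hp4, h4], ?_⟩
      · rw [mul_assoc, hpc, ← mul_assoc, hc, mul_assoc]
      · rw [Equiv.Perm.mul_apply, hp, hA.lin g hg, h', h4, h4X]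
    · exact absurd (g.injective (h'.trans h4.symm)) hX
    · exact ⟨g, hg, hc, h4, h'⟩
  have hgY : g (X k ^^^ 4) = 4 := by
    rw [hA.lin g hg, hgX, h4]
    exact (x_facts k).2.1
  have hU3 : IsU (g * g * g) := by
    refine hA.stab _ (mul_mem (mul_mem hg hg) hg)
      (by rw [Equiv.Perm.mul_apply, Equiv.Perm.mul_apply, h4, hgX, hgY]) k ?_
    have hC : Commute g (T k) := hc
    exact ((hC.mul_left hC).mul_left hC).eq
  have hUp : IsU (p * g * (p * g)) := by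
    refine hA.stab _ (mul_mem (mul_mem (hA.tmem _) hg) (mul_mem (hA.tmem _) hg))
      (by simp only [Equiv.Perm.mul_apply, h4, hp, hgY, hp4]) k ?_
    have hC : Commute g (T k) := hc
    have hP : Commute p (T k) := hpc
    exact ((hP.mul_left hC).mul_left (hP.mul_left hC)).eq
  obtain ⟨q, r, hb⟩ : ∃ q r, (g 1, g 2, g 4, g 8) = bas k q r := by
    fin_cases k
    · exact ⟨g 1, g 2, by rw [h4, show g 8 = _ from hgX]; rfl⟩
    · exact ⟨g 2, g 8, by rw [h4, show g 1 = _ from hgX]; rfl⟩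
    · refine ⟨g 1, g 2, ?_⟩
      rw [show (8 : Fin 16) = 1 ^^^ 9 by rfl, hA.lin g hg, h4, show g 9 = _ from hgX]
      rfl
  have hf : ∀ j, g j = mk4 (bas k q r) j := fun j => by rw [← hb]; exact hA.eq_mk4 hg j
  obtain ⟨u, hu⟩ := hU3
  obtain ⟨v, hv⟩ := hUp
  obtain ⟨e, he⟩ := cand k q r (fun j => by rw [← hf, ← hf]; exact congrArg (fun σ : P16 => σ j) hc)
    ⟨u, fun j => by rw [← hf, ← hf, ← hf]; exact congrArg (fun σ : P16 => σ j) hu⟩
    ⟨v, fun j => by rw [← hf, ← hf]; exact congrArg (fun σ : P16 => σ j) hv⟩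
  exact ⟨g, hg, e, Equiv.ext fun j => by rw [← he j, ← hf, ← hf, ← hf, ← hf]; rfl⟩

/-- The normal complement of the four-group. -/
theorem exists_compl (hA : Aut G) (hS : ∀ g ∈ G, g 4 = 4 → IsU g) :
    ∃ K : Subgroup P16, K ≤ G ∧ (∀ x ∈ K, x 4 = 4 → x = 1) ∧ (∀ g ∈ G, g ^ 4 ∈ K) ∧
      (∀ x ∈ K, ∀ k, T k * x * T k ∈ K) ∧ (∀ g ∈ G, ∃ x ∈ K, ∃ u, g = x * U4 u) ∧
      ∀ x ∈ K, Odd (orderOf x) := by
  have : Fact (Nat.Prime 2) := ⟨Nat.prime_two⟩
  have hc4 : Nat.card (U.subgroupOf G) = 2 ^ 2 := by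
    rw [Nat.card_congr (subgroupOfEquivOfLe hA.u_le).toEquiv, card_U]
    norm_num
  let P : Sylow 2 G := (IsPGroup.of_card hc4).toSylow (by
    intro h
    have h' := (U.subgroupOf G).card_mul_index
    rw [hc4] at h'
    obtain ⟨c, hc⟩ := h
    exact hA.not8 ⟨c, by rw [← h', hc]; ring⟩)
  have hP : (P : Subgroup G) = U.subgroupOf G := rfl
  have hN : normalizer ((P : Subgroup G) : Set G) ≤ centralizer ((P : Subgroup G) : Set G) := by
    intro g hg
    rw [hP] at hg ⊢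
    have hfix : ∀ k, T k ((g : P16) 4) = (g : P16) 4 := fun k => by
      have hmem := (mem_normalizer_iff''.1 hg (⟨T k, hA.tmem k⟩ : G)).1
        (mem_subgroupOf.2 ⟨k.succ, t_u4 k⟩)
      have h4 := isU_pt (mem_subgroupOf.1 hmem)
      simp only [Subgroup.coe_mul, Subgroup.coe_inv, Equiv.Perm.mul_apply] at h4
      exact (Equiv.Perm.inv_eq_iff_eq.1 h4)
    rcases fix_U _ hfix with h | h
    · exact absurd h (hA.ne_zero g.2 (by decide))
    · refine mem_centralizer_iff.2 fun y hy => Subtype.ext ?_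
      obtain ⟨u, hu⟩ := hS g g.2 h
      obtain ⟨v, hv⟩ := mem_subgroupOf.1 hy
      rw [Subgroup.coe_mul, Subgroup.coe_mul, hu, hv]
      exact Equiv.ext fun j => u4_comm v u j
  obtain ⟨Q, hQn, hcompl, hodd⟩ : ∃ Q : Subgroup G, Q.Normal ∧ IsComplement' Q (P : Subgroup G) ∧
      ¬ 2 ∣ Nat.card Q :=
    ⟨_, MonoidHom.normal_ker _, MonoidHom.ker_transferSylow_isComplement' P hN,
      MonoidHom.not_dvd_card_ker_transferSylow P hN⟩
  have hidx : Q.index = 4 := by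
    rw [hcompl.symm.index_eq_card, hP, hc4]; rfl
  refine ⟨Q.map G.subtype, map_subtype_le _, ?_, fun g hg => ?_, ?_, fun g hg => ?_, ?_⟩
  · rintro _ ⟨x, hx, rfl⟩ h4
    obtain ⟨u, hu⟩ := hS x x.2 h4
    have : x = 1 := Subgroup.disjoint_def.1 hcompl.disjoint hx (mem_subgroupOf.2 ⟨u, hu⟩)
    rw [this, map_one]
  · have h := mem_map_of_mem G.subtype (Q.pow_index_mem (⟨g, hg⟩ : G))
    rw [hidx, map_pow] at h
    exact h
  · rintro _ ⟨x, hx, rfl⟩ k
    refine ⟨⟨T k, hA.tmem k⟩ * x * ⟨T k, hA.tmem k⟩⁻¹, hQn.conj_mem x hx _, ?_⟩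
    rw [map_mul, map_mul, map_inv]
    show T k * (x : P16) * (T k)⁻¹ = _
    rw [inv_eq_of_mul_eq_one_right (t_sq k)]
    rfl
  · obtain ⟨⟨x, p⟩, h, -⟩ := hcompl.existsUnique (⟨g, hg⟩ : G)
    obtain ⟨u, hu⟩ := mem_subgroupOf.1 p.2
    exact ⟨_, mem_map_of_mem _ x.2, u, by rw [← hu]; exact (congrArg Subtype.val h).symm⟩
  · rintro _ ⟨x, hx, rfl⟩
    rw [orderOf_injective G.subtype G.subtype_injective, Nat.odd_iff]
    by_contra h
    exact hodd ((Nat.dvd_of_mod_eq_zero (by omega)).trans (Subgroup.orderOf_dvd_natCard Q hx))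

end Aut

end Cfsg.Agent.A8Type.AutPerm
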