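import Cfsg.Agent.A8Type.Cz.Cases
import Cfsg.Agent.Signalizer.RankGraph
import Cfsg.Agent.SylowNumber.Formula
import Cfsg.Agent.Coprime.Generation
import Cfsg.Agent.S0217
import Cfsg.Agent.S0205
import Cfsg.Agent.S1225

/-!
When all involution centralizers are solvable and there are two classes of involutions, the cores of
the centralizers of the involutions of the model are trivial: all four-groups of the model give the
same closure of cores, whose normalizer would be strongly embedded.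
-/

set_option autoImplicit false
set_option maxRecDepth 8000

namespace Cfsg.Agent.A8Type

open Subgroup

/-- Two commuting involutions generating a four-group. -/
def IsFourPair {G : Type*} [Group G] (p q : G) : Prop :=
  p * p = 1 ∧ q * q = 1 ∧ p ≠ 1 ∧ q ≠ 1 ∧ p ≠ q ∧ Commute p q

/-- The cores over a four-group. -/
def four {G : Type*} [Group G] (p q : G) : Subgroup G :=
  theta p ⊔ theta q ⊔ theta (p * q)

section general

variable {G : Type*} [Group G]

theorem four_conj [Finite G] (g p q : G) :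
    four (g * p * g⁻¹) (g * q * g⁻¹) = (four p q).map (MulAut.conj g).toMonoidHom := by
  haveI : Fact (Nat.Prime 2) := ⟨Nat.prime_two⟩
  rw [four, four, Subgroup.map_sup, Subgroup.map_sup]
  show centralizerPPrimeCore 2 _ ⊔ centralizerPPrimeCore 2 _ ⊔ centralizerPPrimeCore 2 _ = _
  rw [conj_mul, Signalizer.core_conj, Signalizer.core_conj, Signalizer.core_conj]

theorem IsFourPair.mul_ne {p q : G} (h : IsFourPair p q) : p * q ≠ 1 := fun e =>
  h.2.2.2.2.1 (mul_right_cancel (e.trans h.2.1.symm))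

theorem IsFourPair.mul_sq {p q : G} (h : IsFourPair p q) : p * q * (p * q) = 1 := by
  rw [h.2.2.2.2.2.symm.mul_mul_mul_comm, h.1, h.2.1, one_mul]

theorem IsFourPair.conj {p q : G} (h : IsFourPair p q) (g : G) :
    IsFourPair (g * p * g⁻¹) (g * q * g⁻¹) := by
  obtain ⟨h1, h2, h3, h4, h5, h6⟩ := h
  refine ⟨?_, ?_, fun e => h3 (conj_eq_one_iff.1 e), fun e => h4 (conj_eq_one_iff.1 e),
    fun e => h5 (mul_left_cancel (mul_right_cancel e)), (Commute.conj_iff g).2 h6⟩
  · rw [conj_mul, h1]; group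
  · rw [conj_mul, h2]; group

variable [Finite G]

theorem orderOf_two {a : G} (h : a * a = 1) (h1 : a ≠ 1) : orderOf a = 2 :=
  Invol.orderOf_eq_two_iff.2 ⟨h1, h⟩

/-- Balance. -/
theorem theta_balance (hsol : ∀ x : G, orderOf x = 2 → Group.IsSolvable (centralizer ({x} : Set G)))
    {a b : G} (ha : orderOf a = 2) (hb : orderOf b = 2) (hab : Commute a b) :
    theta a ⊓ centralizer ({b} : Set G) ≤ theta b := by
  haveI : Fact (Nat.Prime 2) := ⟨Nat.prime_two⟩
  haveI := hsol b hb
  exact Signalizer.core_balance hab.eq ha Layer.isPConstrained_of_isSolvable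

/-- The core of the centralizer of an involution lies in the closure over each four-group it
commutes with. -/
theorem theta_le_four (hsol : ∀ x : G, orderOf x = 2 → Group.IsSolvable (centralizer ({x} : Set G)))
    {a r s : G} (ha : orderOf a = 2) (h : IsFourPair r s) (hr : Commute a r) (hs : Commute a s) :
    theta a ≤ four r s := by
  haveI : Fact (Nat.Prime 2) := ⟨Nat.prime_two⟩
  obtain ⟨r2, s2, r1, s1, hne, hc⟩ := h
  let U : Subgroup G :=
    { carrier := {x | x = 1 ∨ x = r ∨ x = s ∨ x = r * s}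
      one_mem' := Or.inl rfl
      mul_mem' := by
        intro x y hx hy
        have e1 : s * r = r * s := hc.eq.symm
        have e2 : r * (r * s) = s := by rw [← mul_assoc, r2, one_mul]
        have e3 : s * (r * s) = r := by rw [← mul_assoc, e1, mul_assoc, s2, mul_one]
        have e4 : r * s * r = s := by rw [mul_assoc, e1, e2]
        have e5 : r * s * s = r := by rw [mul_assoc, s2, mul_one]
        have e6 : r * s * (r * s) = 1 := by rw [mul_assoc, e3, r2]
        simp only [Set.mem_setOf_eq] at hx hy ⊢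
        rcases hx with rfl | rfl | rfl | rfl <;> rcases hy with rfl | rfl | rfl | rfl <;>
          simp [r2, s2, e1, e2, e3, e4, e5, e6]
      inv_mem' := by
        intro x hx
        simp only [Set.mem_setOf_eq] at hx ⊢
        have hi : (r * s)⁻¹ = r * s := by
          rw [mul_inv_rev, inv_eq_of_mul_eq_one_left r2, inv_eq_of_mul_eq_one_left s2, hc.eq]
        rcases hx with rfl | rfl | rfl | rfl
        · simp
        · simp [inv_eq_of_mul_eq_one_left r2]
        · simp [inv_eq_of_mul_eq_one_left s2]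
        · simp [hi] }
  have hUa : ∀ x ∈ U, Commute x a := by
    rintro x (rfl | rfl | rfl | rfl)
    exacts [Commute.one_left _, hr.symm, hs.symm, hr.symm.mul_left hs.symm]
  haveI : IsMulCommutative U := ⟨⟨fun x y => Subtype.ext (by
    have e := hc.eq
    rcases x.2 with e1 | e1 | e1 | e1 <;> rcases y.2 with e2 | e2 | e2 | e2 <;>
      simp only [Subgroup.coe_mul, e1, e2, one_mul, mul_one] <;>
      first
      | exact e
      | exact e.symm
      | exact ((Commute.refl r).mul_right hc).eq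
      | exact ((Commute.refl r).mul_right hc).eq.symm
      | exact (hc.symm.mul_right (Commute.refl s)).eq
      | exact (hc.symm.mul_right (Commute.refl s)).eq.symm)⟩⟩
  have hU2 : IsPGroup 2 U := fun x => ⟨1, Subtype.ext (by
    rw [pow_one, sq]
    rcases x.2 with e | e | e | e <;>
      simp only [Subgroup.coe_mul, OneMemClass.coe_one, e, one_mul, r2, s2]
    rw [hc.symm.mul_mul_mul_comm, r2, s2, one_mul])⟩
  have hcyc : ¬ IsCyclic U := fun hcy => hne
    (Invol.eq_of_isCyclic_of_orderOf_two hcy (orderOf_two r2 r1) (orderOf_two s2 s1)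
      (Or.inr (Or.inl rfl)) (Or.inr (Or.inr (Or.inl rfl))))
  have hUN : U ≤ normalizer (theta a : Set G) := fun x hx => by
    refine mem_normalizer_iff.2 fun w => ⟨fun hw => theta_normal (hUa x hx) hw, fun hw => ?_⟩
    have := theta_normal (hUa x hx).inv_left hw
    rwa [show x⁻¹ * (x * w * x⁻¹) * x⁻¹⁻¹ = w by group] at this
  have hcop : (Nat.card U).Coprime (Nat.card (theta a)) := by
    obtain ⟨n, hn⟩ := IsPGroup.iff_card.1 hU2
    rw [hn]
    exact ((Nat.prime_two.coprime_iff_not_dvd).2 (theta_odd a)).pow_left n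
  refine (Coprime.iSup_centralizer_eq hcyc hUN hcop).ge.trans (iSup₂_le fun x hx => ?_)
  have hx1 : x ≠ 1 := hx.2
  have hx2 : x * x = 1 := by
    rcases hx.1 with rfl | rfl | rfl | rfl
    exacts [one_mul _, r2, s2, (by rw [hc.symm.mul_mul_mul_comm, r2, s2, one_mul])]
  refine (theta_balance hsol ha (orderOf_two hx2 hx1) (hUa x hx.1).symm).trans ?_
  rcases hx.1 with rfl | rfl | rfl | rfl
  exacts [absurd rfl hx1, le_sup_of_le_left le_sup_left, le_sup_of_le_left le_sup_right, le_sup_right]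

/-- Commuting four-groups give the same closure. -/
theorem four_eq_four (hsol : ∀ x : G, orderOf x = 2 → Group.IsSolvable (centralizer ({x} : Set G)))
    {p q r s : G} (h : IsFourPair p q) (h' : IsFourPair r s) (hpr : Commute p r) (hps : Commute p s)
    (hqr : Commute q r) (hqs : Commute q s) : four p q = four r s := by
  have key : ∀ {p q r s : G}, IsFourPair p q → IsFourPair r s → Commute p r → Commute p s →
      Commute q r → Commute q s → four p q ≤ four r s := fun {p q r s} h h' hpr hps hqr hqs =>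
    sup_le (sup_le (theta_le_four hsol (orderOf_two h.1 h.2.2.1) h' hpr hps)
      (theta_le_four hsol (orderOf_two h.2.1 h.2.2.2.1) h' hqr hqs))
      (theta_le_four hsol (orderOf_two h.mul_sq h.mul_ne) h' (hpr.mul_left hqr) (hps.mul_left hqs))
  exact le_antisymm (key h h' hpr hps hqr hqs) (key h' h hpr.symm hqr.symm hps.symm hqs.symm)

end general

namespace UT

theorem cent_A : (∀ s : UT, s * s = 1 → ∃ a : UT, a ∈ AS ∧ a ≠ 1 ∧ a ≠ zs ∧ a * s = s * a) ∧
    x13 ∈ AS ∧ x13 * x13 = 1 ∧ x13 ≠ 1 ∧ x13 ≠ zs := by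
  refine ⟨by decide +kernel, by decide +kernel, by decide +kernel, by decide +kernel, by decide +kernel⟩

end UT

namespace Base

variable {G : Type*} [Group G] [Finite G] (B : Base G)

/-- The closure of the cores over `A`. -/
def closA : Subgroup G :=
  ⨆ a : {a : G // a ∈ B.A ∧ a ≠ 1}, theta (a : G)

omit [Finite G] in
theorem pair_f {p q : UT} (hp : p * p = 1) (hq : q * q = 1) (hp1 : p ≠ 1) (hq1 : q ≠ 1) (hne : p ≠ q)
    (hc : p * q = q * p) : IsFourPair (B.f p) (B.f q) :=
  ⟨by rw [← map_mul, hp, map_one], by rw [← map_mul, hq, map_one],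
    fun e => hp1 (B.inj (e.trans (map_one B.f).symm)), fun e => hq1 (B.inj (e.trans (map_one B.f).symm)),
    fun e => hne (B.inj e), by show _ * _ = _ * _; rw [← map_mul, hc, map_mul]⟩

variable (hsol : ∀ x : G, orderOf x = 2 → Group.IsSolvable (centralizer ({x} : Set G)))
include hsol

theorem four_A {p q : G} (hp : p ∈ B.A) (hq : q ∈ B.A) (h : IsFourPair p q) : four p q = B.closA := by
  have hle : ∀ {a : G}, a ∈ B.A → a ≠ 1 → theta a ≤ B.closA := fun {a} ha ha1 =>
    le_iSup (fun a : {a : G // a ∈ B.A ∧ a ≠ 1} => theta (a : G)) ⟨a, ha, ha1⟩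
  refine le_antisymm (sup_le (sup_le (hle hp h.2.2.1) (hle hq h.2.2.2.1)) (hle (mul_mem hp hq) h.mul_ne))
    (iSup_le fun a => ?_)
  exact theta_le_four hsol (orderOf_two (B.A_sq _ a.2.1) a.2.2) h (B.A_comm _ a.2.1 _ hp)
    (B.A_comm _ a.2.1 _ hq)

/-- All four-groups of the model give the same closure. -/
theorem four_range {p q : G} (hp : p ∈ B.f.range) (hq : q ∈ B.f.range) (h : IsFourPair p q) :
    four p q = B.closA := by
  obtain ⟨r, rfl⟩ := hp
  obtain ⟨s, rfl⟩ := hq
  have key : ∀ e : UT, e * e = 1 → e ≠ 1 → e ≠ zs → four (B.f zs) (B.f e) = B.closA := by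
    intro e he he1 hez
    obtain ⟨a, ha, ha1, haz, hae⟩ := UT.cent_A.1 e he
    have hzc : ∀ w : UT, Commute (B.f zs) (B.f w) := fun w => (B.comm_z w).symm
    have hP := B.pair_f UT.zs_facts.2.1 (UT.AS_facts.2.1 a ha) UT.zs_facts.1 ha1 haz.symm
      (UT.zs_facts.2.2.1 a).symm
    have hQ := B.pair_f UT.zs_facts.2.1 he UT.zs_facts.1 he1 hez.symm (UT.zs_facts.2.2.1 e).symm
    rw [four_eq_four hsol hQ hP (Commute.refl _) (hzc a) (B.comm_z e)
      (show Commute (B.f e) (B.f a) by show _ * _ = _ * _; rw [← map_mul, ← hae, map_mul])]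
    exact B.four_A hsol (mem_map_of_mem _ UT.AS_facts.2.2.2.2) (mem_map_of_mem _ ha) hP
  obtain ⟨hr2, hs2, hr1, hs1, hne, hc⟩ := h
  have hr : r * r = 1 ∧ r ≠ 1 := ⟨B.inj (by rw [map_mul, map_one]; exact hr2),
    fun e => hr1 (by rw [e, map_one])⟩
  have hs : s * s = 1 ∧ s ≠ 1 := ⟨B.inj (by rw [map_mul, map_one]; exact hs2),
    fun e => hs1 (by rw [e, map_one])⟩
  by_cases hrz : r = zs
  · subst hrz
    exact key s hs.1 hs.2 fun e => hne (by rw [e])
  · rw [four_eq_four hsol ⟨hr2, hs2, hr1, hs1, hne, hc⟩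
      (B.pair_f UT.zs_facts.2.1 hr.1 UT.zs_facts.1 hr.2 (Ne.symm hrz) (UT.zs_facts.2.2.1 r).symm)
      (B.comm_z r) (Commute.refl _) (B.comm_z s) hc.symm]
    exact key r hr.1 hr.2 hrz

/-- An element moving a four-group of the closure to another one normalizes the closure. -/
theorem mem_N {g p q : G} (h : four p q = B.closA) (h' : four (g * p * g⁻¹) (g * q * g⁻¹) = B.closA) :
    g ∈ normalizer (B.closA : Set G) := by
  refine mem_normalizer_iff_map_conj_eq.2 ?_
  rw [four_conj, h] at h'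
  exact h'

theorem range_le_N : B.f.range ≤ normalizer (B.closA : Set G) := by
  rintro _ ⟨r, rfl⟩
  have hP := B.pair_f UT.zs_facts.2.1 UT.cent_A.2.2.1 UT.zs_facts.1 UT.cent_A.2.2.2.1
    UT.cent_A.2.2.2.2.symm (UT.zs_facts.2.2.1 _).symm
  refine B.mem_N hsol (B.four_range hsol ⟨zs, rfl⟩ ⟨UT.x13, rfl⟩ hP)
    (B.four_range hsol ⟨r * zs * r⁻¹, B.conj_f _ _⟩ ⟨r * UT.x13 * r⁻¹, B.conj_f _ _⟩ (hP.conj _))

/-- A 2-group containing one four-group of the closure has only such four-groups, and is moved into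
the model inside the normalizer of the closure. -/
theorem two_group {T : Subgroup G} (hT : IsPGroup 2 T) {p q : G} (hp : p ∈ T) (hq : q ∈ T)
    (h : IsFourPair p q) (hW : four p q = B.closA) :
    ∃ c ∈ normalizer (B.closA : Set G), (∀ x ∈ T, c * x * c⁻¹ ∈ B.f.range) ∧
      ∀ r ∈ T, ∀ s ∈ T, IsFourPair r s → four r s = B.closA := by
  obtain ⟨c, -, hcs⟩ := B.conj_into (H := ⊤) le_top hT le_top
  have hin : ∀ x ∈ T, c * x * c⁻¹ ∈ B.f.range := fun x hx => by
    obtain ⟨s, hs⟩ := hcs x hx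
    exact ⟨s, hs.symm⟩
  have hc := B.mem_N hsol hW (B.four_range hsol (hin p hp) (hin q hq) (h.conj c))
  refine ⟨c, hc, hin, fun r hr s hs hrs => ?_⟩
  have h1 := B.four_range hsol (hin r hr) (hin s hs) (hrs.conj c)
  rw [four_conj] at h1
  have h2 := mem_normalizer_iff_map_conj_eq.1 hc
  exact Subgroup.map_injective (MulEquiv.injective (MulAut.conj c)) (h1.trans h2.symm)

omit hsol in
theorem four_in_centS {s : UT} (hs : s * s = 1) :
    ∃ a : UT, a ∈ AS ∧ a ≠ 1 ∧ a ≠ zs ∧ B.f a ∈ B.centS s ∧ B.f zs ∈ B.centS s := by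
  obtain ⟨a, ha, ha1, haz, hc⟩ := UT.cent_A.1 s hs
  exact ⟨a, ha, ha1, haz, mem_map_of_mem _ (mem_centralizer_singleton_iff.2 hc),
    mem_map_of_mem _ (mem_centralizer_singleton_iff.2 (UT.zs_facts.2.2.1 s).symm)⟩

variable (h : B.Simp)
include h

/-- The core of the centralizer of an involution of the model lies in the closure. -/
theorem theta_le_clos {s : UT} (hs : s * s = 1) (hs1 : s ≠ 1) : theta (B.f s) ≤ B.closA := by
  obtain ⟨a, ha, ha1, haz, hac, hzc⟩ := B.four_in_centS hs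
  have hP := B.pair_f UT.zs_facts.2.1 (UT.AS_facts.2.1 a ha) UT.zs_facts.1 ha1 haz.symm
    (UT.zs_facts.2.2.1 a).symm
  rw [← B.four_range hsol ⟨zs, rfl⟩ ⟨a, rfl⟩ hP]
  exact theta_le_four hsol (B.orderOf_f hs hs1) hP
    (mem_centralizer_singleton_iff.1 (B.centS_le s hzc)).symm
    (mem_centralizer_singleton_iff.1 (B.centS_le s hac)).symm

/-- The centralizer of the central involution normalizes the closure. -/
theorem cent_z_le_N {g : G} (hg : Commute g B.z) : g ∈ normalizer (B.closA : Set G) := by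
  obtain ⟨o, ho, s, n, ⟨hnz, i, j, hn⟩, rfl⟩ := B.exists_spl h hg
  obtain ⟨-, h13A, h13, h131, h13z⟩ := UT.cent_A
  have h13Q : UT.x13 ∈ QS := UT.gen_AQ.2.1
  have hP := B.pair_f UT.zs_facts.2.1 h13 UT.zs_facts.1 h131 h13z.symm (UT.zs_facts.2.2.1 _).symm
  refine mul_mem (mul_mem (le_normalizer (B.theta_le_clos hsol h UT.zs_facts.2.1 UT.zs_facts.1 ho))
    (B.range_le_N hsol ⟨s, rfl⟩)) (B.mem_N hsol (B.four_range hsol ⟨zs, rfl⟩ ⟨UT.x13, rfl⟩ hP)
      (B.four_range hsol ⟨zs, ?_⟩ ⟨rho i j UT.x13, (hn _ h13Q).symm⟩ (hP.conj _)))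
  exact (mul_inv_eq_iff_eq_mul.2 hnz.eq).symm

/-- The centralizers of the involutions of the model normalize the closure. -/
theorem cent_le_N {u : UT} (hu : u * u = 1) (hu1 : u ≠ 1) {g : G} (hg : Commute g (B.f u)) :
    g ∈ normalizer (B.closA : Set G) := by
  classical
  haveI : Fact (Nat.Prime 2) := ⟨Nat.prime_two⟩
  set M := normalizer (B.closA : Set G)
  by_cases huz : u = zs
  · subst huz; exact B.cent_z_le_N hsol h hg
  set x := B.f u with hx
  set C := centralizer ({x} : Set G) with hC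
  obtain ⟨T, hT⟩ := (show IsPGroup 2 ((B.centS u).subgroupOf C) by
    obtain ⟨S, hS⟩ := B.sylow
    exact (S.2.to_le (hS ▸ map_le_range B.f _)).comap_subtype).exists_le_sylow
  set T' := (T : Subgroup C).map C.subtype with hT'
  have hxC : x ∈ C := mem_centralizer_singleton_iff.2 rfl
  have hxT : (⟨x, hxC⟩ : C) ∈ (T : Subgroup C) :=
    hT (mem_subgroupOf.2 (mem_map_of_mem _ (mem_centralizer_singleton_iff.2 rfl)))
  have hzu : B.f zs ∈ B.centS u :=
    mem_map_of_mem _ (mem_centralizer_singleton_iff.2 (UT.zs_facts.2.2.1 u).symm)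
  have hzC : B.f zs ∈ C := B.centS_le u hzu
  have hzT : B.f zs ∈ T' := mem_map_of_mem C.subtype (hT (show (⟨_, hzC⟩ : C) ∈ _ from hzu))
  have hxT' : x ∈ T' := mem_map_of_mem C.subtype hxT
  have hP := B.pair_f UT.zs_facts.2.1 hu UT.zs_facts.1 hu1 (Ne.symm huz) (UT.zs_facts.2.2.1 u).symm
  obtain ⟨c, hc, hin, hall⟩ := B.two_group hsol (T.2.map C.subtype) hzT hxT' hP
    (B.four_range hsol ⟨zs, rfl⟩ ⟨u, rfl⟩ hP)
  by_cases hcz : c * x * c⁻¹ = B.z
  · have h1 : c * g * c⁻¹ ∈ M := B.cent_z_le_N hsol h (hcz ▸ (Commute.conj_iff c).2 hg)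
    have h2 := mul_mem (mul_mem (inv_mem hc) h1) hc
    rwa [show c⁻¹ * (c * g * c⁻¹) * c = g by group] at h2
  -- a second central involution of the Sylow subgroup
  set w := c⁻¹ * B.z * c with hw
  have hwc : ∀ y ∈ T', Commute w y := by
    intro y hy
    obtain ⟨r, hr⟩ := hin y hy
    refine (Commute.conj_iff c).1 ?_
    rw [show c * w * c⁻¹ = B.z by rw [hw]; group, ← hr]
    exact (B.comm_z r).symm
  have hw2 : orderOf w = 2 := by
    rw [hw, show c⁻¹ * B.z * c = c⁻¹ * B.z * c⁻¹⁻¹ by rw [inv_inv], Invol.orderOf_conj, B.orderOf_z]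
  have hwC : w ∈ C := mem_centralizer_singleton_iff.2 (hwc x hxT').eq
  set w' : C := ⟨w, hwC⟩
  have hwT : w' ∈ (T : Subgroup C) := by
    have hsup : IsPGroup 2 ((T : Subgroup C) ⊔ zpowers w' : Subgroup C) := by
      refine T.2.to_sup_of_normal_left' (IsPGroup.of_card (n := 1) (by
        rw [Nat.card_zpowers, pow_one, ← Subgroup.orderOf_coe]; exact hw2)) (zpowers_le.2 ?_)
      exact centralizer_le_normalizer _ (mem_centralizer_iff.2 fun y hy =>
        Subtype.ext (hwc _ (mem_map_of_mem C.subtype hy)).eq.symm)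
    rw [← T.is_maximal' hsup le_sup_left]
    exact mem_sup_right (mem_zpowers w')
  have hwx : w ≠ x := fun e => hcz (by rw [← e, hw]; group)
  have hwpair : IsFourPair x w := by
    obtain ⟨h1, h2⟩ := Invol.orderOf_eq_two_iff.1 hw2
    exact ⟨by rw [hx, ← map_mul, hu, map_one], h2,
      fun e => hu1 (B.inj (e.trans (map_one B.f).symm)), h1, Ne.symm hwx, (hwc x hxT').symm⟩
  -- the solvable centralizer
  haveI hCsol : Group.IsSolvable C := hsol x (B.orderOf_f hu hu1)
  set N := pPrimePCore 2 C with hN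
  set f := QuotientGroup.mk' (pPrimeCore 2 C) with hf
  haveI hNn : N.Normal := by
    haveI : (pCore 2 (C ⧸ pPrimeCore 2 C)).Normal := inferInstance
    rw [hN, pPrimePCore]
    exact Subgroup.Normal.comap inferInstance _
  obtain ⟨R, hR⟩ := SylowNumber.exists_sylow_inf T N
  set R' := (R : Subgroup N).map N.subtype with hR'
  have hRmem : ∀ y, y ∈ R' → y ∈ (T : Subgroup C) ∧ y ∈ N := by
    rintro _ ⟨y, hy, rfl⟩
    rw [SetLike.mem_coe, hR, mem_subgroupOf] at hy
    exact hy
  have hmemR : ∀ y, y ∈ (T : Subgroup C) → y ∈ N → y ∈ R' := fun y hy hyN =>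
    ⟨⟨y, hyN⟩, by rw [SetLike.mem_coe, hR, mem_subgroupOf]; exact ⟨hy, hyN⟩, rfl⟩
  have hcent : centralizer (R' : Set C) ≤ N :=
    Layer.isPConstrained_of_isSolvable (p := 2) (G := C) R
  have hTcent : ∀ y : C, y ∈ (T : Subgroup C) → (∀ t ∈ (T : Subgroup C), Commute (y : G) t) → y ∈ R' :=
    fun y hy hyc => hmemR y hy (hcent (mem_centralizer_iff.2 fun r hr =>
      (Subtype.ext (hyc r (hRmem r hr).1).eq.symm)))
  have hxR : (⟨x, hxC⟩ : C) ∈ R' := hTcent _ hxT fun t _ => (mem_centralizer_singleton_iff.1 t.2).symm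
  have hwR : w' ∈ R' := hTcent _ hwT fun t ht => hwc _ (mem_map_of_mem C.subtype ht)
  have hTM : T' ≤ M := fun y hy => by
    have h1 := B.range_le_N hsol (hin y hy)
    have h2 := mul_mem (mul_mem (inv_mem hc) h1) hc
    rwa [show c⁻¹ * (c * y * c⁻¹) * c = y by group] at h2
  have hNM : ∀ y ∈ N, (y : G) ∈ M := by
    intro y hy
    have hsurj : Function.Surjective (f.subgroupComap (pCore 2 (C ⧸ pPrimeCore 2 C))) :=
      MonoidHom.subgroupComap_surjective_of_surjective f _ (QuotientGroup.mk'_surjective _)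
    have htop : (R.mapSurjective hsurj : Subgroup ↥(pCore 2 (C ⧸ pPrimeCore 2 C))) = ⊤ :=
      ((R.mapSurjective hsurj).is_maximal' (Core.pCore_isPGroup.to_subgroup ⊤) le_top).symm
    have hy' : (⟨f y, hy⟩ : ↥(pCore 2 (C ⧸ pPrimeCore 2 C))) ∈ (R.mapSurjective hsurj : Subgroup _) :=
      htop ▸ mem_top _
    obtain ⟨r, hr, hre⟩ := hy'
    have hre' : f (r : C) = f y := congrArg Subtype.val hre
    have ho : y * (r : C)⁻¹ ∈ pPrimeCore 2 C := by
      rw [← QuotientGroup.eq_one_iff]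
      show f (y * (r : C)⁻¹) = 1
      rw [map_mul, map_inv, hre', mul_inv_cancel]
    have h1 : ((y * (r : C)⁻¹ : C) : G) ∈ M :=
      le_normalizer (B.theta_le_clos hsol h hu hu1 (mem_map_of_mem C.subtype ho))
    have h2 := mul_mem h1 (hTM (mem_map_of_mem C.subtype (hRmem _ (mem_map_of_mem N.subtype hr)).1))
    rwa [show ((y * (r : C)⁻¹ : C) : G) * C.subtype (N.subtype r) = (y : G) by
      show ((y * (r : C)⁻¹ : C) : G) * ((r : C) : G) = (y : G)
      rw [← Subgroup.coe_mul, inv_mul_cancel_right]] at h2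
  -- the Frattini argument
  have hfr : normalizer (R' : Set C) ⊔ N = ⊤ := Sylow.normalizer_sup_eq_top R
  set gc : C := ⟨g, mem_centralizer_singleton_iff.2 hg.eq⟩
  have hgt : gc ∈ normalizer (R' : Set C) ⊔ N := hfr ▸ mem_top _
  obtain ⟨n, hn, y, hy, hny⟩ := mem_sup_of_normal_right.1 hgt
  have hnx : (n : G) * x * (n : G)⁻¹ = x := by
    rw [mem_centralizer_singleton_iff.1 n.2, mul_inv_cancel_right]
  have hnw := (hRmem _ ((mem_normalizer_iff.1 hn w').1 hwR)).1
  have hnM : (n : G) ∈ M := B.mem_N hsol (hall x hxT' w (mem_map_of_mem C.subtype hwT) hwpair)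
    (hall _ (hnx.symm ▸ hxT') _ (mem_map_of_mem C.subtype hnw) (hwpair.conj _))
  have := mul_mem hnM (hNM y hy)
  rwa [← Subgroup.coe_mul, hny] at this

/-- The cores are trivial. -/
theorem theta_eq_bot (h2 : ∃ y : G, orderOf y = 2 ∧ ¬ IsConj B.z y) {u : UT} (hu : u * u = 1)
    (hu1 : u ≠ 1) : theta (B.f u) = ⊥ := by
  classical
  haveI : Fact (Nat.Prime 2) := ⟨Nat.prime_two⟩
  set M := normalizer (B.closA : Set G) with hM
  have hrM : B.f.range ≤ M := B.range_le_N hsol
  -- fusion is controlled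
  have control : ∀ {r s : UT}, r * r = 1 → r ≠ 1 → s * s = 1 → s ≠ 1 → ∀ g : G,
      g * B.f r * g⁻¹ = B.f s → g ∈ M := by
    intro r s hr hr1 hs hs1 g hg
    obtain ⟨S, hS⟩ := B.sylow
    set C := centralizer ({B.f r} : Set G)
    set D := centralizer ({B.f s} : Set G)
    obtain ⟨T, hT⟩ := (show IsPGroup 2 ((B.centS s).subgroupOf D) from
      (S.2.to_le (hS ▸ map_le_range B.f _)).comap_subtype).exists_le_sylow
    set U := (B.centS r).map (MulAut.conj g).toMonoidHom with hU
    have hUD : U ≤ D := by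
      rintro _ ⟨x, hx, rfl⟩
      refine mem_centralizer_singleton_iff.2 ?_
      rw [← hg]
      exact ((Commute.conj_iff g).2 (mem_centralizer_singleton_iff.1 (B.centS_le r hx))).eq
    obtain ⟨Q, hQ⟩ := (show IsPGroup 2 (U.subgroupOf D) from
      ((S.2.to_le (hS ▸ map_le_range B.f _)).map _).comap_subtype).exists_le_sylow
    obtain ⟨c, hc⟩ := MulAction.exists_smul_eq D Q T
    have hcM : (c : G) ∈ M := B.cent_le_N hsol h hs hs1 (mem_centralizer_singleton_iff.1 c.2)
    obtain ⟨a, ha, ha1, haz, hac, hzc⟩ := B.four_in_centS hr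
    obtain ⟨a', ha', ha'1, ha'z, ha'c, hzc'⟩ := B.four_in_centS hs
    have hP := B.pair_f UT.zs_facts.2.1 (UT.AS_facts.2.1 a ha) UT.zs_facts.1 ha1 haz.symm
      (UT.zs_facts.2.2.1 a).symm
    have hP' := B.pair_f UT.zs_facts.2.1 (UT.AS_facts.2.1 a' ha') UT.zs_facts.1 ha'1 ha'z.symm
      (UT.zs_facts.2.2.1 a').symm
    have hmT : ∀ y ∈ B.centS s, y ∈ (T : Subgroup D).map D.subtype := fun y hy =>
      mem_map_of_mem D.subtype (hT (show (⟨y, B.centS_le s hy⟩ : D) ∈ _ from hy))
    obtain ⟨-, -, -, hall⟩ := B.two_group hsol (T.2.map D.subtype) (hmT _ hzc') (hmT _ ha'c) hP'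
      (B.four_range hsol ⟨zs, rfl⟩ ⟨a', rfl⟩ hP')
    have hmem : ∀ y ∈ B.centS r, (c : G) * g * y * ((c : G) * g)⁻¹ ∈ (T : Subgroup D).map D.subtype := by
      intro y hy
      have h1 : (⟨g * y * g⁻¹, hUD ⟨y, hy, rfl⟩⟩ : D) ∈ (Q : Subgroup D) :=
        hQ (show (⟨g * y * g⁻¹, hUD ⟨y, hy, rfl⟩⟩ : D) ∈ U.subgroupOf D from ⟨y, hy, rfl⟩)
      have h2 : c * ⟨g * y * g⁻¹, hUD ⟨y, hy, rfl⟩⟩ * c⁻¹ ∈ (T : Subgroup D) := by
        rw [← hc, Sylow.coe_subgroup_smul]
        exact smul_mem_pointwise_smul _ (MulAut.conj c) _ h1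
      refine ⟨_, h2, ?_⟩
      show (c : G) * (g * y * g⁻¹) * (c : G)⁻¹ = _
      group
    have h1 := B.mem_N hsol (B.four_range hsol ⟨zs, rfl⟩ ⟨a, rfl⟩ hP)
      (hall _ (hmem _ hzc) _ (hmem _ hac) (hP.conj ((c : G) * g)))
    have h3 := mul_mem (inv_mem hcM) h1
    rwa [inv_mul_cancel_left] at h3
  -- the closure is odd
  have hodd : ¬ 2 ∣ Nat.card B.closA := by
    have hsol' : ∀ a ∈ B.A, a ≠ 1 → orderOf a = 2 := fun a ha ha1 => orderOf_two (B.A_sq a ha) ha1
    exact (S0217.result B.A B.A_comm (fun a ha => by rw [pow_two]; exact B.A_sq a ha)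
      (by rw [B.card_A]; norm_num) theta (fun a _ _ => theta_le a) (fun a _ _ => theta_odd a)
      (fun a ha _ b hb x hx => theta_normal (B.A_comm b hb a ha) hx)
      (fun a _ _ => S0205.result (Nat.odd_iff.2 (by have := theta_odd a; omega)))
      (fun a ha ha1 b hb hb1 => theta_balance hsol (hsol' a ha ha1) (hsol' b hb hb1)
        (B.A_comm a ha b hb))).1
  by_cases htop : M = ⊤
  · have hN : B.closA.Normal := normalizer_eq_top_iff.1 htop
    have h1 : B.closA ≤ oddCore G := Core.le_pPrimeCore (hN := hN)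
      ((Nat.prime_two.coprime_iff_not_dvd.2 hodd).symm)
    rw [h.oddcore] at h1
    exact le_bot_iff.1 ((B.theta_le_clos hsol h hu hu1).trans h1)
  exfalso
  have hev : Even (Nat.card M) := by
    rw [even_iff_two_dvd]
    exact dvd_trans (by rw [B.card_range]; norm_num) (card_dvd_of_le hrM)
  have hse : Cfsg.IsStronglyEmbedded M := by
    refine ⟨htop, hev, fun g hgM => ?_⟩
    by_contra hodd'
    rw [Nat.not_odd_iff_even, even_iff_two_dvd] at hodd'
    obtain ⟨⟨t, ht⟩, hto⟩ := exists_prime_orderOf_dvd_card' 2 hodd'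
    rw [Subgroup.orderOf_mk] at hto
    obtain ⟨htM, x, hx, hxe⟩ := ht
    replace hxe : g * x * g⁻¹ = t := hxe
    have hxo : orderOf x = 2 := by rw [← hto, ← hxe, Invol.orderOf_conj]
    have into : ∀ y ∈ M, orderOf y = 2 → ∃ m ∈ M, ∃ r : UT, r * r = 1 ∧ r ≠ 1 ∧ m * y * m⁻¹ = B.f r := by
      intro y hy ho
      obtain ⟨m, hm, hms⟩ := B.conj_into hrM (IsPGroup.of_card (n := 1) (by
        rw [Nat.card_zpowers, ho, pow_one])) (zpowers_le.2 hy)
      obtain ⟨r, hr⟩ := hms y (mem_zpowers y)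
      have hr2 : orderOf r = 2 := by
        rw [← orderOf_injective B.f B.inj, ← hr, Invol.orderOf_conj, ho]
      obtain ⟨e1, e2⟩ := Invol.orderOf_eq_two_iff.1 hr2
      exact ⟨m, hm, r, e2, e1, hr⟩
    obtain ⟨m, hm, r, hr, hr1, hre⟩ := into t htM hto
    obtain ⟨m', hm', s, hs, hs1, hse⟩ := into x hx hxo
    have h1 := control hs hs1 hr hr1 (m * g * m'⁻¹) (by rw [← hse, ← hre, ← hxe]; group)
    have h3 := mul_mem (mul_mem (inv_mem hm) h1) hm'
    rw [show m⁻¹ * (m * g * m'⁻¹) * m' = g by group] at h3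
    exact hgM h3
  obtain ⟨y, hy, hyz⟩ := h2
  exact hyz (Invol.se_isConj_all hse B.orderOf_z hy)

end Base

end Cfsg.Agent.A8Type
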