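import Cfsg.Agent.A8Type.Defs
import Cfsg.Agent.Invol.SylowConj

/-!
First consequences: 2-subgroups move into the model, the elementary abelian subgroup of order sixteen
is the only one, and fusion inside it is controlled by its normalizer.
-/

set_option autoImplicit false
set_option maxRecDepth 8000

namespace Cfsg.Agent.A8Type

open Subgroup

namespace UT

theorem outside_AS : ∀ x : UT, x * x = 1 → x ∉ AS → cc x = 16 ∧
    ∃ g h : UT, g * x = x * g ∧ h * x = x * h ∧ g * h ≠ h * g := by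
  decide +kernel

end UT

theorem card_centralizer_conj {G : Type*} [Group G] {u w : G} (h : IsConj u w) :
    Nat.card (centralizer ({u} : Set G)) = Nat.card (centralizer ({w} : Set G)) := by
  obtain ⟨g, rfl⟩ := isConj_iff.1 h
  refine Nat.card_congr ((MulAut.conj g).toEquiv.subtypeEquiv fun x => ?_)
  rw [mem_centralizer_singleton_iff, mem_centralizer_singleton_iff]
  show x * u = u * x ↔ g * x * g⁻¹ * (g * u * g⁻¹) = g * u * g⁻¹ * (g * x * g⁻¹)
  rw [show g * x * g⁻¹ * (g * u * g⁻¹) = g * (x * u) * g⁻¹ by group,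
    show g * u * g⁻¹ * (g * x * g⁻¹) = g * (u * x) * g⁻¹ by group, mul_left_inj, mul_right_inj]

/-- A 2-subgroup of a centralizer which is not a Sylow subgroup of it is normal in a larger one. -/
theorem grow {G : Type*} [Group G] [Finite G] {u : G} {T : Subgroup G} {n : ℕ}
    (hT : Nat.card T = 2 ^ n) (hTu : T ≤ centralizer ({u} : Set G))
    (hdvd : 2 ^ (n + 1) ∣ Nat.card (centralizer ({u} : Set G))) :
    ∃ K : Subgroup G, K ≤ centralizer ({u} : Set G) ∧ Nat.card K = 2 ^ (n + 1) ∧ T ≤ K ∧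
      ∀ k ∈ K, ∀ x ∈ T, k * x * k⁻¹ ∈ T := by
  haveI : Fact (Nat.Prime 2) := ⟨Nat.prime_two⟩
  set C := centralizer ({u} : Set G)
  have hH : Nat.card (T.subgroupOf C) = 2 ^ n := by
    rw [← hT, Nat.card_congr (subgroupOfEquivOfLe hTu).toEquiv]
  obtain ⟨K, hK, hle⟩ := Sylow.exists_subgroup_card_pow_succ hdvd hH
  have hi : ((T.subgroupOf C).subgroupOf K).index = 2 := by
    have h1 := ((T.subgroupOf C).subgroupOf K).card_mul_index
    rw [Nat.card_congr (subgroupOfEquivOfLe hle).toEquiv, hH, hK, pow_succ] at h1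
    exact Nat.eq_of_mul_eq_mul_left (by positivity) h1
  have hN := normal_of_index_eq_two hi
  refine ⟨K.map C.subtype, map_subtype_le _, by rw [card_map_of_injective C.subtype_injective, hK],
    fun x hx => ⟨⟨x, hTu hx⟩, hle hx, rfl⟩, ?_⟩
  rintro _ ⟨k, hk, rfl⟩ x hx
  exact hN.conj_mem (⟨⟨x, hTu hx⟩, hle hx⟩ : K) hx ⟨k, hk⟩

namespace Base

variable {G : Type*} [Group G] (B : Base G) [Finite G]

theorem conj_into {H T : Subgroup G} (hH : B.f.range ≤ H) (hT : IsPGroup 2 T) (hTH : T ≤ H) :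
    ∃ c ∈ H, ∀ x ∈ T, ∃ s : UT, c * x * c⁻¹ = B.f s := by
  haveI : Fact (Nat.Prime 2) := ⟨Nat.prime_two⟩
  obtain ⟨P, hP⟩ := B.sylow
  let P' : Sylow 2 H := P.subtype (hP.le.trans hH)
  obtain ⟨Q, hQ⟩ := (hT.comap_subtype (H := T) (K := H)).exists_le_sylow
  obtain ⟨c, hc⟩ := MulAction.exists_smul_eq H Q P'
  refine ⟨c, c.2, fun x hx => ?_⟩
  have h : c * ⟨x, hTH hx⟩ * c⁻¹ ∈ (P' : Subgroup H) := by
    rw [← hc, Sylow.coe_subgroup_smul]
    exact smul_mem_pointwise_smul _ (MulAut.conj c) _ (hQ (show (⟨x, hTH hx⟩ : H) ∈ T.subgroupOf H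
      from hx))
  rw [Sylow.coe_subtype] at h
  obtain ⟨s, hs⟩ := hP ▸ (mem_subgroupOf.1 h)
  exact ⟨s, hs.symm⟩

omit [Finite G] in
/-- The elementary abelian subgroup is the only commutative subgroup of involutions of order
sixteen in the Sylow subgroup. -/
theorem eq_A {T : Subgroup G} (hle : T ≤ B.f.range) (hc : ∀ x ∈ T, ∀ y ∈ T, x * y = y * x)
    (hsq : ∀ x ∈ T, x * x = 1) (h16 : Nat.card T = 16) : T = B.A := by
  classical
  set T' := T.comap B.f with hT'
  have hmap : T'.map B.f = T := map_comap_eq_self hle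
  have hcard : Nat.card T' = 16 := by
    rw [← card_map_of_injective (K := T') B.inj, hmap, h16]
  have hle' : T' ≤ AS := by
    intro x hx
    by_contra hxA
    have hxx : x * x = 1 := B.inj (by rw [map_mul, map_one]; exact hsq _ hx)
    obtain ⟨h16', g, h, hg, hh, hgh⟩ := UT.outside_AS x hxx hxA
    have hCle : T' ≤ centralizer ({x} : Set UT) := fun y hy =>
      mem_centralizer_singleton_iff.2 (B.inj (by rw [map_mul, map_mul]; exact hc _ hy _ hx))
    have hC : Nat.card (centralizer ({x} : Set UT)) = 16 := by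
      rw [← card_map_of_injective (K := centralizer ({x} : Set UT)) B.inj]
      exact (B.card_centS x).trans h16'
    have heq : T' = centralizer ({x} : Set UT) :=
      eq_of_le_of_card_ge hCle (by rw [hC, hcard])
    have hgT : g ∈ T' := heq ▸ mem_centralizer_singleton_iff.2 hg
    have hhT : h ∈ T' := heq ▸ mem_centralizer_singleton_iff.2 hh
    exact hgh (B.inj (by rw [map_mul, map_mul]; exact hc _ hgT _ hhT))
  have : T' = AS := eq_of_le_of_card_ge hle' (by rw [Nat.card_eq_fintype_card, UT.card_QS.2, hcard])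
  rw [← hmap, this, Base.A]

omit [Finite G] in
theorem A_le_range : B.A ≤ B.f.range := map_le_range B.f AS

/-- Elements of the elementary abelian subgroup conjugate in the group are conjugate in its
normalizer. -/
theorem conj_in_A {x y : G} (hx : x ∈ B.A) (hy : y ∈ B.A) (h : IsConj x y) :
    ∃ n ∈ normalizer (B.A : Set G), n * x * n⁻¹ = y := by
  haveI : Fact (Nat.Prime 2) := ⟨Nat.prime_two⟩
  obtain ⟨g, hg⟩ := isConj_iff.1 h
  set A' := B.A.map (MulAut.conj g).toMonoidHom with hA'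
  set C := centralizer ({y} : Set G) with hC
  have hAC : B.A ≤ C := fun a ha => mem_centralizer_singleton_iff.2 (B.A_comm a ha y hy)
  have hA'C : A' ≤ C := by
    rintro _ ⟨a, ha, rfl⟩
    refine mem_centralizer_singleton_iff.2 ?_
    show g * a * g⁻¹ * y = y * (g * a * g⁻¹)
    rw [← hg]
    calc g * a * g⁻¹ * (g * x * g⁻¹) = g * (a * x) * g⁻¹ := by group
      _ = g * (x * a) * g⁻¹ := by rw [B.A_comm a ha x hx]
      _ = g * x * g⁻¹ * (g * a * g⁻¹) := by group
  have hcard : Nat.card A' = 16 := by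
    rw [hA', card_map_of_injective (MulEquiv.injective _), B.card_A]
  have hp : ∀ {T : Subgroup G}, Nat.card T = 16 → IsPGroup 2 T := fun h16 =>
    IsPGroup.of_card (n := 4) (by rw [h16]; norm_num)
  obtain ⟨P₁, hP₁⟩ := ((hp hcard).comap_subtype (H := A') (K := C)).exists_le_sylow
  obtain ⟨P₀, hP₀⟩ := ((hp B.card_A).comap_subtype (H := B.A) (K := C)).exists_le_sylow
  obtain ⟨c, hc⟩ := MulAction.exists_smul_eq C P₁ P₀
  obtain ⟨d, -, hd⟩ := B.conj_into (H := ⊤) le_top (P₀.2.map C.subtype) le_top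
  set m := d * (c : G) * g with hm
  have conjA : ∀ (k : G) (T : Subgroup G), (∀ t ∈ T, k * t * k⁻¹ ∈ B.f.range) → Nat.card T = 16 →
      (∀ a ∈ T, ∀ b ∈ T, a * b = b * a) → (∀ a ∈ T, a * a = 1) →
      T.map (MulAut.conj k).toMonoidHom = B.A := by
    intro k T hin h16 hcm hs
    refine B.eq_A (by rintro _ ⟨t, ht, rfl⟩; exact hin t ht) ?_ ?_
      (by rw [card_map_of_injective (MulEquiv.injective _), h16])
    · rintro _ ⟨a, ha, rfl⟩ _ ⟨b, hb, rfl⟩
      rw [← map_mul, ← map_mul, hcm a ha b hb]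
    · rintro _ ⟨a, ha, rfl⟩
      rw [← map_mul, hs a ha, map_one]
  have e1 : B.A.map (MulAut.conj m).toMonoidHom = B.A := by
    refine conjA m B.A (fun t ht => ?_) B.card_A B.A_comm B.A_sq
    have h1 : (⟨g * t * g⁻¹, hA'C ⟨t, ht, rfl⟩⟩ : C) ∈ (P₁ : Subgroup C) :=
      hP₁ (show _ ∈ A'.subgroupOf C from mem_subgroupOf.2 ⟨t, ht, rfl⟩)
    have h2 : c * ⟨g * t * g⁻¹, hA'C ⟨t, ht, rfl⟩⟩ * c⁻¹ ∈ (P₀ : Subgroup C) := by
      rw [← hc, Sylow.coe_subgroup_smul]
      exact smul_mem_pointwise_smul _ (MulAut.conj c) _ h1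
    obtain ⟨s, hs⟩ := hd _ (mem_map_of_mem C.subtype h2)
    exact ⟨s, by rw [hm, ← hs]; simp only [coe_subtype, coe_mul, coe_inv]; group⟩
  have e2 : B.A.map (MulAut.conj d).toMonoidHom = B.A := by
    refine conjA d B.A (fun t ht => ?_) B.card_A B.A_comm B.A_sq
    obtain ⟨s, hs⟩ := hd _ (mem_map_of_mem C.subtype
      (hP₀ (show (⟨t, hAC ht⟩ : C) ∈ B.A.subgroupOf C from mem_subgroupOf.2 ht)))
    exact ⟨s, hs.symm⟩
  refine ⟨d⁻¹ * m, mul_mem (inv_mem (mem_normalizer_iff_map_conj_eq.2 e2))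
    (mem_normalizer_iff_map_conj_eq.2 e1), ?_⟩
  have hcy : (c : G) * y * (c : G)⁻¹ = y := by
    rw [mem_centralizer_singleton_iff.1 c.2, mul_inv_cancel_right]
  calc d⁻¹ * m * x * (d⁻¹ * m)⁻¹ = (c : G) * (g * x * g⁻¹) * (c : G)⁻¹ := by rw [hm]; group
    _ = y := by rw [hg, hcy]

/-- A conjugate of the central involution is centralized by a Sylow 2-subgroup. -/
theorem card_dvd_of_conj {u : G} (h : IsConj B.z u) : 64 ∣ Nat.card (centralizer ({u} : Set G)) := by
  rw [← card_centralizer_conj h, ← B.card_range]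
  exact card_dvd_of_le B.range_le

end Base

end Cfsg.Agent.A8Type

namespace Cfsg.Agent.A8Type.Base

open Subgroup

variable {G : Type*} [Group G] (B : Base G)

/-- The action on the elementary abelian subgroup of the odd element centralizing the quotient of
the Sylow subgroup by the extraspecial subgroup. -/
def kapTab : UT → UT :=
  tabA [0, 26, 4, 30, 8, 18, 12, 22, 2, 24, 6, 28, 10, 16, 14, 20]

/-- In the centralizer of `z`, the normalizer of `A` acts on it as the Sylow subgroup does. -/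
def StabS : Prop :=
  ∀ g : G, Commute g B.z → g ∈ normalizer (B.A : Set G) →
    ∃ s : UT, ∀ a ∈ AS, g * B.f a * g⁻¹ = B.f (s * a * s⁻¹)

/-- In the centralizer of `z`, the normalizer of `A` acts on it as the Sylow subgroup extended by an
element of order three. -/
def StabK : Prop :=
  (∃ k : G, Commute k B.z ∧ k ∈ normalizer (B.A : Set G) ∧ ∀ a ∈ AS, k * B.f a * k⁻¹ = B.f (kapTab a)) ∧
    ∀ g : G, Commute g B.z → g ∈ normalizer (B.A : Set G) →
      ∃ s : UT, ∃ i : Fin 3, ∀ a ∈ AS, g * B.f a * g⁻¹ = B.f (s * kapTab^[(i : ℕ)] a * s⁻¹)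

end Cfsg.Agent.A8Type.Base
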