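import Cfsg.Agent.A8Type.Patterns
import Cfsg.Agent.S1225

/-!
With the rotation commuting with `E23` alone and trivial cores, the normalizer of `A` would be strongly
embedded although there are two classes of involutions.
-/

set_option autoImplicit false
set_option maxRecDepth 8000

namespace Cfsg.Agent.A8Type

open Subgroup

namespace UT

theorem swap13 : ∃ s : UT, s * x13 = x13 * s ∧ s * x23 * s⁻¹ = x23 * x13 := by decide +kernel

end UT

namespace Base

variable {G : Type*} [Group G] [Finite G] (B : Base G) (h : B.Simp)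
include h

theorem acts_outside (hno : ¬ B.Rot 1 0) {c : G} (hc : Commute c B.z) {u u' : UT} (hu : u * u = 1)
    (huA : u ∉ AS) (he : c * B.f u * c⁻¹ = B.f u') : u' ∉ AS := by
  obtain ⟨o, ho, s, n, ⟨hnz, i, j, hn⟩, rfl⟩ := B.exists_spl h hc
  obtain rfl : i = 0 := by_contra fun e => hno ((B.rot_split (⟨n, hnz, hn⟩ : B.Rot i j)).1 e)
  have huQ : u ∈ QS := (UT.red_facts u hu fun e => huA (e ▸ one_mem _)).2.2.1 huA
  rw [show o * B.f s * n * B.f u * (o * B.f s * n)⁻¹ =
    o * (B.f s * (n * B.f u * n⁻¹) * (B.f s)⁻¹) * o⁻¹ by group, hn u huQ, ← B.conj_f] at he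
  rw [← B.eq_conj_mod ho he]
  exact UT.iso_U.2.2.2.1 j u hu huA s

theorem cent_z_le (hno : ¬ B.Rot 1 0) (ht : theta B.z = ⊥) {g : G} (hg : Commute g B.z) :
    g ∈ normalizer (B.A : Set G) := by
  obtain ⟨o, ho, s, n, ⟨hnz, i, j, hn⟩, rfl⟩ := B.exists_spl h hg
  rw [ht, mem_bot] at ho
  obtain rfl : i = 0 := by_contra fun e => hno ((B.rot_split (⟨n, hnz, hn⟩ : B.Rot i j)).1 e)
  rw [ho, one_mul]
  refine mul_mem (B.mem_normA s) ?_
  have h1 := B.acts_conj23 hn
  rw [neg_zero] at h1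
  set y := B.f UT.x23 with hy
  obtain ⟨o', ho', c, hc, he⟩ := B.cent_Q h (w := n⁻¹ * (y⁻¹ * n * y))
    (hnz.inv_left.mul_left (((B.comm_z _).inv_left.mul_left hnz).mul_left (B.comm_z _)))
    fun q hq => mul_inv_eq_iff_eq_mul.1 (by
      rw [show n⁻¹ * (y⁻¹ * n * y) * B.f q * (n⁻¹ * (y⁻¹ * n * y))⁻¹ =
        n⁻¹ * (y⁻¹ * n * y * B.f q * (y⁻¹ * n * y)⁻¹) * n by group, h1 q hq, ← hn q hq]
      group)
  rw [ht, mem_bot] at ho'
  rw [ho', one_mul] at he
  have hny : n * y * n⁻¹ = B.f (UT.x23 * c) := by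
    rw [map_mul, ← hy, ← he]
    have hcc : Commute n (n⁻¹ * (y⁻¹ * n * y)) := by
      rw [he]
      simp only [List.mem_cons, List.not_mem_nil, or_false] at hc
      rcases hc with rfl | rfl
      · rw [map_one]; exact Commute.one_right _
      · exact hnz
    have : n⁻¹ * (y⁻¹ * n * y) = y⁻¹ * n * y * n⁻¹ := by
      rw [eq_mul_inv_iff_mul_eq, ← hcc.eq, mul_inv_cancel_left]
    rw [this]
    group
  refine mem_normalizer_iff_map_conj_eq.2 (eq_of_le_of_card_ge ?_
    (by rw [card_map_of_injective (MulEquiv.injective _)]))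
  rintro _ ⟨_, ⟨a, ha, rfl⟩, rfl⟩
  show n * B.f a * n⁻¹ ∈ B.A
  have hAQ : ∀ q ∈ AS, q ∈ QS → n * B.f q * n⁻¹ ∈ B.A := fun q hq hqQ => by
    rw [hn q hqQ]; exact B.mem_A.2 (UT.rho_AS.2 j q hq hqQ)
  have hcA : UT.x23 * c ∈ AS := mul_mem UT.gen_mem.1 (by
    simp only [List.mem_cons, List.not_mem_nil, or_false] at hc
    rcases hc with rfl | rfl
    exacts [one_mem _, UT.AS_facts.2.2.2.2])
  rcases UT.AS_split a ha with hq | ⟨hA, hQ⟩
  · exact hAQ a ha hq
  · rw [show a = a * UT.x23 * UT.x23 by rw [mul_assoc, UT.AS_facts.2.1 _ UT.gen_mem.1, mul_one],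
      map_mul, ← conj_mul]
    exact mul_mem (hAQ _ hA hQ) (by rw [hny]; exact B.mem_A.2 hcA)

/-- With the rotation commuting with `E23` alone the cores are not all trivial. -/
theorem false_of_CPlus (p : B.PatU) (hno : ¬ B.Rot 1 0)
    (hθ : ∀ u : UT, u * u = 1 → u ≠ 1 → theta (B.f u) = ⊥) : False := by
  classical
  haveI : Fact (Nat.Prime 2) := ⟨Nat.prime_two⟩
  set M := normalizer (B.A : Set G) with hM
  have hz := hθ zs UT.zs_facts.2.1 UT.zs_facts.1
  have hrM : B.f.range ≤ M := by rintro _ ⟨r, rfl⟩; exact B.mem_normA r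
  have hCz : ∀ g, Commute g B.z → g ∈ M := fun g => B.cent_z_le h hno hz
  -- centralizers of the elements of `A`
  have hconjA : ∀ {a b : UT}, a ∈ AS → b ∈ AS → IsConj (B.f a) (B.f b) →
      (∀ g, Commute g (B.f a) → g ∈ M) → ∀ g, Commute g (B.f b) → g ∈ M := by
    intro a b ha hb hab hCa g hg
    obtain ⟨n, hn, hne⟩ := B.conj_in_A (B.mem_A.2 ha) (B.mem_A.2 hb) hab
    have h1 := hCa (n⁻¹ * g * n) (by
      show n⁻¹ * g * n * B.f a = B.f a * (n⁻¹ * g * n)
      calc n⁻¹ * g * n * B.f a = n⁻¹ * (g * (n * B.f a * n⁻¹)) * n := by group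
        _ = n⁻¹ * (n * B.f a * n⁻¹ * g) * n := by rw [hne, hg.eq]
        _ = B.f a * (n⁻¹ * g * n) := by group)
    have h2 := mul_mem (mul_mem hn h1) (inv_mem hn)
    rwa [show n * (n⁻¹ * g * n) * n⁻¹ = g by group] at h2
  have hC23 : ∀ g, Commute g (B.f UT.x23) → g ∈ M :=
    hconjA UT.AS_facts.2.2.2.2 UT.gen_mem.1 ((p.cls _ UT.gen_mem.1).2 UT.iso_U.2.2.2.2.2.2.2.1) hCz
  have hC13 : ∀ g, Commute g (B.f UT.x13) → g ∈ M := by
    intro g hg
    obtain ⟨-, -, r3, -, -, q3, -, -, n3, -⟩ := UT.reps_I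
    rcases B.cent_pair (B.isPair_x13 h p) (hθ _ q3 n3) hg with e | e
    · exact hC23 g (mul_inv_eq_iff_eq_mul.1 e)
    · obtain ⟨s, -, hs⟩ := UT.swap13
      have h1 : ((B.f s)⁻¹ * g) ∈ M := hC23 _ (mul_inv_eq_iff_eq_mul.1 (by
        rw [show (B.f s)⁻¹ * g * B.f UT.x23 * ((B.f s)⁻¹ * g)⁻¹ =
          (B.f s)⁻¹ * (g * B.f UT.x23 * g⁻¹) * B.f s by group, e, ← hs, B.conj_f]
        group))
      have h2 := mul_mem (hrM ⟨s, rfl⟩) h1
      rwa [mul_inv_cancel_left] at h2
  have hCA : ∀ a ∈ AS, a ≠ 1 → ∀ g, Commute g (B.f a) → g ∈ M := by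
    intro a ha ha1
    by_cases hza : zp true a
    · exact hconjA UT.AS_facts.2.2.2.2 ha ((p.cls a ha).2 hza) hCz
    · exact hconjA UT.reps_I.2.2.1 ha (p.rest a ha ha1 hza).symm hC13
  -- centralizers of the others lie in that of `z`
  have hCout : ∀ u : UT, u * u = 1 → u ∉ AS → ∀ g, Commute g (B.f u) → Commute g B.z := by
    intro u hu huA g hg
    rcases B.cent_pair (B.isPair_outside h p hno hu huA) (hθ u hu fun e => huA (e ▸ one_mem _)) hg
      with e | e
    · exact mul_inv_eq_iff_eq_mul.1 e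
    · refine absurd ?_ huA
      have h1 := (B.zclass_U h p (isConj_iff.2 ⟨g, e⟩)).1
      have h2 := mul_mem UT.AS_facts.2.2.2.2 h1
      rwa [← mul_assoc, UT.zs_facts.2.1, one_mul] at h2
  have hCall : ∀ u : UT, u * u = 1 → u ≠ 1 → ∀ g, Commute g (B.f u) → g ∈ M := by
    intro u hu hu1 g hg
    by_cases huA : u ∈ AS
    · exact hCA u huA hu1 g hg
    · exact hCz g (hCout u hu huA g hg)
  -- `A` is strongly closed
  have hclosed : ∀ {a u : UT}, a ∈ AS → u * u = 1 → IsConj (B.f a) (B.f u) → u ∈ AS := by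
    intro a u ha hu hau
    by_contra huA
    obtain ⟨g, hg⟩ := isConj_iff.1 hau
    set T := B.A.map (MulAut.conj g).toMonoidHom with hT
    have huT : B.f u ∈ T := hg ▸ mem_map_of_mem (MulAut.conj g).toMonoidHom (B.mem_A.2 ha)
    have hTC : T ≤ centralizer ({B.z} : Set G) := by
      rintro _ ⟨x, hx, rfl⟩
      refine mem_centralizer_singleton_iff.2 (hCout u hu huA _ ?_).eq
      rw [← hg]
      exact (Commute.conj_iff g).2 (B.A_comm x hx _ (B.mem_A.2 ha))
    obtain ⟨c, hc, hcs⟩ := B.conj_into B.range_le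
      (IsPGroup.of_card (n := 4) (by rw [hT, card_map_of_injective (MulEquiv.injective _), B.card_A]; norm_num))
      hTC
    obtain ⟨u', hu'⟩ := hcs _ huT
    have hu'A := B.acts_outside h hno (mem_centralizer_singleton_iff.1 hc) hu huA hu'
    have heq : T.map (MulAut.conj c).toMonoidHom = B.A := by
      refine B.eq_A ?_ ?_ ?_ (by
        rw [card_map_of_injective (MulEquiv.injective _), hT,
          card_map_of_injective (MulEquiv.injective _), B.card_A])
      · rintro _ ⟨x, hx, rfl⟩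
        obtain ⟨r, hr⟩ := hcs x hx
        exact ⟨r, hr.symm⟩
      · rintro _ ⟨_, ⟨x, hx, rfl⟩, rfl⟩ _ ⟨_, ⟨y, hy, rfl⟩, rfl⟩
        rw [← map_mul, ← map_mul, ← map_mul, ← map_mul, B.A_comm x hx y hy]
      · rintro _ ⟨_, ⟨x, hx, rfl⟩, rfl⟩
        rw [← map_mul, ← map_mul, B.A_sq x hx, map_one, map_one]
    have h1 : B.f u' ∈ B.A := by
      rw [← heq, ← hu']
      exact mem_map_of_mem (MulAut.conj c).toMonoidHom huT
    exact hu'A (B.mem_A.1 h1)
  -- fusion is controlled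
  have control : ∀ {u u' : UT}, u * u = 1 → u ≠ 1 → u' * u' = 1 → ∀ g : G,
      g * B.f u * g⁻¹ = B.f u' → g ∈ M := by
    intro u u' hu hu1 hu' g hg
    have hcj : IsConj (B.f u) (B.f u') := isConj_iff.2 ⟨g, hg⟩
    by_cases huA : u ∈ AS
    · have hu'A := hclosed huA hu' hcj
      obtain ⟨n, hn, hne⟩ := B.conj_in_A (B.mem_A.2 huA) (B.mem_A.2 hu'A) hcj
      have h1 := hCA u huA hu1 (n⁻¹ * g) (mul_inv_eq_iff_eq_mul.1 (by
        rw [show n⁻¹ * g * B.f u * (n⁻¹ * g)⁻¹ = n⁻¹ * (g * B.f u * g⁻¹) * n by group, hg, ← hne]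
        group))
      have h2 := mul_mem hn h1
      rwa [mul_inv_cancel_left] at h2
    · have hu'A : u' ∉ AS := fun e => huA (hclosed e hu hcj.symm)
      -- the image of `z` is `z`
      have hzu : Commute B.z (B.f u) := (B.comm_z u).symm
      set z' := g * B.z * g⁻¹ with hz'
      have hz'u : Commute z' (B.f u') := hg ▸ (Commute.conj_iff g).2 hzu
      have hz'z : Commute z' B.z := hCout u' hu' hu'A z' hz'u
      set K := zpowers z' ⊔ zpowers (B.f u') with hK
      have hK2 : IsPGroup 2 K := IsPGroup.to_sup_of_normal_left'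
        (IsPGroup.of_card (n := 1) (by rw [Nat.card_zpowers, hz', Invol.orderOf_conj, B.orderOf_z, pow_one]))
        (IsPGroup.of_card (n := 1) (by
          rw [Nat.card_zpowers, B.orderOf_f hu' (fun e => hu'A (e ▸ one_mem _)), pow_one]))
        (zpowers_le.2 (centralizer_le_normalizer _ (mem_centralizer_iff.2 fun x hx => by
          obtain ⟨k, rfl⟩ := hx
          exact (hz'u.zpow_left k).eq)))
      obtain ⟨c, hc, hcs⟩ := B.conj_into B.range_le hK2 (sup_le
        (zpowers_le.2 (mem_centralizer_singleton_iff.2 hz'z.eq))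
        (zpowers_le.2 (mem_centralizer_singleton_iff.2 (B.comm_z u').eq)))
      obtain ⟨w, hw⟩ := hcs z' (mem_sup_left (mem_zpowers z'))
      obtain ⟨u'', hu''⟩ := hcs _ (mem_sup_right (mem_zpowers (B.f u')))
      have hcz : Commute c B.z := mem_centralizer_singleton_iff.1 hc
      have hu''A := B.acts_outside h hno hcz hu' hu'A hu''
      obtain ⟨hwA, hwz⟩ := B.zclass_U h p (isConj_iff.2 ⟨c * g, by rw [← hw, hz']; group⟩)
      have hu2 : u'' * u'' = 1 := B.inj (by
        rw [map_mul, map_one, ← hu'', conj_mul, ← map_mul, hu', map_one]; group)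
      have hwzs := UT.iso_U.2.1 u'' hu2 hu''A w (B.inj (by
        rw [map_mul, map_mul, ← hw, ← hu'', conj_mul, conj_mul, hz'u.eq])) hwA hwz
      subst hwzs
      have hz'e : z' = B.z := by
        rw [show z' = c⁻¹ * (c * z' * c⁻¹) * c by group, hw, mul_assoc, show B.f zs = B.z from rfl,
          ← hcz.eq, inv_mul_cancel_left]
      exact hCz g (mul_inv_eq_iff_eq_mul.1 hz'e)
  have hne : M ≠ ⊤ := by
    intro e
    have hN : B.A.Normal := normalizer_eq_top_iff.1 e
    have h2 : B.A ≤ pCore 2 G := Core.le_pCore (hN := hN)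
      (IsPGroup.of_card (n := 4) (by rw [B.card_A]; norm_num))
    rw [h.pcore, le_bot_iff] at h2
    have := B.card_A
    rw [h2, card_bot] at this
    norm_num at this
  have hev : Even (Nat.card M) := by
    rw [even_iff_two_dvd]
    exact dvd_trans (by rw [B.card_range]; norm_num) (card_dvd_of_le hrM)
  have hse : Cfsg.IsStronglyEmbedded M := by
    refine ⟨hne, hev, fun g hgM => ?_⟩
    by_contra hodd
    rw [Nat.not_odd_iff_even, even_iff_two_dvd] at hodd
    obtain ⟨⟨t, ht⟩, hto⟩ := exists_prime_orderOf_dvd_card' 2 hodd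
    rw [Subgroup.orderOf_mk] at hto
    obtain ⟨htM, x, hx, hxe⟩ := ht
    replace hxe : g * x * g⁻¹ = t := hxe
    have hxo : orderOf x = 2 := by rw [← hto, ← hxe, Invol.orderOf_conj]
    have into : ∀ y ∈ M, orderOf y = 2 → ∃ m ∈ M, ∃ u : UT, u * u = 1 ∧ u ≠ 1 ∧ m * y * m⁻¹ = B.f u := by
      intro y hy ho
      obtain ⟨m, hm, hms⟩ := B.conj_into hrM (IsPGroup.of_card (n := 1) (by
        rw [Nat.card_zpowers, ho, pow_one])) (zpowers_le.2 hy)
      obtain ⟨u, hu⟩ := hms y (mem_zpowers y)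
      have h2 : orderOf u = 2 := by
        rw [← orderOf_injective B.f B.inj, ← hu, Invol.orderOf_conj, ho]
      obtain ⟨h1, h2'⟩ := Invol.orderOf_eq_two_iff.1 h2
      exact ⟨m, hm, u, h2', h1, hu⟩
    obtain ⟨m, hm, u, hu, hu1, hue⟩ := into t htM hto
    obtain ⟨m', hm', u', hu', hu'1, hue'⟩ := into x hx hxo
    have h1 := control hu' hu'1 hu (m * g * m'⁻¹) (by
      rw [← hue', ← hue, ← hxe]; group)
    have h2 := mul_mem (mul_mem (inv_mem hm) h1) hm'
    rw [show m⁻¹ * (m * g * m'⁻¹) * m' = g by group] at h2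
    exact hgM h2
  have hall := Invol.se_isConj_all hse B.orderOf_z
    (B.orderOf_f UT.reps_I.2.2.2.2.2.1 UT.reps_I.2.2.2.2.2.2.2.2.1)
  exact UT.iso_U.2.2.2.2.2.2.2.2.2.2 ((p.cls _ UT.reps_I.2.2.1).1 hall)

end Base

end Cfsg.Agent.A8Type
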