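import Cfsg.Agent.A8Type.FixedOrder
import Cfsg.Agent.S4479
import Cfsg.Agent.Char.KleinBlock
import Cfsg.Agent.Char.KleinSection
import Cfsg.Agent.Blocks.Idempotent
import Cfsg.Agent.Core.PCore
import Cfsg.Agent.Core.Basics
import Cfsg.Agent.Invol.KleinSylow
import Cfsg.Prelude.Def_CaseTheorems

/-!
A subgroup of odd order normalised by a Sylow four-group, an element fusing it, and containing the
odd parts of the centralizers of its involutions lies in the core.  The order formula of the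
principal block bounds the index of the normalizer by five.
-/

set_option autoImplicit false

namespace Cfsg.Agent.A8Type

open Subgroup

/-- The degrees of the principal block bound a product. -/
theorem degree_bound {m x₁ x₂ x₃ : ℕ} {e₁ e₂ e₃ : ℤ} (o1 : Odd x₁) (o2 : Odd x₂) (o3 : Odd x₃)
    (he1 : e₁ = 1 ∨ e₁ = -1) (he2 : e₂ = 1 ∨ e₂ = -1) (he3 : e₃ = 1 ∨ e₃ = -1)
    (hrel : (1 : ℤ) + e₁ * x₁ + e₂ * x₂ + e₃ * x₃ = 0)
    (heq : (3 * m : ℤ) * (((x₁ : ℤ) + e₁) * ((x₂ : ℤ) + e₂) * ((x₃ : ℤ) + e₃)) =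
      8 * x₁ * x₂ * x₃) : m ≤ 6 := by
  have p1 : (0 : ℤ) < x₁ := by exact_mod_cast o1.pos
  have p2 : (0 : ℤ) < x₂ := by exact_mod_cast o2.pos
  have p3 : (0 : ℤ) < x₃ := by exact_mod_cast o3.pos
  have hne : ((x₁ : ℤ) + e₁) * ((x₂ : ℤ) + e₂) * ((x₃ : ℤ) + e₃) ≠ 0 := by
    intro h
    rw [h, mul_zero] at heq
    have : (0 : ℤ) < 8 * x₁ * x₂ * x₃ := by positivity
    omega
  obtain ⟨⟨n1, n2⟩, n3⟩ := (show ((x₁ : ℤ) + e₁ ≠ 0 ∧ (x₂ : ℤ) + e₂ ≠ 0) ∧ (x₃ : ℤ) + e₃ ≠ 0 from
    ⟨mul_ne_zero_iff.1 (mul_ne_zero_iff.1 hne).1, (mul_ne_zero_iff.1 hne).2⟩)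
  have hfac : ∀ (x : ℕ) (e : ℤ), Odd x → (e = 1 ∨ e = -1) → (x : ℤ) + e ≠ 0 →
      0 < (x : ℤ) + e ∧ 2 * (x : ℤ) ≤ 3 * (x + e) ∧ (e = 1 → (x : ℤ) ≤ x + e) ∧
        (e = -1 → 3 ≤ x) := by
    intro x e hx he h0
    obtain ⟨i, rfl⟩ := hx
    rcases he with rfl | rfl <;> refine ⟨?_, ?_, fun h => ?_, fun h => ?_⟩ <;> push_cast at * <;>
      omega
  obtain ⟨s1, f1, q1, r1⟩ := hfac x₁ e₁ o1 he1 n1
  obtain ⟨s2, f2, q2, r2⟩ := hfac x₂ e₂ o2 he2 n2
  obtain ⟨s3, f3, q3, r3⟩ := hfac x₃ e₃ o3 he3 n3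
  have key : ∀ a b c A B C : ℤ, 0 < a → 0 < b → 0 < c → 2 * a ≤ 3 * A → 2 * b ≤ 3 * B → c ≤ C →
      (3 * m : ℤ) * (A * B * C) = 8 * (a * b * c) → m ≤ 6 := by
    intro a b c A B C ha hb hc hA hB hC he
    have h1 : (2 * a) * (2 * b) * c ≤ (3 * A) * (3 * B) * C :=
      mul_le_mul (mul_le_mul hA hB (by linarith) (by linarith)) hC (by linarith)
        (mul_nonneg (by linarith) (by linarith))
    have h2 : (m : ℤ) * (4 * (a * b * c)) ≤ 24 * (a * b * c) := by
      calc (m : ℤ) * (4 * (a * b * c)) = (m : ℤ) * ((2 * a) * (2 * b) * c) := by ring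
        _ ≤ (m : ℤ) * ((3 * A) * (3 * B) * C) := mul_le_mul_of_nonneg_left h1 (Int.natCast_nonneg m)
        _ = 3 * ((3 * m : ℤ) * (A * B * C)) := by ring
        _ = 24 * (a * b * c) := by rw [he]; ring
    have h3 : (0 : ℤ) < a * b * c := by positivity
    have h4 : (m : ℤ) ≤ 6 := by nlinarith
    exact_mod_cast h4
  rcases he1 with e | e
  · exact key x₂ x₃ x₁ _ _ _ p2 p3 p1 f2 f3 (q1 e) (by linear_combination heq)
  rcases he2 with e' | e'
  · exact key x₁ x₃ x₂ _ _ _ p1 p3 p2 f1 f3 (q2 e') (by linear_combination heq)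
  rcases he3 with e'' | e''
  · exact key x₁ x₂ x₃ _ _ _ p1 p2 p3 f1 f2 (q3 e'') (by linear_combination heq)
  · exfalso
    have := r1 e
    have := r2 e'
    have := r3 e''
    subst e e' e''
    omega

variable {K : Type*} [Group K] [Finite K]

/-- The order formula with three times an index in it. -/
theorem index_bound (g₀ : ℕ) (hg₀ : Odd g₀) (hG : Nat.card K = 4 * g₀)
    (hnc : ¬ ∃ N : Subgroup K, N.Normal ∧ Nat.card N = g₀) (P : Sylow 2 K) (J : K)
    (hJ : J ∈ (P : Subgroup K)) (hJ2 : orderOf J = 2) {t D r m : ℕ}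
    (hC : Nat.card (centralizer ({J} : Set K)) = 4 * t)
    (hCP : Nat.card (centralizer ((P : Subgroup K) : Set K)) = 4 * D)
    (hBW : r * D ^ 2 = t * t * t) (hK : Nat.card K = 12 * r * m) : m ≤ 6 := by
  classical
  cases nonempty_fintype K
  obtain ⟨M, hM⟩ := Agent.Blocks.exists_isPModular 2 Nat.prime_two
  obtain ⟨a, ha, hsum⟩ := Agent.Char.klein_section M hM g₀ hg₀ hG hnc P J hJ hJ2
  let B : Finset (IrrCharacter K) := Finset.univ.filter fun χ => χ ∈ Cfsg.principalBlock M K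
  have hB : ∀ χ, χ ∈ B ↔ χ ∈ Cfsg.principalBlock M K := fun χ => by simp [B]
  rw [← Finset.sum_filter] at hsum
  change ∑ χ ∈ B, a χ ^ 2 = 4 at hsum
  have htriv : Agent.Blocks.triv K ∈ B := (hB _).2 (Agent.Blocks.triv_mem_principalBlock hM)
  have ha1 : a (Agent.Blocks.triv K) = 1 := by
    have h : (1 : ℂ) = a (Agent.Blocks.triv K) := (ha _ ((hB _).1 htriv)).2
    exact_mod_cast h.symm
  rw [← Finset.add_sum_erase _ _ htriv, ha1] at hsum
  have hsq : ∀ χ ∈ B.erase (Agent.Blocks.triv K), a χ ^ 2 = 1 := by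
    intro χ hχ
    have h0 := (ha χ ((hB χ).1 (Finset.mem_of_mem_erase hχ))).1
    have hle := Finset.single_le_sum (f := fun ψ => a ψ ^ 2) (fun ψ _ => sq_nonneg _) hχ
    have h2 : a χ ^ 2 ≤ 3 := by linarith
    have h3 : -1 ≤ a χ := by nlinarith
    have h4 : a χ ≤ 1 := by nlinarith
    rcases (by omega : a χ = 1 ∨ a χ = -1) with h | h <;> rw [h] <;> norm_num
  have hcard : (B.erase (Agent.Blocks.triv K)).card = 3 := by
    rw [Finset.sum_congr rfl hsq, Finset.sum_const, nsmul_eq_mul, mul_one] at hsum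
    omega
  obtain ⟨χ₁, χ₂, χ₃, h12, h13, h23, he⟩ := Finset.card_eq_three.1 hcard
  have hm : ∀ χ, (χ = χ₁ ∨ χ = χ₂ ∨ χ = χ₃) ↔ χ ∈ B.erase (Agent.Blocks.triv K) := fun χ => by
    rw [he]; simp
  have hne : ∀ χ, χ ∈ B.erase (Agent.Blocks.triv K) → (χ : K → ℂ) ≠ (fun _ => 1) := fun χ hχ h =>
    Finset.ne_of_mem_erase hχ (Subtype.ext h)
  have m1 := (hm χ₁).1 (Or.inl rfl)
  have m2 := (hm χ₂).1 (Or.inr (Or.inl rfl))
  have m3 := (hm χ₃).1 (Or.inr (Or.inr rfl))
  have hset : Cfsg.principalBlock M K =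
      {χ : IrrCharacter K | (χ : K → ℂ) = (fun _ => 1) ∨ χ = χ₁ ∨ χ = χ₂ ∨ χ = χ₃} := by
    ext χ
    rw [← hB]
    show χ ∈ B ↔ _ ∨ _
    constructor
    · intro hχ
      by_cases h : χ = Agent.Blocks.triv K
      · exact Or.inl (by rw [h]; rfl)
      · exact Or.inr ((hm χ).2 (Finset.mem_erase.2 ⟨h, hχ⟩))
    · rintro (h | h)
      · rwa [show χ = Agent.Blocks.triv K from Subtype.ext h]
      · exact Finset.mem_of_mem_erase ((hm χ).1 h)
  have hv : ∀ χ ∈ B.erase (Agent.Blocks.triv K), (a χ = 1 ∨ a χ = -1) ∧ (χ : K → ℂ) J = a χ :=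
    fun χ hχ =>
    ⟨sq_eq_one_iff.1 (hsq χ hχ), (ha χ ((hB χ).1 (Finset.mem_of_mem_erase hχ))).2⟩
  have hdist := And.intro (hne χ₁ m1) (And.intro (hne χ₂ m2) (And.intro (hne χ₃ m3)
    (And.intro h12 (And.intro h13 h23))))
  have heps := And.intro (hv χ₁ m1).1 (And.intro (hv χ₂ m2).1 (hv χ₃ m3).1)
  have hval := And.intro (hv χ₁ m1).2 (And.intro (hv χ₂ m2).2 (hv χ₃ m3).2)
  obtain ⟨k, x₁, x₂, x₃, -, ⟨d1, d2, d3⟩, ⟨o1, o2, o3⟩, -, hrel, -, -, -⟩ :=
    Agent.Char.klein_data M hM g₀ hg₀ hG hnc P J hJ hJ2 χ₁ χ₂ χ₃ _ _ _ hset hdist heps hval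
  have hord := Agent.S4479.result M hM g₀ hg₀ hG hnc P J hJ hJ2 χ₁ χ₂ χ₃ _ _ _ hset hdist heps hval
  rw [Agent.Blocks.charDegree_eq d1, Agent.Blocks.charDegree_eq d2, Agent.Blocks.charDegree_eq d3,
    hC, hCP, hK] at hord
  push_cast at hord
  set e₁ := a χ₁
  set e₂ := a χ₂
  set e₃ := a χ₃
  have hr0 : 0 < r ∧ 0 < m := by
    constructor <;> refine Nat.pos_of_ne_zero fun h => ?_ <;> subst h <;>
      exact absurd hK (by simp)
  have hD0 : (D : ℚ) ≠ 0 := by
    have : Nat.card (centralizer ((P : Subgroup K) : Set K)) ≠ 0 := Nat.card_pos.ne'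
    rw [hCP] at this
    exact_mod_cast fun h : D = 0 => this (by rw [h])
  have hx : ((x₁ : ℚ) + e₁) * ((x₂ : ℚ) + e₂) * ((x₃ : ℚ) + e₃) ≠ 0 := by
    intro h
    rw [h, div_zero, mul_zero, zero_mul, zero_div] at hord
    have : (0 : ℚ) < 12 * r * m := by
      have h1 : (0 : ℚ) < r := by exact_mod_cast hr0.1
      have h2 : (0 : ℚ) < m := by exact_mod_cast hr0.2
      positivity
    linarith
  have hbw : (t : ℚ) * t * t = r * D ^ 2 := by exact_mod_cast hBW.symm
  refine degree_bound o1 o2 o3 heps.1 heps.2.1 heps.2.2 hrel ?_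
  have hq : (3 * m : ℚ) * (((x₁ : ℚ) + e₁) * ((x₂ : ℚ) + e₂) * ((x₃ : ℚ) + e₃)) =
      8 * x₁ * x₂ * x₃ := by
    generalize ((x₁ : ℚ) + e₁) * ((x₂ : ℚ) + e₂) * ((x₃ : ℚ) + e₃) = E at hord hx ⊢
    field_simp at hord
    refine mul_left_cancel₀ (a := (64 : ℚ) * r * D ^ 2) (mul_ne_zero (mul_ne_zero (by norm_num)
      (Nat.cast_ne_zero.2 hr0.1.ne')) (pow_ne_zero _ hD0)) ?_
    linear_combination 16 * hord + (512 * x₁ * x₂ * x₃ : ℚ) * hbw
  exact_mod_cast hq

/-- An odd subgroup normalised by the Sylow four-group and by an element fusing it, containing the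
odd parts of the centralizers of the involutions, lies in the core. -/
theorem core_of_four (P : Sylow 2 K) (hP4 : Nat.card (P : Subgroup K) = 4) {v w : K}
    (hv : v ∈ (P : Subgroup K)) (hw : w ∈ (P : Subgroup K)) (hv1 : v ≠ 1) (hw1 : w ≠ 1)
    (hvw : v ≠ w) {h : K} (h1 : h * v * h⁻¹ = w) (h2 : h * w * h⁻¹ = v * w) (R : Subgroup K)
    (hR : ¬ 2 ∣ Nat.card R) (hPR : (P : Subgroup K) ≤ normalizer (R : Set K))
    (hhR : h ∈ normalizer (R : Set K))
    (hC : ∀ x : K, x * v = v * x → ∃ r ∈ R, ∃ p ∈ (P : Subgroup K), x = r * p) :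
    R ≤ pPrimeCore 2 K := by
  classical
  have : Fact (Nat.Prime 2) := ⟨Nat.prime_two⟩
  obtain ⟨g₀, hg₀'⟩ := hP4 ▸ card_subgroup_dvd_card (P : Subgroup K)
  have hg₀ : Odd g₀ := by
    have hi := P.not_dvd_index
    have e := (P : Subgroup K).card_mul_index
    rw [hP4, hg₀'] at e
    exact Nat.odd_iff.2 (by omega)
  have hcomm : ∀ {a b : K}, a ∈ (P : Subgroup K) → b ∈ (P : Subgroup K) → a * b = b * a :=
    fun ha hb => Char.sylow_four_comm hg₀' hg₀ P ha hb
  have hvw' : v * w ∈ (P : Subgroup K) := mul_mem hv hw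
  have hsq : ∀ {a : K}, a ∈ (P : Subgroup K) → a * a = 1 → ∀ r ∈ R, a * r * a⁻¹ ∈ R :=
    fun ha _ r hr => (mem_normalizer_iff.1 (hPR ha) r).1 hr
  have hnc : ¬ ∃ N : Subgroup K, N.Normal ∧ Nat.card N = g₀ := by
    rintro ⟨N, hN, hNc⟩
    have hvwN : v * w ∈ N := by
      have hi : N.index = 4 := by
        have e := N.card_mul_index
        rw [hNc, hg₀', mul_comm g₀] at e
        exact Nat.eq_of_mul_eq_mul_right hg₀.pos e
      have hq : Nat.card (K ⧸ N) = 2 ^ 2 := by rw [← index_eq_card, hi]; norm_num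
      let : CommGroup (K ⧸ N) := IsPGroup.commGroupOfCardEqPrimeSq (p := 2) hq
      have hm : (QuotientGroup.mk (v * w) : K ⧸ N) = 1 := by
        rw [show v * w = h * w * h⁻¹ from h2.symm, QuotientGroup.mk_mul, QuotientGroup.mk_mul,
          QuotientGroup.mk_inv, mul_comm (h : K ⧸ N), mul_inv_cancel_right]
        have hwh : (w : K ⧸ N) = (v : K ⧸ N) := by
          rw [← h1, QuotientGroup.mk_mul, QuotientGroup.mk_mul, QuotientGroup.mk_inv,
            mul_comm (h : K ⧸ N), mul_inv_cancel_right]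
        have hvvw : ((v * w : K) : K ⧸ N) = (w : K ⧸ N) := by
          rw [show v * w = h * w * h⁻¹ from h2.symm, QuotientGroup.mk_mul, QuotientGroup.mk_mul,
            QuotientGroup.mk_inv, mul_comm (h : K ⧸ N), mul_inv_cancel_right]
        rw [QuotientGroup.mk_mul] at hvvw
        have : (v : K ⧸ N) = 1 := mul_right_cancel (hvvw.trans (one_mul _).symm)
        rw [hwh, this]
      exact (QuotientGroup.eq_one_iff _).1 hm
    have : Nat.card (zpowers (v * w)) ∣ g₀ := hNc ▸ card_dvd_of_le (zpowers_le.2 hvwN)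
    have hd : orderOf (v * w) ∣ 4 := hP4 ▸ Subgroup.orderOf_dvd_natCard _ hvw'
    rw [Nat.card_zpowers] at this
    have : orderOf (v * w) = 1 := by
      have h4 : ¬ 2 ∣ orderOf (v * w) := fun h' =>
        (Nat.not_even_iff_odd.2 hg₀) (even_iff_two_dvd.2 (h'.trans this))
      obtain ⟨i, -, hi⟩ := (Nat.dvd_prime_pow Nat.prime_two).1 (show orderOf (v * w) ∣ 2 ^ 2 from hd)
      rcases Nat.eq_zero_or_pos i with rfl | hi0
      · exact hi
      · exact absurd (hi ▸ dvd_pow_self 2 hi0.ne') h4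
    have := orderOf_eq_one_iff.1 this
    refine hw1 ?_
    rw [← h2] at this
    exact conj_eq_one_iff.1 this
  -- the involutions
  have hall : ∀ {a : K}, a ∈ (P : Subgroup K) → a ≠ 1 → a * a = 1 := fun {a} ha ha1 => by
    obtain ⟨t, htP, ht2⟩ : ∃ t ∈ (P : Subgroup K), orderOf t = 2 := by
      obtain ⟨⟨t, htP⟩, ht⟩ := exists_prime_orderOf_dvd_card' (G := (P : Subgroup K)) 2
        (by rw [hP4]; norm_num)
      exact ⟨t, htP, by rwa [Subgroup.orderOf_mk] at ht⟩
    have := (Char.sylow_four_involutions hg₀' hg₀ hnc P htP ht2 ha ha1).1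
    rw [← pow_two, ← this]
    exact pow_orderOf_eq_one a
  have hvw1 : v * w ≠ 1 := fun e => hvw (by
    rw [eq_inv_of_mul_eq_one_left e, inv_eq_of_mul_eq_one_right (hall hw hw1)])
  have hlist : ∀ {a : K}, a ∈ (P : Subgroup K) → a = 1 ∨ a = v ∨ a = w ∨ a = v * w := by
    intro a ha
    by_contra hcon
    simp only [not_or] at hcon
    obtain ⟨n1, n2, n3, n4⟩ := hcon
    have hne : ({1, v, w, v * w, a} : Finset K).card = 5 := by
      have h5 : v ≠ v * w := fun e => hw1 (left_eq_mul.1 e)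
      have h6 : w ≠ v * w := fun e => hv1 (right_eq_mul.1 e)
      simp [hv1.symm, hw1.symm, hvw1.symm, hvw, h5, h6, Ne.symm n1, Ne.symm n2, Ne.symm n3,
        Ne.symm n4]
    have hsub : ({1, v, w, v * w, a} : Finset K) ⊆
        (Set.toFinite ((P : Subgroup K) : Set K)).toFinset := by
      intro y hy
      simp only [Finset.mem_insert, Finset.mem_singleton] at hy
      rw [Set.Finite.mem_toFinset]
      rcases hy with rfl | rfl | rfl | rfl | rfl
      exacts [one_mem _, hv, hw, hvw', ha]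
    have hle := Finset.card_le_card hsub
    rw [← Set.ncard_eq_toFinset_card, ← Nat.card_coe_set_eq, hne] at hle
    have : Nat.card ((P : Subgroup K) : Set K) = 4 := hP4
    omega
  have hRP : ∀ {x : K}, x ∈ R → x ∈ (P : Subgroup K) → x = 1 := fun {x} hx hxP => by
    by_contra hx1
    have ho : orderOf x = 2 := orderOf_eq_prime (by rw [pow_two]; exact hall hxP hx1) hx1
    exact hR (ho ▸ Subgroup.orderOf_dvd_natCard R hx)
  -- the centralizers
  set Cv := centralizer ({v} : Set K)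
  set t := Nat.card ↥(R ⊓ Cv) with ht
  have hcC : Nat.card Cv = 4 * t := by
    rw [← hP4, mul_comm, ht, ← Nat.card_prod]
    refine (Nat.card_congr (Equiv.ofBijective
      (fun p : ↥(R ⊓ Cv) × (P : Subgroup K) => (⟨p.1 * p.2, mul_mem p.1.2.2
        (mem_centralizer_singleton_iff.2 (hcomm p.2.2 hv))⟩ : Cv)) ⟨?_, ?_⟩)).symm
    · rintro ⟨⟨r, hr⟩, ⟨p, hp⟩⟩ ⟨⟨r', hr'⟩, ⟨p', hp'⟩⟩ e
      have e' : r * p = r' * p' := congrArg Subtype.val e
      have e2 : r'⁻¹ * r = p' * p⁻¹ := by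
        calc r'⁻¹ * r = r'⁻¹ * (r * p) * p⁻¹ := by group
          _ = p' * p⁻¹ := by rw [e']; group
      have h1 := hRP (mul_mem (inv_mem hr'.1) hr.1) (e2 ▸ mul_mem hp' (inv_mem hp))
      have hpp : p' = p := mul_inv_eq_one.1 (e2 ▸ h1)
      have hrr : r = r' := (inv_mul_eq_one.1 h1).symm
      subst hpp hrr
      rfl
    · rintro ⟨x, hx⟩
      obtain ⟨r, hr, p, hp, rfl⟩ := hC x (mem_centralizer_singleton_iff.1 hx)
      refine ⟨⟨⟨r, hr, ?_⟩, ⟨p, hp⟩⟩, rfl⟩
      have hpC : p ∈ Cv := mem_centralizer_singleton_iff.2 (hcomm hp hv)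
      simpa using mul_mem hx (inv_mem hpC)
  set CP := centralizer ((P : Subgroup K) : Set K)
  set D := Nat.card ↥(R ⊓ centralizer ({v} : Set K) ⊓ centralizer ({w} : Set K)) with hD
  have hCPmem : ∀ {x : K}, x ∈ CP ↔ x * v = v * x ∧ x * w = w * x := by
    intro x
    refine ⟨fun hx => ⟨(mem_centralizer_iff.1 hx v hv).symm, (mem_centralizer_iff.1 hx w hw).symm⟩,
      fun ⟨a, b⟩ => mem_centralizer_iff.2 fun y hy => ?_⟩
    rcases hlist hy with rfl | rfl | rfl | rfl
    · rw [one_mul, mul_one]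
    · exact a.symm
    · exact b.symm
    · exact ((show Commute x v from a).mul_right b).symm.eq
  have hcP : Nat.card CP = 4 * D := by
    rw [← hP4, mul_comm, hD, ← Nat.card_prod]
    refine (Nat.card_congr (Equiv.ofBijective
      (fun p : ↥(R ⊓ centralizer ({v} : Set K) ⊓ centralizer ({w} : Set K)) × (P : Subgroup K) =>
        (⟨p.1 * p.2, mul_mem (hCPmem.2 ⟨mem_centralizer_singleton_iff.1 p.1.2.1.2,
            mem_centralizer_singleton_iff.1 p.1.2.2⟩)
          (hCPmem.2 ⟨hcomm p.2.2 hv, hcomm p.2.2 hw⟩)⟩ : CP)) ⟨?_, ?_⟩)).symm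
    · rintro ⟨⟨r, hr⟩, ⟨p, hp⟩⟩ ⟨⟨r', hr'⟩, ⟨p', hp'⟩⟩ e
      have e' : r * p = r' * p' := congrArg Subtype.val e
      have e2 : r'⁻¹ * r = p' * p⁻¹ := by
        calc r'⁻¹ * r = r'⁻¹ * (r * p) * p⁻¹ := by group
          _ = p' * p⁻¹ := by rw [e']; group
      have h1 := hRP (mul_mem (inv_mem hr'.1.1) hr.1.1) (e2 ▸ mul_mem hp' (inv_mem hp))
      have hpp : p' = p := mul_inv_eq_one.1 (e2 ▸ h1)
      have hrr : r = r' := (inv_mul_eq_one.1 h1).symm
      subst hpp hrr
      rfl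
    · rintro ⟨x, hx⟩
      obtain ⟨hxv, hxw⟩ := hCPmem.1 hx
      obtain ⟨r, hr, p, hp, rfl⟩ := hC x hxv
      have hpC : p ∈ CP := hCPmem.2 ⟨hcomm hp hv, hcomm hp hw⟩
      have hrC : r ∈ CP := by simpa using mul_mem hx (inv_mem hpC)
      exact ⟨⟨⟨r, ⟨hr, mem_centralizer_singleton_iff.2 (hCPmem.1 hrC).1⟩,
        mem_centralizer_singleton_iff.2 (hCPmem.1 hrC).2⟩, ⟨p, hp⟩⟩, rfl⟩
  have hBW : Nat.card R * D ^ 2 = t * t * t := by
    rw [hD, card_fixed_four (Nat.odd_iff.2 (by omega)) (hall hv hv1) (hall hw hw1) (hcomm hv hw)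
      (hsq hv (hall hv hv1)) (hsq hw (hall hw hw1))]
    have hcj : ∀ {a b : K}, h * a * h⁻¹ = b →
        Nat.card ↥(R ⊓ centralizer ({b} : Set K)) = Nat.card ↥(R ⊓ centralizer ({a} : Set K)) := by
      intro a b hab
      have hin : ∀ x, x ∈ R → h * x * h⁻¹ ∈ R := fun x hx => (mem_normalizer_iff.1 hhR x).1 hx
      refine Nat.card_congr
        { toFun := fun x => ⟨h⁻¹ * x * h, ?_, ?_⟩
          invFun := fun x => ⟨h * x * h⁻¹, hin _ x.2.1, ?_⟩
          left_inv := fun x => Subtype.ext (by show h * (h⁻¹ * x * h) * h⁻¹ = x; group)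
          right_inv := fun x => Subtype.ext (by show h⁻¹ * (h * x * h⁻¹) * h = x; group) }
      · have := (mem_normalizer_iff.1 (inv_mem hhR) x).1 x.2.1
        rwa [inv_inv] at this
      · refine mem_centralizer_singleton_iff.2 ?_
        have hx := mem_centralizer_singleton_iff.1 x.2.2
        calc h⁻¹ * x * h * a = h⁻¹ * (x * (h * a * h⁻¹)) * h := by group
          _ = h⁻¹ * (h * a * h⁻¹ * x) * h := by rw [hab, hx]
          _ = a * (h⁻¹ * x * h) := by group
      · refine mem_centralizer_singleton_iff.2 ?_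
        have hx := mem_centralizer_singleton_iff.1 x.2.2
        rw [← hab]
        calc h * x * h⁻¹ * (h * a * h⁻¹) = h * (x * a) * h⁻¹ := by group
          _ = h * a * h⁻¹ * (h * x * h⁻¹) := by rw [hx]; group
    rw [hcj h1, hcj h2, hcj h1]
  -- the normalizer
  set H := normalizer (R : Set K)
  have hRH : R ≤ H := le_normalizer
  have h12 : ∀ M : Subgroup K, M ≤ H → ¬ 2 ∣ Nat.card M → (∀ x ∈ H, ∀ y ∈ M, x * y * x⁻¹ ∈ M) →
      12 ∣ M.relIndex H := by
    intro M hMH hM2 hMn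
    have hMN : (M.subgroupOf H).Normal := ⟨fun y hy x => hMn x x.2 y hy⟩
    have h4 : 4 ∣ M.relIndex H := by
      have h4H : 4 ∣ Nat.card H := hP4 ▸ card_dvd_of_le hPR
      rw [← card_mul_index (M.subgroupOf H), Nat.card_congr (subgroupOfEquivOfLe hMH).toEquiv] at h4H
      exact ((Nat.Coprime.pow_left 2 (Nat.prime_two.coprime_iff_not_dvd.2 hM2))).dvd_of_dvd_mul_left
        (show 2 ^ 2 ∣ _ from h4H)
    have h3 : 3 ∣ M.relIndex H := by
      set π := QuotientGroup.mk' (M.subgroupOf H)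
      set hh : H := ⟨h, hhR⟩
      have hfix : ∀ n : ℕ, π hh ^ n = 1 → h ^ n * v * (h ^ n)⁻¹ = v := by
        intro n hn
        rw [← map_pow] at hn
        have hm : h ^ n ∈ M := mem_subgroupOf.1 ((QuotientGroup.eq_one_iff _).1 hn)
        have hPn : ∀ {y : K}, y ∈ (P : Subgroup K) → h * y * h⁻¹ ∈ (P : Subgroup K) := by
          intro y hy
          rcases hlist hy with rfl | rfl | rfl | rfl
          · simp
          · exact h1 ▸ hw
          · exact h2 ▸ hvw'
          · rw [← conj_mul, h1, h2]; exact mul_mem hw hvw'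
        have hit : ∀ (j : ℕ) {y : K}, y ∈ (P : Subgroup K) → h ^ j * y * (h ^ j)⁻¹ ∈ (P : Subgroup K) := by
          intro j
          induction j with
          | zero => intro y hy; simpa using hy
          | succ j ih =>
            intro y hy
            rw [pow_succ', show h * h ^ j * y * (h * h ^ j)⁻¹ = h * (h ^ j * y * (h ^ j)⁻¹) * h⁻¹ by group]
            exact hPn (ih hy)
        have hcomMP : h ^ n * v * (h ^ n)⁻¹ * v⁻¹ ∈ M := by
          rw [show h ^ n * v * (h ^ n)⁻¹ * v⁻¹ = h ^ n * (v * (h ^ n)⁻¹ * v⁻¹) by group]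
          exact mul_mem hm (hMn v (hPR hv) _ (inv_mem hm))
        have hP' : h ^ n * v * (h ^ n)⁻¹ * v⁻¹ ∈ (P : Subgroup K) := mul_mem (hit n hv) (inv_mem hv)
        by_contra hne
        have ho : orderOf (h ^ n * v * (h ^ n)⁻¹ * v⁻¹) = 2 := orderOf_eq_prime
          (by rw [pow_two]; exact hall hP' fun e => hne (mul_inv_eq_one.1 e))
          (fun e => hne (mul_inv_eq_one.1 e))
        exact hM2 (ho ▸ Subgroup.orderOf_dvd_natCard M hcomMP)
      have h3' : h ^ 3 * v * (h ^ 3)⁻¹ = v := by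
        rw [show h ^ 3 * v * (h ^ 3)⁻¹ = h * (h * (h * v * h⁻¹) * h⁻¹) * h⁻¹ by
          rw [pow_succ, pow_succ, pow_one]; group, h1, h2,
          ← conj_mul, h1, h2, ← mul_assoc, hcomm hw hv, mul_assoc, hall hw hw1, mul_one]
      have hper : ∀ q : ℕ, h ^ (3 * q) * v * (h ^ (3 * q))⁻¹ = v := by
        intro q
        induction q with
        | zero => simp
        | succ q ih =>
          rw [Nat.mul_succ, pow_add, show h ^ (3 * q) * h ^ 3 * v * (h ^ (3 * q) * h ^ 3)⁻¹ =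
            h ^ (3 * q) * (h ^ 3 * v * (h ^ 3)⁻¹) * (h ^ (3 * q))⁻¹ by group, h3', ih]
      have ho : 3 ∣ orderOf (π hh) := by
        have hf := hfix _ (pow_orderOf_eq_one (π hh))
        by_contra hnd
        obtain ⟨q, hq⟩ : ∃ q, orderOf (π hh) = 3 * q + 1 ∨ orderOf (π hh) = 3 * q + 2 :=
          ⟨orderOf (π hh) / 3, by omega⟩
        rcases hq with hq | hq <;> rw [hq] at hf
        · rw [pow_succ', show h * h ^ (3 * q) * v * (h * h ^ (3 * q))⁻¹ =
            h * (h ^ (3 * q) * v * (h ^ (3 * q))⁻¹) * h⁻¹ by group, hper, h1] at hf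
          exact hvw hf.symm
        · rw [pow_succ', pow_succ', show h * (h * h ^ (3 * q)) * v * (h * (h * h ^ (3 * q)))⁻¹ =
            h * (h * (h ^ (3 * q) * v * (h ^ (3 * q))⁻¹) * h⁻¹) * h⁻¹ by group, hper, h1, h2] at hf
          exact hw1 (mul_eq_left.1 hf)
      exact ho.trans (orderOf_dvd_natCard _)
    exact Nat.Coprime.mul_dvd_of_dvd_of_dvd (by norm_num : Nat.Coprime 4 3) h4 h3
  obtain ⟨j, hj⟩ := h12 R hRH hR (fun x hx y hy => (mem_normalizer_iff.1 hx y).1 hy)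
  have hcH : Nat.card H = Nat.card R * (12 * j) := by
    rw [← hj, relIndex, ← Nat.card_congr (subgroupOfEquivOfLe hRH).toEquiv, card_mul_index]
  have hbound : H.index * j ≤ 6 := index_bound g₀ hg₀ hg₀' hnc P v hv
    (orderOf_eq_prime (by rw [pow_two]; exact hall hv hv1) hv1) (t := t) (D := D) hcC hcP hBW
    (by rw [← card_mul_index H, hcH]; ring)
  have hj0 : 0 < j := Nat.pos_of_ne_zero fun e => by
    rw [e, mul_zero, mul_zero] at hcH
    exact Nat.card_pos.ne' hcH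
  have hk5 : H.index ≤ 5 := by
    have hle : H.index ≤ 6 := le_trans (Nat.le_mul_of_pos_right _ hj0) hbound
    have hodd : ¬ 2 ∣ H.index := fun h' => P.not_dvd_index (h'.trans (index_dvd_of_le hPR))
    omega
  -- the kernel of the action on the cosets
  set N := H.normalCore
  have hNH : N ≤ H := normalCore_le H
  by_cases hN2 : 2 ∣ Nat.card N
  · -- the normalizer is everything
    obtain ⟨⟨y, hyN⟩, hy⟩ := exists_prime_orderOf_dvd_card' (G := N) 2 hN2
    rw [Subgroup.orderOf_mk] at hy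
    obtain ⟨c, hc⟩ := Invol.exists_sylow_conj_mem P hy
    have hPN : ∀ a ∈ (P : Subgroup K), a ∈ N := by
      intro a ha
      by_cases ha1 : a = 1
      · exact ha1 ▸ one_mem N
      obtain ⟨d, hd⟩ := isConj_iff.1 (Char.sylow_four_involutions hg₀' hg₀ hnc P hc
        (show orderOf (c * y * c⁻¹) = 2 by
          rw [← MulAut.conj_apply, MulEquiv.orderOf_eq, hy]) ha ha1).2
      rw [← hd]
      exact (normalCore_normal H).conj_mem _ ((normalCore_normal H).conj_mem _ hyN c) d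
    have hNP : normalizer ((P : Subgroup K) : Set K) ≤ H := by
      intro n hn
      have hCH : ∀ {x : K}, x * v = v * x → x ∈ H := fun {x} hx => by
        obtain ⟨r, hr, p, hp, rfl⟩ := hC x hx
        exact mul_mem (hRH hr) (hPR hp)
      have hnv : n * v * n⁻¹ ∈ (P : Subgroup K) := (mem_normalizer_iff.1 hn v).1 hv
      rcases hlist hnv with e | e | e | e
      · exact absurd (conj_eq_one_iff.1 e) hv1
      · exact hCH (mul_inv_eq_iff_eq_mul.1 e)
      · have : h⁻¹ * n ∈ H := hCH (by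
          calc h⁻¹ * n * v = h⁻¹ * (n * v * n⁻¹) * h * (h⁻¹ * n) := by group
            _ = v * (h⁻¹ * n) := by rw [e, ← h1]; group)
        simpa using mul_mem hhR this
      · have : (h * h)⁻¹ * n ∈ H := hCH (by
          calc (h * h)⁻¹ * n * v = (h * h)⁻¹ * (n * v * n⁻¹) * (h * h) * ((h * h)⁻¹ * n) := by group
            _ = v * ((h * h)⁻¹ * n) := by rw [e, ← h2, ← h1]; group)
        have h' := mul_mem (mul_mem hhR hhR) this
        rwa [mul_inv_cancel_left] at h'
    have htop : H = ⊤ := by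
      have : N.Normal := normalCore_normal H
      exact eq_top_iff.2 ((Sylow.normalizer_sup_eq_top' P hPN).ge.trans (sup_le hNP hNH))
    have hRn : R.Normal := normalizer_eq_top_iff.1 htop
    exact Core.le_pPrimeCore (Nat.Coprime.symm (Nat.prime_two.coprime_iff_not_dvd.2 hR))
  · -- the kernel is odd
    have hNc : N ≤ pPrimeCore 2 K :=
      Core.le_pPrimeCore (Nat.Coprime.symm (Nat.prime_two.coprime_iff_not_dvd.2 hN2))
    refine le_trans ?_ hNc
    have hNn : (N.subgroupOf H).Normal := inferInstance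
    -- the order of the image
    have hdvd : N.relIndex H ∣ 24 := by
      have e1 : N.relIndex H * H.index = N.index := relIndex_mul_index hNH
      have e2 : N.index ∣ H.index.factorial := by
        rw [show N = (MulAction.toPermHom K (K ⧸ H)).ker from normalCore_eq_ker H, index_ker]
        refine (card_subgroup_dvd_card _).trans (dvd_of_eq ?_)
        rw [Nat.card_perm, index_eq_card]
      have hk0 : 0 < H.index := Nat.pos_of_ne_zero index_ne_zero_of_finite
      have e3 : H.index.factorial = (H.index - 1).factorial * H.index := by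
        rw [mul_comm, Nat.mul_factorial_pred hk0.ne']
      rw [← e1, e3] at e2
      exact (Nat.dvd_of_mul_dvd_mul_right hk0 e2).trans
        (Nat.factorial_dvd_factorial (show H.index - 1 ≤ 4 by omega))
    set M := R ⊔ N
    have hMH : M ≤ H := sup_le hRH hNH
    have hM2 : ¬ 2 ∣ Nat.card M := fun h2' => by
      have hle : Nat.card M * Nat.card ↥(R ⊓ N) = Nat.card R * Nat.card N :=
        Core.card_sup_mul_card_inf R N
      have : 2 ∣ Nat.card R * Nat.card N := hle ▸ h2'.mul_right _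
      exact ((Nat.Prime.dvd_mul Nat.prime_two).1 this).elim hR hN2
    obtain ⟨i, hi⟩ := h12 M hMH hM2 fun x hx y hy => by
      have hxR : R.map (MulAut.conj x).toMonoidHom = R := mem_normalizer_iff_map_conj_eq.1 hx
      have hxN : N.map (MulAut.conj x).toMonoidHom = N :=
        mem_normalizer_iff_map_conj_eq.1 (normalizer_eq_top (H := N) ▸ mem_top x)
      have : M.map (MulAut.conj x).toMonoidHom = M := by rw [Subgroup.map_sup, hxR, hxN]
      rw [← this]
      exact ⟨y, hy, rfl⟩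
    have e4 : N.relIndex M * M.relIndex H = N.relIndex H :=
      relIndex_mul_relIndex N M H le_sup_right hMH
    rw [hi] at e4
    have hone : N.relIndex M = 1 := by
      have hd2 : N.relIndex M * 12 ∣ 2 * 12 := by
        refine dvd_trans ?_ (show N.relIndex H ∣ 2 * 12 from hdvd)
        exact ⟨i, by rw [← e4]; ring⟩
      have hd := Nat.dvd_of_mul_dvd_mul_right (by norm_num) hd2
      rcases (Nat.dvd_prime Nat.prime_two).1 hd with e | e
      · exact e
      · exact absurd ((e ▸ relIndex_dvd_card N M : 2 ∣ Nat.card M)) hM2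
    exact le_trans le_sup_left (relIndex_eq_one.1 hone)

end Cfsg.Agent.A8Type
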