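import Cfsg.Agent.A8Type.Pair
import Cfsg.Agent.A8Type.Basic

/-!
The centralizer of an involution of the model, when the centralizer in the model is a Sylow subgroup
of it and some involution there has at most one other conjugate, its product with the first.
-/

set_option autoImplicit false
set_option maxRecDepth 8000

namespace Cfsg.Agent.A8Type

open Subgroup

namespace Base

variable {G : Type*} [Group G] [Finite G] (B : Base G)

/-- An involution whose centralizer contains a Sylow subgroup of the group is conjugate to `z`. -/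
theorem isConj_z_of_dvd {u : G} (hu : orderOf u = 2)
    (h64 : 64 ∣ Nat.card (centralizer ({u} : Set G))) : IsConj B.z u := by
  haveI : Fact (Nat.Prime 2) := ⟨Nat.prime_two⟩
  set C := centralizer ({u} : Set G)
  let T0 : Sylow 2 C := default
  set u' : C := ⟨u, mem_centralizer_singleton_iff.2 rfl⟩
  have huT : u' ∈ (T0 : Subgroup C) := by
    haveI hn : (zpowers u').Normal := ⟨fun x hx g => by
      obtain ⟨k, rfl⟩ := hx
      have hc : Commute g u' := Subtype.ext (mem_centralizer_singleton_iff.1 g.2)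
      rw [(hc.zpow_right k).eq, mul_inv_cancel_right]
      exact zpow_mem (mem_zpowers _) k⟩
    exact ((Core.le_pCore (IsPGroup.of_card (n := 1) (by
      rw [Nat.card_zpowers, ← Subgroup.orderOf_coe, hu, pow_one]))).trans
        (Core.pCore_le_sylow T0)) (mem_zpowers u')
  have hle64 : 64 ≤ Nat.card (T0.map C.subtype) := by
    rw [card_map_of_injective C.subtype_injective]
    exact Nat.le_of_dvd Nat.card_pos (T0.pow_dvd_card_of_pow_dvd_card (n := 6) (by norm_num; exact h64))
  obtain ⟨c, -, hcs⟩ := B.conj_into (H := ⊤) le_top (T0.2.map C.subtype) le_top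
  set T := ((T0 : Subgroup C).map C.subtype).map (MulAut.conj c).toMonoidHom with hT
  have hTr : T = B.f.range := by
    refine eq_of_le_of_card_ge (by rintro _ ⟨x, hx, rfl⟩; obtain ⟨s, hs⟩ := hcs x hx; exact ⟨s, hs.symm⟩) ?_
    rw [B.card_range, hT, card_map_of_injective (MulEquiv.injective _)]
    exact hle64
  have hcen : ∀ s : UT, Commute (c * u * c⁻¹) (B.f s) := by
    intro s
    obtain ⟨x, hx, hxs⟩ := (show B.f s ∈ T from hTr ▸ ⟨s, rfl⟩)
    rw [← hxs]
    refine (Commute.conj_iff c).2 ?_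
    obtain ⟨x', -, rfl⟩ := hx
    exact (mem_centralizer_singleton_iff.1 x'.2).symm
  have hu' : c * u * c⁻¹ ∈ B.f.range :=
    hTr ▸ mem_map_of_mem (MulAut.conj c).toMonoidHom (mem_map_of_mem C.subtype huT)
  obtain ⟨s, hs⟩ := hu'
  have h2 : s * s = 1 := B.inj (by
    rw [map_mul, map_one, hs, conj_mul, ← sq, ← hu, pow_orderOf_eq_one]; group)
  have h1 : s ≠ 1 := fun e => by
    rw [e, map_one] at hs
    have : orderOf (c * u * c⁻¹) = 2 := by rw [Invol.orderOf_conj, hu]
    rw [← hs, orderOf_one] at this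
    omega
  have hz : s = zs := UT.zs_facts.2.2.2 s ⟨h2, h1, by
    rw [UT.cc, Finset.filter_true_of_mem fun g _ => B.inj (by
      rw [map_mul, map_mul]
      have := (hcen g).eq
      rw [← hs] at this
      exact this.symm), Finset.card_univ, UT.fintype_card_ut]⟩
  subst hz
  exact (isConj_iff.2 ⟨c, hs.symm⟩ : IsConj u B.z).symm

/-- The hypotheses of the pair criterion in the model: the centralizer of `r` in the model is a Sylow
subgroup of its centralizer, and `y` has at most the conjugate `y * r` there. -/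
structure IsPair (r y : UT) : Prop where
  invol : r * r = 1 ∧ r ≠ 1 ∧ y * y = 1 ∧ y ≠ 1 ∧ y ≠ r ∧ y * r = r * y
  card : ¬ 2 * UT.cc r ∣ Nat.card (centralizer ({B.f r} : Set G))
  iso : ∀ w : UT, w * r = r * w → IsConj (B.f y) (B.f w) → IsConj (B.f (y * r)) (B.f (w * r)) →
    w = y ∨ w = y * r

theorem pair_setup {r y : UT} (h : B.IsPair r y) :
    ∃ (b x : ↥(centralizer ({B.f r} : Set G))) (P : Sylow 2 ↥(centralizer ({B.f r} : Set G))),
      (b : G) = B.f r ∧ (x : G) = B.f y ∧ b ∈ center _ ∧ orderOf b = 2 ∧ x * x = 1 ∧ x ≠ 1 ∧ x ≠ b ∧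
      x ∈ (P : Subgroup _) ∧
      ∀ g, g * x * g⁻¹ ∈ (P : Subgroup _) → g * x * g⁻¹ = x ∨ g * x * g⁻¹ = x * b := by
  haveI : Fact (Nat.Prime 2) := ⟨Nat.prime_two⟩
  obtain ⟨⟨hr2, hr1, hy2, hy1, hyr, hc⟩, hcard, hiso⟩ := h
  set C := centralizer ({B.f r} : Set G) with hC
  obtain ⟨S, hS⟩ := B.sylow
  have hp : IsPGroup 2 ((B.centS r).subgroupOf C) :=
    (S.2.to_le (hS ▸ map_le_range B.f _)).comap_subtype
  have hyc : B.f y ∈ B.centS r := mem_map_of_mem _ (mem_centralizer_singleton_iff.2 hc)
  refine ⟨⟨B.f r, mem_centralizer_singleton_iff.2 rfl⟩, ⟨B.f y, B.centS_le r hyc⟩,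
    hp.toSylow (fun h2 => hcard ?_), rfl, rfl, mem_center_iff.2 fun g =>
      Subtype.ext (mem_centralizer_singleton_iff.1 g.2), ?_,
    Subtype.ext (by show B.f y * B.f y = 1; rw [← map_mul, hy2, map_one]),
    fun e => hy1 (B.inj ((congrArg Subtype.val e).trans (map_one B.f).symm)),
    fun e => hyr (B.inj (congrArg Subtype.val e)), mem_subgroupOf.2 hyc, ?_⟩
  · rw [← ((B.centS r).subgroupOf C).card_mul_index,
      Nat.card_congr (subgroupOfEquivOfLe (B.centS_le r)).toEquiv, B.card_centS, mul_comm 2]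
    exact mul_dvd_mul_left _ h2
  · rw [Subgroup.orderOf_mk]
    exact B.orderOf_f hr2 hr1
  intro g hg
  obtain ⟨w, hw, hwe⟩ := mem_subgroupOf.1 hg
  have he : (g : G) * B.f y * (g : G)⁻¹ = B.f w := hwe.symm
  have hgb : (g : G) * B.f r * (g : G)⁻¹ = B.f r := by
    rw [mem_centralizer_singleton_iff.1 g.2, mul_inv_cancel_right]
  rcases hiso w (mem_centralizer_singleton_iff.1 hw) (isConj_iff.2 ⟨g, he⟩)
      (isConj_iff.2 ⟨g, by rw [map_mul, map_mul, ← conj_mul, he, hgb]⟩) with rfl | rfl
  · exact Or.inl (Subtype.ext he)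
  · exact Or.inr (Subtype.ext (by rw [map_mul] at he; exact he))

/-- The centralizer of `r` is solvable when that of `y` is. -/
theorem isSolvable_of_isPair {r y : UT} (h : B.IsPair r y)
    (hsol : Group.IsSolvable (centralizer ({B.f y} : Set G))) :
    Group.IsSolvable (centralizer ({B.f r} : Set G)) := by
  obtain ⟨b, x, P, -, hx, hbc, hbo, hx2, hx1, hxb, hxP, hiso⟩ := B.pair_setup h
  refine isSolvable_of_pair hbc hbo hx2 hx1 hxb P hxP hiso ?_
  haveI := hsol
  have hle : (centralizer ({x} : Set ↥(centralizer ({B.f r} : Set G)))).map (Subgroup.subtype _) ≤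
      centralizer ({B.f y} : Set G) := by
    rintro _ ⟨g, hg, rfl⟩
    rw [mem_centralizer_singleton_iff, ← hx]
    exact congrArg Subtype.val (mem_centralizer_singleton_iff.1 hg)
  haveI := Group.isSolvable_of_isSolvable_injective (f := inclusion hle) (inclusion_injective _)
  exact Group.isSolvable_of_isSolvable_injective
    (f := ((centralizer ({x} : Set _)).equivMapOfInjective _ (subtype_injective _)).toMonoidHom)
    (MulEquiv.injective _)

/-- With trivial core the centralizer of `r` preserves the pair. -/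
theorem cent_pair {r y : UT} (h : B.IsPair r y) (ht : theta (B.f r) = ⊥) {g : G}
    (hg : Commute g (B.f r)) :
    g * B.f y * g⁻¹ = B.f y ∨ g * B.f y * g⁻¹ = B.f (y * r) := by
  obtain ⟨b, x, P, hb, hx, hbc, hbo, hx2, hx1, hxb, hxP, hiso⟩ := B.pair_setup h
  obtain ⟨o, ho, hd⟩ := pair_decomp hbc hbo hx2 hx1 hxb P hxP hiso
    ⟨g, mem_centralizer_singleton_iff.2 hg.eq⟩
  have ho1 : o = 1 := Subtype.ext (mem_bot.1 (ht ▸ mem_map_of_mem (Subgroup.subtype _) ho))
  rw [ho1, inv_one, one_mul] at hd
  rw [map_mul, ← hx]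
  rcases hd with e | e
  · exact Or.inl (congrArg Subtype.val e)
  · exact Or.inr ((congrArg Subtype.val e).trans (congrArg (fun w : G => (x : G) * w) hb))

end Base

end Cfsg.Agent.A8Type
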