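import Cfsg.Agent.A8Type.Cz.Cases
import Cfsg.Agent.A8Type.Solvable

/-!
The three fusion patterns: when every involution centralizer is solvable.
-/

set_option autoImplicit false
set_option maxRecDepth 8000

namespace Cfsg.Agent.A8Type

open Subgroup

namespace UT

/-- A representative in `A` of an involution of the model up to rotations. -/
def red (w : UT) : UT :=
  if w ∈ AS then w else if rho 1 0 w ∈ AS then rho 1 0 w else rho 2 0 w

theorem red_facts : ∀ w : UT, w * w = 1 → w ≠ 1 →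
    red w ∈ AS ∧ red w ≠ 1 ∧ (w ∉ AS → w ∈ QS) ∧ (w ≠ zs → red w ≠ zs) := by
  decide +kernel

theorem iso_I : (∀ w : UT, w * w = 1 → w ≠ 1 → w * x24 = x24 * w → (red w).idx ∈ [8, 16, 24] →
      w = zs ∨ (red (w * x24)).idx ∈ c6) ∧
    ∀ w : UT, w * w = 1 → w ≠ 1 → w * as = as * w → (red w).idx ∈ [8, 16, 24] →
      w = zs ∨ (red (w * as)).idx ∈ c5 := by
  refine ⟨by decide +kernel, by decide +kernel⟩

theorem iso_U : (∀ w : UT, w * x13 = x13 * w → w ∈ AS → zp true w → zp true (w * x13) →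
      w = x23 ∨ w = x23 * x13) ∧
    (∀ r : UT, r * r = 1 → r ∉ AS → ∀ w : UT, w * r = r * w → w ∈ AS → zp true w → w = zs) ∧
    (∀ a : UT, zp true a → a ≠ zs → a ∉ QS) ∧
    (∀ j : Fin 3, ∀ r : UT, r * r = 1 → r ∉ AS → ∀ s : UT, s * rho 0 j r * s⁻¹ ∉ AS) ∧
    x23 * x13 = x13 * x23 ∧ x23 ≠ x13 ∧ x23 ≠ 1 ∧ zp true x23 ∧ zp true (x23 * x13) ∧
    x23 * x13 ∈ AS ∧ ¬ zp true x13 := by
  refine ⟨by decide +kernel, by decide +kernel, by decide +kernel, by decide +kernel,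
    by decide +kernel, by decide +kernel, by decide +kernel, by decide +kernel, by decide +kernel,
    by decide +kernel, by decide +kernel⟩

theorem reps_I : x24 ∈ AS ∧ as ∈ AS ∧ x13 ∈ AS ∧ x24 * x24 = 1 ∧ as * as = 1 ∧ x13 * x13 = 1 ∧
    x24 ≠ 1 ∧ as ≠ 1 ∧ x13 ≠ 1 ∧ x24.idx ∉ [8, 16, 24] ∧ as.idx ∉ [8, 16, 24] ∧
    x24.idx ∈ c5 ∧ as.idx ∈ c6 ∧ zs * x24 ≠ 1 ∧ zs * as ≠ 1 ∧
    (red (zs * x24)).idx ∈ c5 ∧ (red (zs * as)).idx ∈ c6 ∧
    x24 ≠ zs ∧ as ≠ zs ∧ x13 ≠ zs ∧ cc x24 = 32 ∧ cc as = 32 ∧ cc x13 = 32 := by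
  decide +kernel

theorem as_fix : (∀ i : Fin 3, ∀ s : UT, s * rho i 0 as * s⁻¹ = as → i = 0) ∧ as ∈ QS ∧
    ∀ s : UT, s ^ 8 = 1 := by
  refine ⟨by decide +kernel, by decide +kernel, by decide +kernel⟩

end UT

namespace Base

variable {G : Type*} [Group G] (B : Base G)

/-- The pattern of the group `A_n` without fusion of `E24` and `E13 E24`. -/
structure PatI : Prop where
  cls : ∀ a ∈ AS, IsConj B.z (B.f a) ↔ a.idx ∈ [8, 16, 24]
  ne : ¬ IsConj (B.f UT.x24) (B.f as)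
  rest : ∀ a ∈ AS, a ≠ 1 → a.idx ∉ [8, 16, 24] →
    IsConj (B.f a) (B.f UT.x24) ∨ IsConj (B.f a) (B.f as)
  rot : B.Rot 1 0

/-- The pattern of the alternating groups. -/
structure PatII : Prop where
  cls : ∀ a ∈ AS, IsConj B.z (B.f a) ↔ zp false a
  rest : ∀ a ∈ AS, a ≠ 1 → ¬ zp false a → IsConj (B.f a) (B.f as)
  rot : B.Rot 1 0
  norot : ¬ B.Rot 0 1

/-- The pattern of the unitary group. -/
structure PatU : Prop where
  cls : ∀ a ∈ AS, IsConj B.z (B.f a) ↔ zp true a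
  rest : ∀ a ∈ AS, a ≠ 1 → ¬ zp true a → IsConj (B.f a) (B.f UT.x13)
  rot : B.Rot 0 1

theorem conj_red (hr : B.Rot 1 0) {w : UT} (hw : w * w = 1) (hw1 : w ≠ 1) :
    IsConj (B.f w) (B.f (UT.red w)) := by
  obtain ⟨-, -, hQ, -⟩ := UT.red_facts w hw hw1
  have key : ∀ i : Fin 3, B.Rot i 0 → w ∈ QS → IsConj (B.f w) (B.f (rho i 0 w)) :=
    fun i ⟨n, _, hn⟩ hwQ => isConj_iff.2 ⟨n, hn w hwQ⟩
  unfold UT.red
  split_ifs with h1 h2
  · exact IsConj.refl _
  · exact key 1 hr (hQ h1)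
  · exact key 2 (by simpa using B.rot_mul hr hr) (hQ h1)

theorem conj_in_class {a b : UT} {l : List ℕ} (hl : l ∈ [UT.c5, UT.c6]) (ha : a.idx ∈ l)
    (hb : b.idx ∈ l) : IsConj (B.f a) (B.f b) := by
  simp only [List.mem_cons, List.not_mem_nil, or_false] at hl
  rcases hl with rfl | rfl
  · obtain ⟨-, -, g, hg⟩ := UT.class_conj 5 a ha
    obtain ⟨-, -, g', hg'⟩ := UT.class_conj 5 b hb
    exact (B.isConj_f hg).symm.trans (B.isConj_f hg')
  · obtain ⟨-, -, g, hg⟩ := UT.class_conj 6 a ha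
    obtain ⟨-, -, g', hg'⟩ := UT.class_conj 6 b hb
    exact (B.isConj_f hg).symm.trans (B.isConj_f hg')

theorem sq_of_isConj {a b : UT} (h : IsConj (B.f a) (B.f b)) (ha : a * a = 1) (ha1 : a ≠ 1) :
    b * b = 1 ∧ b ≠ 1 := by
  have h2 := Invol.orderOf_eq_two_of_isConj h (B.orderOf_f ha ha1)
  rw [orderOf_injective B.f B.inj] at h2
  exact ⟨(Invol.orderOf_eq_two_iff.1 h2).2, (Invol.orderOf_eq_two_iff.1 h2).1⟩

theorem isSolvable_conj {u w : G} (h : IsConj u w)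
    (hs : Group.IsSolvable (centralizer ({u} : Set G))) : Group.IsSolvable (centralizer ({w} : Set G)) := by
  obtain ⟨g, rfl⟩ := isConj_iff.1 h
  haveI := hs
  let e : ↥(centralizer ({u} : Set G)) →* ↥(centralizer ({g * u * g⁻¹} : Set G)) :=
    ((MulAut.conj g).toMonoidHom.comp (Subgroup.subtype _)).codRestrict _ fun x =>
      mem_centralizer_singleton_iff.2 (by
        show g * x * g⁻¹ * (g * u * g⁻¹) = g * u * g⁻¹ * (g * x * g⁻¹)
        rw [conj_mul, conj_mul, mem_centralizer_singleton_iff.1 x.2])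
  refine Group.isSolvable_of_surjective (f := e) fun x => ?_
  refine ⟨⟨g⁻¹ * x * g, mem_centralizer_singleton_iff.2 ?_⟩, Subtype.ext (by
    show g * (g⁻¹ * (x : G) * g) * g⁻¹ = x
    group)⟩
  calc g⁻¹ * (x : G) * g * u = g⁻¹ * ((x : G) * (g * u * g⁻¹)) * g := by group
    _ = u * (g⁻¹ * (x : G) * g) := by rw [mem_centralizer_singleton_iff.1 x.2]; group

variable [Finite G]

theorem card_thirtytwo {r : UT} (hr : r * r = 1) (hr1 : r ≠ 1) (hcc : UT.cc r = 32)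
    (hz : ¬ IsConj B.z (B.f r)) : ¬ 2 * UT.cc r ∣ Nat.card (centralizer ({B.f r} : Set G)) :=
  fun h => hz (B.isConj_z_of_dvd (B.orderOf_f hr hr1) (by rwa [hcc] at h))

variable (h : B.Simp)
include h

/-- In the first pattern every involution centralizer is solvable. -/
theorem solvable_I (p : B.PatI) {u : UT} (hu : u * u = 1) (hu1 : u ≠ 1) :
    Group.IsSolvable (centralizer ({B.f u} : Set G)) := by
  obtain ⟨r1, r2, -, q1, q2, -, n1, n2, -, i1, i2, k1, k2, -, -, m1, m2, z1, z2, -, d1, d2, -⟩ :=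
    UT.reps_I
  have hzw : ∀ {w : UT}, IsConj (B.f zs) (B.f w) → (UT.red w).idx ∈ [8, 16, 24] ∧ w * w = 1 ∧ w ≠ 1 := by
    intro w hw
    obtain ⟨h2, h1⟩ := B.sq_of_isConj hw UT.zs_facts.2.1 UT.zs_facts.1
    exact ⟨(p.cls _ (UT.red_facts w h2 h1).1).1 (hw.trans (B.conj_red p.rot h2 h1)), h2, h1⟩
  have hprod : ∀ {r w : UT}, r * r = 1 → r ≠ zs → IsConj (B.f (zs * r)) (B.f (w * r)) →
      IsConj (B.f (UT.red (zs * r))) (B.f (UT.red (w * r))) := by
    intro r w hr hrz hc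
    have h2 : zs * r * (zs * r) = 1 := by
      rw [mul_assoc zs, ← mul_assoc r, UT.zs_facts.2.2.1 r, mul_assoc zs r, hr, mul_one,
        UT.zs_facts.2.1]
    have h1 : zs * r ≠ 1 := fun e => hrz (by
      calc r = zs * zs * r := by rw [UT.zs_facts.2.1, one_mul]
        _ = zs := by rw [mul_assoc, e, mul_one])
    obtain ⟨h2', h1'⟩ := B.sq_of_isConj hc h2 h1
    exact ((B.conj_red p.rot h2 h1).symm.trans hc).trans (B.conj_red p.rot h2' h1')
  have s24 : Group.IsSolvable (centralizer ({B.f UT.x24} : Set G)) := by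
    refine B.isSolvable_of_isPair ⟨⟨q1, n1, UT.zs_facts.2.1, UT.zs_facts.1, z1.symm,
      (UT.zs_facts.2.2.1 _).symm⟩, B.card_thirtytwo q1 n1 d1 (fun hc => i1 ((p.cls _ r1).1 hc)),
      fun w hwc hw hwp => ?_⟩ h.solvable
    obtain ⟨h1, h2, h3⟩ := hzw hw
    refine (UT.iso_I.1 w h2 h3 hwc h1).imp id fun hbad => absurd ?_ p.ne
    exact ((B.conj_in_class (by simp) k1 m1).trans (hprod q1 z1 hwp)).trans
      (B.conj_in_class (by simp) hbad k2)
  have sas : Group.IsSolvable (centralizer ({B.f as} : Set G)) := by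
    refine B.isSolvable_of_isPair ⟨⟨q2, n2, UT.zs_facts.2.1, UT.zs_facts.1, z2.symm,
      (UT.zs_facts.2.2.1 _).symm⟩, B.card_thirtytwo q2 n2 d2 (fun hc => i2 ((p.cls _ r2).1 hc)),
      fun w hwc hw hwp => ?_⟩ h.solvable
    obtain ⟨h1, h2, h3⟩ := hzw hw
    refine (UT.iso_I.2 w h2 h3 hwc h1).imp id fun hbad => absurd ?_ p.ne
    exact (((B.conj_in_class (by simp) k2 m2).trans (hprod q2 z2 hwp)).trans
      (B.conj_in_class (by simp) hbad k1)).symm
  obtain ⟨hA, h1, -, -⟩ := UT.red_facts u hu hu1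
  refine isSolvable_conj (B.conj_red p.rot hu hu1).symm ?_
  by_cases hz : (UT.red u).idx ∈ [8, 16, 24]
  · exact isSolvable_conj ((p.cls _ hA).2 hz) h.solvable
  · rcases p.rest _ hA h1 hz with e | e
    · exact isSolvable_conj e.symm s24
    · exact isSolvable_conj e.symm sas

/-- In the pattern of the unitary group the class of `z` meets the model inside `A`. -/
theorem zclass_U (p : B.PatU) {w : UT} (hw : IsConj B.z (B.f w)) : w ∈ AS ∧ zp true w := by
  obtain ⟨h2, h1⟩ := B.sq_of_isConj hw UT.zs_facts.2.1 UT.zs_facts.1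
  have hwA : w ∈ AS := by
    by_contra hA
    obtain ⟨c, hc, r', hr', hne, he⟩ := B.to_A h2 hA
      (Dvd.dvd.trans (by norm_num) (B.card_dvd_of_conj hw))
    have hr2 : r' * r' = 1 := UT.AS_facts.2.1 r' hr'
    have hrQ := UT.iso_U.2.2.1 r' ((p.cls r' hr').1 (hw.trans (isConj_iff.2 ⟨c, he⟩))) hne
    refine B.not_fuse h hc.inv_left hr2 hrQ ((UT.red_facts w h2 h1).2.2.1 hA) ?_
    rw [← he]
    group
  exact ⟨hwA, (p.cls w hwA).1 hw⟩

/-- Without the rotation inverted by `E23` an involution outside `A` has small centralizer. -/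
theorem not32_of_norot (hno : ¬ B.Rot 1 0) {r : UT} (hr : r * r = 1) (hrA : r ∉ AS) :
    ¬ 32 ∣ Nat.card (centralizer ({B.f r} : Set G)) := by
  intro h32
  obtain ⟨c, hc, r', hr', -, he⟩ := B.to_A hr hrA h32
  obtain ⟨o, ho, s, n, ⟨hnz, i, j, hn⟩, rfl⟩ := B.exists_spl h hc
  obtain rfl : i = 0 := by_contra fun e => hno ((B.rot_split (⟨n, hnz, hn⟩ : B.Rot i j)).1 e)
  have hrQ : r ∈ QS := (UT.red_facts r hr fun e => hrA (e ▸ one_mem _)).2.2.1 hrA
  rw [show o * B.f s * n * B.f r * (o * B.f s * n)⁻¹ =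
    o * (B.f s * (n * B.f r * n⁻¹) * (B.f s)⁻¹) * o⁻¹ by group, hn r hrQ, ← B.conj_f] at he
  exact UT.iso_U.2.2.2.1 j r hr hrA s ((B.eq_conj_mod ho he) ▸ hr')

theorem isPair_x13 (p : B.PatU) : B.IsPair UT.x13 UT.x23 := by
  obtain ⟨-, -, r3, -, -, q3, -, -, n3, -, -, -, -, -, -, -, -, -, -, z3, -, -, d3⟩ := UT.reps_I
  obtain ⟨u1, -, -, -, u5, u6, u7, u8, u9, u10, u11⟩ := UT.iso_U
  refine ⟨⟨q3, n3, UT.AS_facts.2.1 _ UT.gen_mem.1, u7, u6, u5⟩,
    B.card_thirtytwo q3 n3 d3 (fun hc => u11 ((p.cls _ r3).1 hc)), fun w hwc hw hwp => ?_⟩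
  obtain ⟨hwA, hwz⟩ := B.zclass_U h p (((p.cls _ UT.gen_mem.1).2 u8).trans hw)
  obtain ⟨-, hwz'⟩ := B.zclass_U h p (((p.cls _ u10).2 u9).trans hwp)
  exact u1 w hwc hwA hwz hwz'

theorem isPair_outside (p : B.PatU) (hno : ¬ B.Rot 1 0) {r : UT} (hr : r * r = 1) (hrA : r ∉ AS) :
    B.IsPair r zs := by
  refine ⟨⟨hr, fun e => hrA (e ▸ one_mem _), UT.zs_facts.2.1, UT.zs_facts.1,
    fun e => hrA (e ▸ UT.AS_facts.2.2.2.2), (UT.zs_facts.2.2.1 r).symm⟩, ?_, fun w hwc hw _ => ?_⟩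
  · rw [(UT.outside_AS r hr hrA).1]
    exact B.not32_of_norot h hno hr hrA
  · obtain ⟨hwA, hwz⟩ := B.zclass_U h p hw
    exact Or.inl (UT.iso_U.2.1 r hr hrA w hwc hwA hwz)

/-- In the pattern of the unitary group every involution centralizer is solvable. -/
theorem solvable_U (p : B.PatU) {u : UT} (hu : u * u = 1) (hu1 : u ≠ 1) :
    Group.IsSolvable (centralizer ({B.f u} : Set G)) := by
  have s13 : Group.IsSolvable (centralizer ({B.f UT.x13} : Set G)) :=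
    B.isSolvable_of_isPair (B.isPair_x13 h p)
      (isSolvable_conj ((p.cls _ UT.gen_mem.1).2 UT.iso_U.2.2.2.2.2.2.2.1) h.solvable)
  have hAll : ∀ a ∈ AS, a ≠ 1 → Group.IsSolvable (centralizer ({B.f a} : Set G)) := by
    intro a ha ha1
    by_cases hz : zp true a
    · exact isSolvable_conj ((p.cls a ha).2 hz) h.solvable
    · exact isSolvable_conj (p.rest a ha ha1 hz).symm s13
  by_cases huA : u ∈ AS
  · exact hAll u huA hu1
  by_cases hr : B.Rot 1 0
  · obtain ⟨hA, h1, -, -⟩ := UT.red_facts u hu hu1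
    exact isSolvable_conj (B.conj_red hr hu hu1).symm (hAll _ hA h1)
  · exact B.isSolvable_of_isPair (B.isPair_outside h p hr hu huA) h.solvable

/-- Without the rotation commuting with `E23`, an element of odd order fixing `E13 E24` in the
centralizer of `z` lies in the core. -/
theorem odd_fix (hno : ¬ B.Rot 0 1) {g : G} (hodd : ¬ 2 ∣ orderOf g) (hgz : Commute g B.z)
    (hga : Commute g (B.f as)) : g ∈ theta B.z := by
  obtain ⟨hfix, hasQ, h8⟩ := UT.as_fix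
  -- the element lies in the core times the Sylow subgroup
  have hgc : g ∈ B.coreS := by
    obtain ⟨o, ho, s, n, ⟨hnz, i, j, hn⟩, rfl⟩ := B.exists_spl h hgz
    obtain rfl : j = 0 := by_contra fun e => hno ((B.rot_split (⟨n, hnz, hn⟩ : B.Rot i j)).2 e)
    have h1 : o * B.f (s * rho i 0 as * s⁻¹) * o⁻¹ = B.f as := by
      rw [B.conj_f, ← hn as hasQ, show o * (B.f s * (n * B.f as * n⁻¹) * (B.f s)⁻¹) * o⁻¹ =
        o * B.f s * n * B.f as * (o * B.f s * n)⁻¹ by group, hga.eq, mul_inv_cancel_right]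
    obtain rfl : i = 0 := hfix i s (B.eq_conj_mod ho h1)
    obtain ⟨o', ho', t, -, rfl⟩ := B.cent_Q h hnz fun q hq => by
      show n * B.f q = B.f q * n
      have := hn q hq
      rw [UT.rho_zero q hq, mul_inv_eq_iff_eq_mul] at this
      exact this
    exact ⟨o * (B.f s * o' * (B.f s)⁻¹), mul_mem ho (theta_normal (B.comm_z s) ho'), s * t,
      by rw [map_mul]; group⟩
  have hit : ∀ k : ℕ, ∀ o ∈ theta B.z, ∀ s : UT, ∃ o' ∈ theta B.z, (o * B.f s) ^ k = o' * B.f (s ^ k) := by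
    intro k o ho s
    induction k with
    | zero => exact ⟨1, one_mem _, by simp⟩
    | succ k ih =>
      obtain ⟨o', ho', he⟩ := ih
      refine ⟨o' * (B.f (s ^ k) * o * (B.f (s ^ k))⁻¹),
        mul_mem ho' (theta_normal (B.comm_z _) ho), ?_⟩
      rw [pow_succ, he, pow_succ, map_mul]
      group
  obtain ⟨o, ho, s, rfl⟩ := hgc
  obtain ⟨o', ho', he⟩ := hit (orderOf (o * B.f s)) o ho s
  rw [pow_orderOf_eq_one] at he
  have hs : s ^ orderOf (o * B.f s) = 1 :=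
    B.eq_mod (o := o') ho' (by rw [← he, map_one])
  have h1 : orderOf s ∣ 1 := by
    have hcop : Nat.Coprime (2 ^ 3) (orderOf (o * B.f s)) :=
      (Nat.prime_two.coprime_iff_not_dvd.2 hodd).pow_left 3
    rw [← hcop]
    exact Nat.dvd_gcd (orderOf_dvd_of_pow_eq_one (by norm_num; exact h8 s))
      (orderOf_dvd_of_pow_eq_one hs)
  rw [orderOf_eq_one_iff.1 (Nat.dvd_one.1 h1), map_one, mul_one]
  exact ho

end Base

end Cfsg.Agent.A8Type
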