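import Cfsg.Agent.A8Type.Balance
import Cfsg.Agent.A8Type.Patterns
import Cfsg.Agent.A8Type.Four
import Cfsg.Agent.Invol.ZStar
import Cfsg.Agent.Invol.StronglyEmbedded
import Cfsg.Agent.Invol.SEPairs

/-!
In the pattern of the alternating groups the core of the centralizer of the central involution is
trivial: the closure of the cores over a four-group of central involutions has a normalizer containing
the centralizers of both classes of involutions, which would be strongly embedded.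
-/

set_option autoImplicit false
set_option maxRecDepth 8000

namespace Cfsg.Agent.A8Type

open Subgroup

namespace UT

/-- The partner of `as` in its four-group. -/
def ev : UT := el 14

/-- The first involution of the second four-group. -/
def w1 : UT := el 26

/-- The second involution of the second four-group. -/
def w2 : UT := el 12

/-- An elementary abelian subgroup of order eight in the class of the central involution. -/
def ez : List UT := [el 8, el 16, el 24, el 32, el 40, el 48, el 56]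

theorem ez_facts : (∀ x ∈ ez, x * x = 1 ∧ x ≠ 1 ∧ zp false (red x) ∧
      ∀ y ∈ ez, x * y = y * x ∧ (x ≠ y → x * y ∈ ez)) ∧
    zs ∈ ez ∧ x13 ∈ ez ∧ zs ≠ x13 ∧ (∀ i : Fin 3, rho i 0 x13 ∈ ez ∧ rho i 0 x13 ≠ zs) ∧
    x13 ∈ AS ∧ x13 ∈ QS ∧ zs * x13 ∈ AS ∧ zp false zs ∧ zp false x13 ∧ zp false (zs * x13) := by
  refine ⟨?_, ?_, ?_, ?_, ?_, ?_, ?_, ?_, ?_, ?_, ?_⟩ <;> decide +kernel

theorem two_facts : ev ∈ AS ∧ w1 ∈ AS ∧ w2 ∈ AS ∧ as ∈ AS ∧ ev ≠ 1 ∧ as ≠ 1 ∧ ev ≠ as ∧ w1 ≠ 1 ∧ w2 ≠ 1 ∧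
    w1 ≠ w2 ∧ w1 * w2 ≠ 1 ∧ as * w1 = zs ∧ as * ev ≠ 1 ∧ as * ev ≠ as ∧ as * ev ≠ ev ∧
    as * ev ∈ AS ∧ ¬ zp false as ∧ ¬ zp false ev ∧ ¬ zp false (as * ev) ∧ ¬ zp false w1 ∧
    zp false (as * w1) ∧ zp false (w1 * as) ∧ zp false (w1 * ev) ∧ zp false (w1 * (as * ev)) ∧
    ¬ zp false w2 ∧ zp false (as * w2) ∧ el 30 ∈ AS ∧ zp false (el 30) := by
  decide +kernel

theorem centre_as : ∀ r : UT, r * as = as * r → r * r = 1 → r ≠ 1 → r ≠ as →
    (∀ t : UT, t * as = as * t → r * t = t * r) →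
    as * r ≠ 1 ∧ as * r * (as * r) = 1 ∧ (zp false (red r) ∨ zp false (red (as * r))) := by
  decide +kernel

theorem fus_as : (∀ r ∈ AS, r ≠ 1 → r ≠ as → ¬ zp false r → ¬ zp false (as * r) →
      r = ev ∨ r = as * ev) ∧
    (∀ w ∈ AS, w ≠ 1 → w ≠ as → ¬ zp false w → zp false (as * w) →
      zp false (ev * w) ∧ (w = w1 ∨ w = w2 ∨ w = w1 * w2)) ∧
    (∀ r : UT, r * as = as * r → r * r = 1 → r ∉ AS →
      w1 * r = r * w1 ∧ r * w1 * (r * w1) = 1 ∧ r * w1 ≠ 1 ∧ ¬ zp false (red (r * w1))) ∧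
    (∀ s : UT, s * as = as * s → s * ev = ev * s → s ∈ AS) ∧
    ∀ x ∈ AS, ∃ v ∈ [1, w1, w2, w1 * w2], x = v ∨ x = v * as ∨ x = v * ev ∨ x = v * (as * ev) := by
  refine ⟨?_, ?_, ?_, ?_, ?_⟩ <;> decide +kernel

theorem move_facts : (∀ α ∈ AS, ∀ β ∈ AS, α ≠ 1 → β ≠ 1 → ¬ zp false α → ¬ zp false β → α * β = el 30 →
      (α = as ∧ β = w2) ∨ (α = w2 ∧ β = as)) ∧
    (∃ s : UT, s * as * s⁻¹ = w1 ∧ s * w1 * s⁻¹ = as) ∧
    ∃ t : UT, t * as * t⁻¹ = as ∧ t * w1 * t⁻¹ = w1 ∧ t * w2 * t⁻¹ = w1 * w2 := by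
  refine ⟨?_, ?_, ?_⟩ <;> decide +kernel

theorem four_inj : ∀ v ∈ [w1, w2, w1 * w2], v ≠ 1 ∧ v ≠ as ∧ v ≠ ev ∧ v ≠ as * ev := by
  decide +kernel

end UT

section general

variable {G : Type*} [Group G] [Finite G]

omit [Finite G] in
theorem theta_mem_normalizer {x g : G} (hg : Commute g x) : g ∈ normalizer (theta x : Set G) := by
  refine mem_normalizer_iff.2 fun o => ⟨theta_normal hg, fun ho => ?_⟩
  have := theta_normal hg.inv_left ho
  rwa [show g⁻¹ * (g * o * g⁻¹) * g⁻¹⁻¹ = o by group] at this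

/-- A subgroup of odd order normalized by a four-group is covered by the fixed subgroups. -/
theorem odd_le_of_fixed {X Y : Subgroup G} (hX : ¬ 2 ∣ Nat.card X) {p q : G} (hp : p * p = 1)
    (hq : q * q = 1) (hpq : Commute p q) (hpX : p ∈ normalizer (X : Set G))
    (hqX : q ∈ normalizer (X : Set G)) (h1 : X ⊓ centralizer {p} ≤ Y)
    (h2 : X ⊓ centralizer {q} ≤ Y) (h3 : X ⊓ centralizer {p * q} ≤ Y) : X ≤ Y := by
  refine Coprime.le_of_centralizers_le hpq hpX hqX Nat.prime_two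
    (by rw [pow_two, hp]; exact one_mem _) (by rw [pow_two, hq]; exact one_mem _)
    (Nat.prime_two.coprime_iff_not_dvd.2 hX) ?_ h1 fun k => ?_
  · have hp2 : IsPGroup 2 (closure {p, q} : Subgroup G) := by
      rintro ⟨x, hx⟩
      refine ⟨1, Subtype.ext ?_⟩
      show x ^ 2 ^ 1 = 1
      rw [pow_one]
      have hc : IsMulCommutative (closure {p, q} : Subgroup G) := by
        refine Subgroup.isMulCommutative_closure ?_
        rintro a (rfl | rfl) b (rfl | rfl) <;>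
          first | exact rfl | exact hpq.eq | exact hpq.eq.symm
      induction hx using closure_induction with
      | mem y hy => rcases hy with rfl | rfl <;> simp [pow_two, hp, hq]
      | one => simp
      | mul y y' hy hy' e e' =>
        have : Commute y y' := congrArg Subtype.val (hc.is_comm.comm ⟨y, hy⟩ ⟨y', hy'⟩)
        rw [this.mul_pow, e, e', one_mul]
      | inv y _ e => rw [inv_pow, e, inv_one]
    obtain ⟨j, hj⟩ := IsPGroup.iff_card.1 hp2
    rw [hj]
    exact (Nat.prime_two.coprime_iff_not_dvd.2 hX).pow_left j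
  · rcases Nat.even_or_odd k with ⟨j, rfl⟩ | ⟨j, rfl⟩
    · rwa [← two_mul, pow_mul, pow_two, hp, one_pow, one_mul]
    · rwa [pow_add, pow_mul, pow_two, hp, one_pow, pow_one, one_mul]

/-- A 2-subgroup as large as any is a Sylow subgroup. -/
theorem exists_sylow_eq {H T : Subgroup G} (hTH : T ≤ H) (hT : IsPGroup 2 T)
    (hmax : ∀ P ≤ H, IsPGroup 2 P → Nat.card P ≤ Nat.card T) :
    ∃ S : Sylow 2 H, (S : Subgroup H) = T.subgroupOf H := by
  haveI : Fact (Nat.Prime 2) := ⟨Nat.prime_two⟩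
  obtain ⟨S, hS⟩ := (hT.comap_subtype (H := T) (K := H)).exists_le_sylow
  refine ⟨S, (eq_of_le_of_card_ge hS ?_).symm⟩
  have h1 := hmax _ (map_subtype_le (S : Subgroup H)) (S.2.map _)
  rw [card_map_of_injective H.subtype_injective] at h1
  exact h1.trans_eq (Nat.card_congr (subgroupOfEquivOfLe hTH).toEquiv).symm

theorem sylow_into {H T : Subgroup G} (hTH : T ≤ H) (hT : IsPGroup 2 T)
    (hmax : ∀ P ≤ H, IsPGroup 2 P → Nat.card P ≤ Nat.card T) {P : Subgroup G} (hP : IsPGroup 2 P)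
    (hPH : P ≤ H) : ∃ c ∈ H, ∀ x ∈ P, c * x * c⁻¹ ∈ T := by
  haveI : Fact (Nat.Prime 2) := ⟨Nat.prime_two⟩
  obtain ⟨S, hS⟩ := exists_sylow_eq hTH hT hmax
  obtain ⟨Q, hQ⟩ := (hP.comap_subtype (H := P) (K := H)).exists_le_sylow
  obtain ⟨c, hc⟩ := MulAction.exists_smul_eq H Q S
  refine ⟨c, c.2, fun x hx => ?_⟩
  have h : c * ⟨x, hPH hx⟩ * c⁻¹ ∈ (S : Subgroup H) := by
    rw [← hc, Sylow.coe_subgroup_smul]
    exact smul_mem_pointwise_smul _ (MulAut.conj c) _ (hQ (show (⟨x, hPH hx⟩ : H) ∈ P.subgroupOf H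
      from hx))
  rw [hS] at h
  exact h

/-- An element of odd order in the core modulo a central involution is in the core. -/
theorem mem_core_of_quot {C : Type*} [Group C] [Finite C] {Z : Subgroup C} [Z.Normal]
    (hZc : Z ≤ center C) (hZ2 : Nat.card Z = 2) {c : C} (hc : ¬ 2 ∣ orderOf c)
    (hq : (c : C ⧸ Z) ∈ pPrimeCore 2 (C ⧸ Z)) : c ∈ pPrimeCore 2 C := by
  haveI : Fact (Nat.Prime 2) := ⟨Nat.prime_two⟩
  obtain ⟨o, ho, hz⟩ := core_quot hZc hZ2 hq
  set w := o⁻¹ * c with hw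
  have e : c = o * w := by rw [hw, mul_inv_cancel_left]
  have hcomm : Commute o w := mem_center_iff.1 (hZc hz) o
  have h2 : w ^ 2 = 1 := by
    rw [← hZ2]
    exact orderOf_dvd_iff_pow_eq_one.1 (Subgroup.orderOf_dvd_natCard Z hz)
  obtain ⟨k, hk⟩ : ∃ k, orderOf c = 2 * k + 1 := ⟨orderOf c / 2, by omega⟩
  have h1 : c ^ (2 * k + 1) = 1 := by rw [← hk, pow_orderOf_eq_one]
  rw [e, hcomm.mul_pow, pow_succ w, pow_mul w, h2, one_pow, one_mul] at h1
  rw [e]
  refine mul_mem ho ?_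
  rw [eq_inv_of_mul_eq_one_right h1]
  exact inv_mem (pow_mem ho _)

omit [Finite G] in
theorem zpowers_two {x y : G} (hx : x * x = 1) (hy : y ∈ zpowers x) : y = 1 ∨ y = x := by
  obtain ⟨i, rfl⟩ := mem_zpowers_iff.1 hy
  have hsq : x ^ (2 : ℤ) = 1 := by rw [zpow_two, hx]
  rcases Int.even_or_odd i with ⟨k, rfl⟩ | ⟨k, rfl⟩
  · exact Or.inl (by rw [← two_mul, zpow_mul, hsq, one_zpow])
  · exact Or.inr (by rw [zpow_add, zpow_mul, hsq, one_zpow, one_mul, zpow_one])

/-- An element of odd order is a power of its square. -/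
theorem mem_of_sq_mem {H : Subgroup G} {x : G} (ho : ¬ 2 ∣ orderOf x) (h2 : x ^ 2 ∈ H) : x ∈ H := by
  have : x = (x ^ 2) ^ (orderOf x / 2 + 1) := by
    rw [← pow_mul, show 2 * (orderOf x / 2 + 1) = orderOf x + 1 by omega, pow_succ,
      pow_orderOf_eq_one, one_mul]
  rw [this]
  exact pow_mem h2 _

end general

namespace Base

open UT

variable {G : Type*} [Group G] [Finite G] (B : Base G)

/-- The closure of the cores over a four-group of central involutions. -/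
def closZ : Subgroup G := four B.z (B.f UT.x13)

/-- The centralizer of the four-group of `as` and its partner. -/
def centV : Subgroup G := centralizer ({B.f as} : Set G) ⊓ centralizer ({B.f ev} : Set G)

omit [Finite G] in
theorem comm_f {x y : UT} (hc : x * y = y * x) : Commute (B.f x) (B.f y) := by
  show B.f x * B.f y = B.f y * B.f x
  rw [← map_mul, ← map_mul, hc]

omit [Finite G] in
theorem comm_A {x y : UT} (hx : x ∈ AS) (hy : y ∈ AS) : Commute (B.f x) (B.f y) :=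
  B.comm_f (UT.AS_facts.1 x hx y hy)

variable (p : B.PatII)
include p

theorem zconj_iff {w : UT} (hw : w * w = 1) (hw1 : w ≠ 1) :
    IsConj B.z (B.f w) ↔ zp false (red w) := by
  rw [← p.cls _ (red_facts w hw hw1).1]
  exact ⟨fun h => h.trans (B.conj_red p.rot hw hw1), fun h => h.trans (B.conj_red p.rot hw hw1).symm⟩

variable (h : B.Simp)
include h

theorem bal_z {x y : G} (hx : orderOf x = 2) (hxy : Commute x y) (hy : IsConj B.z y) :
    theta x ⊓ centralizer ({y} : Set G) ≤ theta y := by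
  haveI : Fact (Nat.Prime 2) := ⟨Nat.prime_two⟩
  haveI := isSolvable_conj hy h.solvable
  exact Signalizer.core_balance hxy.eq hx Layer.isPConstrained_of_isSolvable

theorem theta_le_zfour {x r s : G} (hx : orderOf x = 2) (hrs : IsFourPair r s) (hr : IsConj B.z r)
    (hs : IsConj B.z s) (hrs' : IsConj B.z (r * s)) (cr : Commute x r) (cs : Commute x s) :
    theta x ≤ four r s :=
  odd_le_of_fixed (theta_odd x) hrs.1 hrs.2.1 hrs.2.2.2.2.2 (theta_mem_normalizer cr.symm)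
    (theta_mem_normalizer cs.symm) ((B.bal_z p h hx cr hr).trans (le_sup_of_le_left le_sup_left))
    ((B.bal_z p h hx cs hs).trans (le_sup_of_le_left le_sup_right))
    ((B.bal_z p h hx (cr.mul_right cs) hrs').trans le_sup_right)

/-- The four-group of `z` and `E13`. -/
theorem base_four : IsFourPair B.z (B.f x13) ∧ IsConj B.z B.z ∧ IsConj B.z (B.f x13) ∧
    IsConj B.z (B.z * B.f x13) := by
  obtain ⟨ez1, hz, h13, hne, -, h13A, -, hzA, -, z13, zz13⟩ := ez_facts
  refine ⟨B.pair_f (ez1 _ hz).1 (ez1 _ h13).1 (ez1 _ hz).2.1 (ez1 _ h13).2.1 hne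
    ((ez1 _ hz).2.2.2 _ h13).1, IsConj.refl _, (p.cls _ h13A).2 z13, ?_⟩
  rw [z, ← map_mul]
  exact (p.cls _ hzA).2 zz13

theorem theta_le_closZ {x : G} (hx : orderOf x = 2) (c1 : Commute x B.z)
    (c2 : Commute x (B.f x13)) : theta x ≤ B.closZ := by
  obtain ⟨h1, h2, h3, h4⟩ := B.base_four p h
  exact B.theta_le_zfour p h hx h1 h2 h3 h4 c1 c2

theorem theta_A_le {a : UT} (ha : a ∈ AS) (ha1 : a ≠ 1) : theta (B.f a) ≤ B.closZ :=
  B.theta_le_closZ p h (B.orderOf_f (UT.AS_facts.2.1 a ha) ha1) (B.comm_A ha UT.AS_facts.2.2.2.2)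
    (B.comm_A ha ez_facts.2.2.2.2.2.1)

/-- A four-group of central involutions centralizing the base one gives the same closure. -/
theorem zfour_eq {r s : G} (hrs : IsFourPair r s) (hr : IsConj B.z r) (hs : IsConj B.z s)
    (hrs' : IsConj B.z (r * s)) (r1 : Commute r B.z) (r2 : Commute r (B.f x13)) (s1 : Commute s B.z)
    (s2 : Commute s (B.f x13)) : four r s = B.closZ := by
  obtain ⟨h1, h2, h3, h4⟩ := B.base_four p h
  refine le_antisymm (sup_le (sup_le ?_ ?_) ?_) (sup_le (sup_le ?_ ?_) ?_)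
  · exact B.theta_le_closZ p h (orderOf_two hrs.1 hrs.2.2.1) r1 r2
  · exact B.theta_le_closZ p h (orderOf_two hrs.2.1 hrs.2.2.2.1) s1 s2
  · exact B.theta_le_closZ p h (orderOf_two hrs.mul_sq hrs.mul_ne) (r1.mul_left s1) (r2.mul_left s2)
  · exact B.theta_le_zfour p h (orderOf_two h1.1 h1.2.2.1) hrs hr hs hrs' r1.symm s1.symm
  · exact B.theta_le_zfour p h (orderOf_two h1.2.1 h1.2.2.2.1) hrs hr hs hrs' r2.symm s2.symm
  · exact B.theta_le_zfour p h (orderOf_two h1.mul_sq h1.mul_ne) hrs hr hs hrs'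
      (r1.symm.mul_left r2.symm) (s1.symm.mul_left s2.symm)

omit p h in
theorem closZ_mem {g : G} (hg : four (g * B.z * g⁻¹) (g * B.f x13 * g⁻¹) = B.closZ) :
    g ∈ normalizer (B.closZ : Set G) :=
  mem_normalizer_iff_map_conj_eq.2 ((four_conj g B.z (B.f x13)).symm.trans hg)

/-- The normalizer of `A` normalizes the closure. -/
theorem normA_le {n : G} (hn : n ∈ normalizer (B.A : Set G)) :
    n ∈ normalizer (B.closZ : Set G) := by
  obtain ⟨h1, h2, h3, h4⟩ := B.base_four p h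
  obtain ⟨-, -, -, -, -, h13A, -⟩ := ez_facts
  obtain ⟨r, hr, er⟩ := (mem_normalizer_iff.1 hn _).1
    (show B.z ∈ B.A from mem_map_of_mem _ UT.AS_facts.2.2.2.2)
  obtain ⟨s, hs, es⟩ := (mem_normalizer_iff.1 hn _).1 (mem_map_of_mem B.f h13A : B.f x13 ∈ B.A)
  have hz := UT.AS_facts.2.2.2.2
  have key : ∀ {x : G}, IsConj B.z x → IsConj B.z (n * x * n⁻¹) := fun hx =>
    hx.trans (isConj_iff.2 ⟨n, rfl⟩)
  refine B.closZ_mem ?_
  refine B.zfour_eq p h (h1.conj n) (key h2) (key h3) ?_ ?_ ?_ ?_ ?_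
  · rw [conj_mul]; exact key h4
  all_goals first
    | (rw [← er]; exact B.comm_A hr hz)
    | (rw [← er]; exact B.comm_A hr h13A)
    | (rw [← es]; exact B.comm_A hs hz)
    | (rw [← es]; exact B.comm_A hs h13A)

theorem range_le_closZ : B.f.range ≤ normalizer (B.closZ : Set G) := by
  rintro _ ⟨s, rfl⟩
  exact B.normA_le p h (B.mem_normA s)

/-- The centralizer of the central involution normalizes the closure. -/
theorem centZ_le {g : G} (hg : Commute g B.z) : g ∈ normalizer (B.closZ : Set G) := by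
  obtain ⟨h1, h2, h3, h4⟩ := B.base_four p h
  obtain ⟨ez1, hz, h13, hne, hrho, -, h13Q, -⟩ := ez_facts
  obtain ⟨o, ho, s, n, ⟨hnz, i, j, hn⟩, rfl⟩ := B.exists_spl h hg
  obtain rfl : j = 0 := by_contra fun e => p.norot ((B.rot_split (⟨n, hnz, hn⟩ : B.Rot i j)).2 e)
  refine mul_mem (mul_mem (le_normalizer ?_) (B.range_le_closZ p h ⟨s, rfl⟩)) ?_
  · exact (le_sup_of_le_left le_sup_left : theta B.z ≤ B.closZ) ho
  obtain ⟨hy, hyz⟩ := hrho i
  set y := rho i 0 x13 with hydef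
  have ey : n * B.f x13 * n⁻¹ = B.f y := hn _ h13Q
  have ez' : n * B.z * n⁻¹ = B.z := mul_inv_eq_iff_eq_mul.2 hnz.eq
  refine B.closZ_mem ?_
  refine B.zfour_eq p h (h1.conj n) ?_ ?_ ?_ ?_ ?_ ?_ ?_
  · exact h2.trans (isConj_iff.2 ⟨n, rfl⟩)
  · exact h3.trans (isConj_iff.2 ⟨n, rfl⟩)
  · rw [conj_mul]; exact h4.trans (isConj_iff.2 ⟨n, rfl⟩)
  · rw [ez']
  · rw [ez']; exact B.comm_f ((ez1 _ hz).2.2.2 _ h13).1
  · rw [ey]; exact B.comm_z y
  · rw [ey]; exact B.comm_f ((ez1 _ hy).2.2.2 _ h13).1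

/-- The closure has odd order. -/
theorem closZ_odd : ¬ 2 ∣ Nat.card B.closZ := by
  haveI : Fact (Nat.Prime 2) := ⟨Nat.prime_two⟩
  obtain ⟨ez1, hz, h13, hne, -⟩ := ez_facts
  let E : Subgroup G :=
    { carrier := {x | ∃ y, (y = 1 ∨ y ∈ ez) ∧ x = B.f y}
      one_mem' := ⟨1, Or.inl rfl, (map_one _).symm⟩
      mul_mem' := by
        rintro _ _ ⟨x, hx, rfl⟩ ⟨y, hy, rfl⟩
        refine ⟨x * y, ?_, (map_mul _ _ _).symm⟩
        rcases hx with rfl | hx
        · rwa [one_mul]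
        rcases hy with rfl | hy
        · rw [mul_one]; exact Or.inr hx
        by_cases e : x = y
        · exact Or.inl (e ▸ (ez1 x hx).1)
        · exact Or.inr (((ez1 x hx).2.2.2 y hy).2 e)
      inv_mem' := by
        rintro _ ⟨x, hx, rfl⟩
        refine ⟨x, hx, ?_⟩
        rw [← map_inv]
        rcases hx with rfl | hx
        · rw [inv_one]
        · rw [inv_eq_of_mul_eq_one_right (ez1 x hx).1] }
  have hmem : ∀ {x : UT}, x ∈ ez → B.f x ∈ E := fun {x} hx => ⟨x, Or.inr hx, rfl⟩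
  have hE : ∀ a ∈ E, a ≠ 1 → ∃ x ∈ ez, a = B.f x := by
    rintro _ ⟨x, hx, rfl⟩ ha
    rcases hx with rfl | hx
    · exact absurd (map_one B.f) ha
    · exact ⟨x, hx, rfl⟩
  have hcomm : ∀ a ∈ E, ∀ b ∈ E, a * b = b * a := by
    rintro _ ⟨x, hx, rfl⟩ _ ⟨y, hy, rfl⟩
    refine (B.comm_f ?_).eq
    rcases hx with rfl | hx
    · rw [one_mul, mul_one]
    rcases hy with rfl | hy
    · rw [one_mul, mul_one]
    exact ((ez1 x hx).2.2.2 y hy).1
  have hconj : ∀ a ∈ E, a ≠ 1 → IsConj B.z a ∧ orderOf a = 2 := by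
    intro a ha ha1
    obtain ⟨x, hx, rfl⟩ := hE a ha ha1
    exact ⟨(B.zconj_iff p (ez1 x hx).1 (ez1 x hx).2.1).2 (ez1 x hx).2.2.1,
      B.orderOf_f (ez1 x hx).1 (ez1 x hx).2.1⟩
  have hsq : ∀ a ∈ E, a ^ 2 = 1 := by
    intro a ha
    by_cases ha1 : a = 1
    · rw [ha1, one_pow]
    · rw [← (hconj a ha ha1).2, pow_orderOf_eq_one]
  have h8 : 2 ^ 3 ≤ Nat.card E := by
    classical
    let g : Fin 8 → E := fun i => ⟨B.f (([1, el 8, el 16, el 24, el 32, el 40, el 48, el 56] :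
      List UT).getD i.1 1), ([1, el 8, el 16, el 24, el 32, el 40, el 48, el 56] :
      List UT).getD i.1 1, by revert i; decide +kernel, rfl⟩
    have hg : Function.Injective g := fun i j e => by
      have e' := B.inj (congrArg Subtype.val e)
      clear e
      revert e'
      revert i j
      decide +kernel
    simpa using Nat.card_le_card_of_injective g hg
  have hfun := (S0217.result E hcomm hsq h8 theta (fun a _ _ => theta_le a) (fun a _ _ => theta_odd a)
    (fun a ha _ b hb x hx => theta_normal (hcomm b hb a ha) hx)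
    (fun a _ _ => S0205.result (Nat.odd_iff.2 (by have := theta_odd a; omega)))
    (fun a ha ha1 b hb hb1 => B.bal_z p h (hconj a ha ha1).2 (hcomm a ha b hb) (hconj b hb hb1).1)).1
  refine fun h2 => hfun (h2.trans (card_dvd_of_le ?_))
  have hle : ∀ {x : UT}, x ∈ ez → theta (B.f x) ≤ ⨆ a : {a : G // a ∈ E ∧ a ≠ 1}, theta (a : G) :=
    fun {x} hx => le_iSup (fun a : {a : G // a ∈ E ∧ a ≠ 1} => theta (a : G))
      ⟨B.f x, hmem hx, fun e => (ez1 x hx).2.1 (B.inj (e.trans (map_one B.f).symm))⟩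
  refine sup_le (sup_le (hle hz) (hle h13)) ?_
  rw [z, ← map_mul]
  exact hle (((ez1 _ hz).2.2.2 _ h13).2 hne)

omit p h in
theorem A_le_centV : B.A ≤ B.centV := by
  rintro _ ⟨a, ha, rfl⟩
  exact ⟨mem_centralizer_singleton_iff.2 (B.comm_A ha two_facts.2.2.2.1).eq,
    mem_centralizer_singleton_iff.2 (B.comm_A ha two_facts.1).eq⟩

theorem centS_as_max {P : Subgroup G} (hP : P ≤ centralizer ({B.f as} : Set G)) (hP2 : IsPGroup 2 P) :
    Nat.card P ≤ Nat.card (B.centS as) := by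
  haveI : Fact (Nat.Prime 2) := ⟨Nat.prime_two⟩
  obtain ⟨-, r2, -, -, q2, -, -, n2, -, -, -, -, -, -, -, -, -, -, -, -, -, d2, -⟩ := reps_I
  have hn := B.card_thirtytwo q2 n2 d2 fun hc => two_facts.2.2.2.2.2.2.2.2.2.2.2.2.2.2.2.2.1
    ((p.cls _ r2).1 hc)
  rw [B.card_centS, d2]
  rw [d2] at hn
  obtain ⟨k, hk⟩ := IsPGroup.iff_card.1 hP2
  by_contra hlt
  rw [hk, not_le, show (32 : ℕ) = 2 ^ 5 by norm_num] at hlt
  exact hn (((Nat.pow_dvd_pow 2 ((Nat.pow_lt_pow_iff_right (by norm_num)).1 hlt)).trans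
    (hk ▸ card_dvd_of_le hP)))

theorem centS_as_pgroup : IsPGroup 2 (B.centS as) := by
  obtain ⟨S, hS⟩ := B.sylow
  exact S.2.to_le (hS ▸ map_le_range B.f _)

/-- An element of `C(a)` of the type of the partner in the Sylow subgroup, not the partner. -/
theorem into_as {P : Subgroup G} (hP : P ≤ centralizer ({B.f as} : Set G)) (hP2 : IsPGroup 2 P) :
    ∃ c ∈ centralizer ({B.f as} : Set G), ∀ x ∈ P, c * x * c⁻¹ ∈ B.centS as :=
  sylow_into (B.centS_le as) (B.centS_as_pgroup p h) (fun _ h1 h2 => B.centS_as_max p h h1 h2) hP2 hP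

/-- A conjugate of the partner in the Sylow subgroup of `C(a)` has its type. -/
theorem ev_type {g : G} (hga : Commute g (B.f as)) {r : UT} (hr : g * B.f ev * g⁻¹ = B.f r) :
    r * r = 1 ∧ r ≠ 1 ∧ r ≠ as ∧ ¬ IsConj B.z (B.f r) ∧ ¬ IsConj B.z (B.f (as * r)) := by
  obtain ⟨hev, -, -, has, hev1, -, hne, -, -, -, -, -, hae1, -, -, haeA, -, hze, hzae, -⟩ := two_facts
  have hga' : g * B.f as * g⁻¹ = B.f as := mul_inv_eq_iff_eq_mul.2 hga.eq
  obtain ⟨r2, r1⟩ := B.sq_of_isConj (isConj_iff.2 ⟨g, hr⟩) (UT.AS_facts.2.1 _ hev) hev1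
  refine ⟨r2, r1, fun e => hne (B.inj ?_), fun hz => hze ?_, fun hz => hzae ?_⟩
  · refine mul_left_cancel (mul_right_cancel (hr.trans (e ▸ hga'.symm)))
  · exact (p.cls _ hev).1 (hz.trans (isConj_iff.2 ⟨g, hr⟩).symm)
  · refine (p.cls _ haeA).1 (hz.trans (isConj_iff.2 ⟨g, ?_⟩).symm)
    rw [map_mul, map_mul, ← conj_mul, hga', hr]

theorem centV_max {P : Subgroup G} (hP : P ≤ B.centV) (hP2 : IsPGroup 2 P) :
    Nat.card P ≤ Nat.card B.A := by
  obtain ⟨k, hk⟩ := IsPGroup.iff_card.1 hP2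
  obtain ⟨c, hc, hcT⟩ := B.into_as p h (hP.trans inf_le_left) hP2
  rw [B.card_A]
  by_contra hlt
  rw [hk, not_le, show (16 : ℕ) = 2 ^ 4 by norm_num] at hlt
  have h5 := (Nat.pow_lt_pow_iff_right (by norm_num)).1 hlt
  have heq : P.map (MulAut.conj c).toMonoidHom = B.centS as := by
    refine eq_of_le_of_card_ge (by rintro _ ⟨x, hx, rfl⟩; exact hcT x hx) ?_
    rw [card_map_of_injective (MulEquiv.injective _), B.card_centS, hk]
    calc UT.cc as = 2 ^ 5 := by
          rw [reps_I.2.2.2.2.2.2.2.2.2.2.2.2.2.2.2.2.2.2.2.2.2.1]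
      _ ≤ 2 ^ k := Nat.pow_le_pow_right (by norm_num) h5
  -- the image of the partner is in the centre
  have hsup : ∃ c' ∈ centralizer ({B.f as} : Set G), ∀ x ∈ P ⊔ zpowers (B.f ev), c' * x * c'⁻¹ ∈ B.centS as := by
    refine B.into_as p h (sup_le (hP.trans inf_le_left) (zpowers_le.2 ?_)) ?_
    · exact mem_centralizer_singleton_iff.2 (B.comm_A two_facts.1 two_facts.2.2.2.1).eq
    · refine hP2.to_sup_of_normal_left' (IsPGroup.of_card (n := 1) ?_) (zpowers_le.2 ?_)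
      · rw [Nat.card_zpowers, B.orderOf_f (UT.AS_facts.2.1 _ two_facts.1) two_facts.2.2.2.2.1, pow_one]
      · exact centralizer_le_normalizer _ (mem_centralizer_iff.2 fun x hx =>
          mem_centralizer_singleton_iff.1 (hP hx).2)
  obtain ⟨c', hc', hcT'⟩ := hsup
  obtain ⟨r, hrT, hr⟩ := hcT' _ (mem_sup_right (mem_zpowers _))
  obtain ⟨r2, r1, ras, nz, naz⟩ := B.ev_type p h (mem_centralizer_singleton_iff.1 hc') hr.symm
  have heq' : P.map (MulAut.conj c').toMonoidHom = B.centS as := by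
    refine eq_of_le_of_card_ge (by rintro _ ⟨x, hx, rfl⟩; exact hcT' x (mem_sup_left hx)) ?_
    rw [card_map_of_injective (MulEquiv.injective _), ← heq,
      card_map_of_injective (MulEquiv.injective _)]
  obtain ⟨a1, a2, ha⟩ := centre_as r (mem_centralizer_singleton_iff.1 hrT) r2 r1 ras fun t ht => by
    have : B.f t ∈ P.map (MulAut.conj c').toMonoidHom := by
      rw [heq']; exact mem_map_of_mem _ (mem_centralizer_singleton_iff.2 ht)
    obtain ⟨x, hx, hxe⟩ := this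
    refine B.inj ?_
    rw [map_mul, map_mul, ← hxe, hr]
    exact ((Commute.conj_iff c').2 (mem_centralizer_singleton_iff.1 (hP hx).2)).eq.symm
  rcases ha with ha | ha
  · exact nz ((B.zconj_iff p r2 r1).2 ha)
  · exact naz ((B.zconj_iff p a2 a1).2 ha)

/-- The conjugates of the partner in the Sylow subgroup of `C(a)`. -/
theorem fix_ev {g : G} (hga : Commute g (B.f as)) {r : UT} (hr : g * B.f ev * g⁻¹ = B.f r) :
    r = ev ∨ r = as * ev := by
  haveI : Fact (Nat.Prime 2) := ⟨Nat.prime_two⟩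
  obtain ⟨hev, hw1A, -, has, hev1, -, -, hw11, -, -, -, haw, -⟩ := two_facts
  obtain ⟨f1, f2, f3, -⟩ := fus_as
  obtain ⟨r2, r1, ras, nz, naz⟩ := B.ev_type p h hga hr
  have hra : r * as = as * r := B.inj (by
    rw [map_mul, map_mul, ← hr, ← (mul_inv_eq_iff_eq_mul.2 hga.eq : g * B.f as * g⁻¹ = B.f as),
      conj_mul, conj_mul, (B.comm_A hev has).eq])
  by_cases hrA : r ∈ AS
  · refine f1 r hrA r1 ras (fun e => nz ((p.cls r hrA).2 e)) fun e => naz ?_
    exact (p.cls _ (mul_mem has hrA)).2 e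
  exfalso
  obtain ⟨hrw, s2, s1, hs⟩ := f3 r hra r2 hrA
  set P := ((centralizer ({r} : Set UT) ⊓ centralizer ({as} : Set UT)).map B.f).map
    (MulAut.conj g⁻¹).toMonoidHom
  have hPp : IsPGroup 2 P := by
    obtain ⟨S, hS⟩ := B.sylow
    exact (S.2.to_le (hS ▸ map_le_range B.f _)).map _
  have hgi : g⁻¹ * B.f r * g = B.f ev := by rw [← hr]; group
  have hga2 : g⁻¹ * B.f as * g = B.f as := by
    rw [mul_assoc, ← hga.eq, inv_mul_cancel_left]
  have hPV : P ≤ B.centV := by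
    rintro _ ⟨_, ⟨y, ⟨hy1, hy2⟩, rfl⟩, rfl⟩
    show g⁻¹ * B.f y * g⁻¹⁻¹ ∈ B.centV
    have key : ∀ {u : UT} {w : G}, y * u = u * y → g⁻¹ * B.f u * g = w →
        g⁻¹ * B.f y * g⁻¹⁻¹ ∈ centralizer ({w} : Set G) := fun {u w} e e' => by
      refine mem_centralizer_singleton_iff.2 ?_
      have := ((Commute.conj_iff g⁻¹).2 (B.comm_f e)).eq
      rwa [show g⁻¹ * B.f u * g⁻¹⁻¹ = w by rw [inv_inv, e']] at this
    exact ⟨key (mem_centralizer_singleton_iff.1 hy2) hga2, key (mem_centralizer_singleton_iff.1 hy1) hgi⟩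
  obtain ⟨d, hd, hdA⟩ := sylow_into B.A_le_centV
    (IsPGroup.of_card (n := 4) (by rw [B.card_A]; norm_num))
    (fun _ h1 h2 => B.centV_max p h h1 h2) hPp hPV
  obtain ⟨w, hw, hwe⟩ := hdA _ (mem_map_of_mem _ (mem_map_of_mem B.f
    (show w1 ∈ _ from ⟨mem_centralizer_singleton_iff.2 hrw,
      mem_centralizer_singleton_iff.2 (UT.AS_facts.1 _ hw1A _ has)⟩)))
  set k := d * g⁻¹ with hk
  have hwk : k * B.f w1 * k⁻¹ = B.f w := by
    rw [hwe]
    show _ = d * (g⁻¹ * B.f w1 * g⁻¹⁻¹) * d⁻¹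
    rw [hk]; group
  have hka : k * B.f as * k⁻¹ = B.f as := by
    rw [hk, show d * g⁻¹ * B.f as * (d * g⁻¹)⁻¹ = d * (g⁻¹ * B.f as * g) * d⁻¹ by group, hga2,
      mem_centralizer_singleton_iff.1 hd.1, mul_inv_cancel_right]
  have hkr : k * B.f r * k⁻¹ = B.f ev := by
    rw [hk, show d * g⁻¹ * B.f r * (d * g⁻¹)⁻¹ = d * (g⁻¹ * B.f r * g) * d⁻¹ by group, hgi,
      mem_centralizer_singleton_iff.1 hd.2, mul_inv_cancel_right]
  obtain ⟨-, -, -, -, -, -, -, -, -, -, -, -, -, -, -, -, hza, -, -, hzw, hzaw, -⟩ := two_facts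
  obtain ⟨w2', w1'⟩ := B.sq_of_isConj (isConj_iff.2 ⟨k, hwk⟩) (UT.AS_facts.2.1 _ hw1A) hw11
  have hwas : w ≠ as := fun e => by
    have : B.f w1 = B.f as := mul_left_cancel (mul_right_cancel (hwk.trans (e ▸ hka.symm)))
    exact hzaw |> fun hz => by
      rw [B.inj this, UT.AS_facts.2.1 _ has] at hz
      exact absurd hz (by decide +kernel)
  have h1 := (f2 w hw w1' hwas
    (fun e => hzw ((p.cls _ hw1A).1 (((p.cls _ hw).2 e).trans (isConj_iff.2 ⟨k, hwk⟩).symm)))
    ((p.cls _ (mul_mem has hw)).1 (((p.cls _ (mul_mem has hw1A)).2 hzaw).trans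
      (isConj_iff.2 ⟨k, by rw [map_mul, map_mul, ← conj_mul, hka, hwk]⟩)))).1
  refine hs ((B.zconj_iff p s2 s1).1 (((p.cls _ (mul_mem hev hw)).2 h1).trans
    (isConj_iff.2 ⟨k, ?_⟩).symm))
  rw [map_mul, map_mul, ← conj_mul, hkr, hwk]

/-- The centralizer of `as` is its core times the normalizer of the four-group. -/
theorem centA_decomp {g : G} (hg : Commute g (B.f as)) :
    ∃ o ∈ theta (B.f as), ∃ n : G, Commute n (B.f as) ∧
      (n * B.f ev * n⁻¹ = B.f ev ∨ n * B.f ev * n⁻¹ = B.f as * B.f ev) ∧ g = o * n := by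
  haveI : Fact (Nat.Prime 2) := ⟨Nat.prime_two⟩
  obtain ⟨hev, -, -, has, hev1, has1, hne, -⟩ := two_facts
  set a := B.f as with ha
  set e := B.f ev with he
  set X := centralizer ({a} : Set G)
  have haX : a ∈ X := mem_centralizer_singleton_iff.2 rfl
  have heX : e ∈ X := mem_centralizer_singleton_iff.2 (B.comm_A hev has).eq
  have ha2 : orderOf a = 2 := B.orderOf_f (UT.AS_facts.2.1 _ has) has1
  have he2 : orderOf e = 2 := B.orderOf_f (UT.AS_facts.2.1 _ hev) hev1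
  set a' : X := ⟨a, haX⟩
  set e' : X := ⟨e, heX⟩
  set Z := zpowers a'
  have hZc : Z ≤ center X := zpowers_le.2 (mem_center_iff.2 fun x =>
    Subtype.ext (mem_centralizer_singleton_iff.1 x.2))
  haveI hZn : Z.Normal := ⟨fun n hn x => by rwa [mem_center_iff.1 (hZc hn) x, mul_inv_cancel_right]⟩
  have hZ2 : Nat.card Z = 2 := by rw [Nat.card_zpowers, ← Subgroup.orderOf_coe, ha2]
  have haa : a' * a' = 1 := Subtype.ext (Invol.orderOf_eq_two_iff.1 ha2).2
  have hZmem : ∀ x ∈ Z, x = 1 ∨ x = a' := by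
    intro x hx
    obtain ⟨i, rfl⟩ := mem_zpowers_iff.1 hx
    have hsq : a' ^ (2 : ℤ) = 1 := by rw [zpow_two, haa]
    rcases Int.even_or_odd i with ⟨k, rfl⟩ | ⟨k, rfl⟩
    · exact Or.inl (by rw [← two_mul, zpow_mul, hsq, one_zpow])
    · exact Or.inr (by rw [zpow_add, zpow_mul, hsq, one_zpow, one_mul, zpow_one])
  set π := QuotientGroup.mk' Z
  -- conjugates in the Sylow subgroup
  have fix : ∀ x : X, ((x * e' * x⁻¹ : X) : G) ∈ B.centS as → π (x * e' * x⁻¹) = π e' := by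
    intro x hx
    obtain ⟨r, -, hr⟩ := hx
    rcases B.fix_ev p h (mem_centralizer_singleton_iff.1 x.2) hr.symm with rfl | rfl
    · rw [show x * e' * x⁻¹ = e' from Subtype.ext hr.symm]
    · rw [show x * e' * x⁻¹ = a' * e' from Subtype.ext (hr.symm.trans (map_mul _ _ _)), map_mul,
        show π a' = 1 from (QuotientGroup.eq_one_iff _).2 (mem_zpowers a'), one_mul]
  have hee : e' * e' = 1 := Subtype.ext (Invol.orderOf_eq_two_iff.1 he2).2
  have hiso : IsIsolatedInvolution (π e') := by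
    refine ⟨orderOf_eq_prime (by rw [← map_pow, pow_two, hee, map_one]) fun e1 => ?_, fun q hq => ?_⟩
    · rcases hZmem _ ((QuotientGroup.eq_one_iff _).1 e1) with e2 | e2
      · exact hev1 (B.inj ((congrArg Subtype.val e2).trans (map_one B.f).symm))
      · exact hne (B.inj (congrArg Subtype.val e2))
    obtain ⟨x, rfl⟩ := QuotientGroup.mk_surjective q
    have ew : π x * π e' * (π x)⁻¹ = π (x * e' * x⁻¹) := by simp
    change π x * π e' * (π x)⁻¹ = π e'
    change Commute (π e') (π x * π e' * (π x)⁻¹) at hq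
    rw [ew] at hq ⊢
    set w := x * e' * x⁻¹ with hw
    have hord : ∀ y : X, y * y = 1 → IsPGroup 2 (zpowers (π y)) := fun y hy => by
      intro t
      refine ⟨1, Subtype.ext ?_⟩
      obtain ⟨i, hi⟩ := mem_zpowers_iff.1 t.2
      rw [Subgroup.coe_pow, pow_one, ← hi, ← zpow_natCast, ← zpow_mul, mul_comm, zpow_mul,
        zpow_natCast, pow_two, ← map_mul, hy, map_one, one_zpow, OneMemClass.coe_one]
    have hww : w * w = 1 := by rw [hw, conj_mul, hee]; group
    have hP : IsPGroup 2 (zpowers (π e') ⊔ zpowers (π w) : Subgroup (X ⧸ Z)) :=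
      (hord _ hee).to_sup_of_normal_left' (hord _ hww) (zpowers_le.2
        (centralizer_le_normalizer _ (mem_centralizer_iff.2 fun y hy => by
          obtain ⟨i, rfl⟩ := mem_zpowers_iff.1 hy
          exact (hq.zpow_left i).eq)))
    set P := (zpowers (π e') ⊔ zpowers (π w)).comap π with hPdef
    have hP' : IsPGroup 2 P := hP.comap_of_ker_isPGroup π (by
      rw [QuotientGroup.ker_mk']; exact IsPGroup.of_card (n := 1) (by rw [hZ2, pow_one]))
    obtain ⟨c, hc, hcT⟩ := B.into_as p h (map_subtype_le P) (hP'.map _)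
    set c' : X := ⟨c, hc⟩
    have h1 := fix c' (hcT _ (mem_map_of_mem X.subtype
      (show e' ∈ P from mem_sup_left (mem_zpowers (π e')))))
    have h2 := fix (c' * x) (by
      rw [show c' * x * e' * (c' * x)⁻¹ = c' * w * c'⁻¹ by rw [hw]; group]
      exact hcT _ (mem_map_of_mem X.subtype (show w ∈ P from mem_sup_right (mem_zpowers (π w)))))
    rw [show c' * x * e' * (c' * x)⁻¹ = c' * w * c'⁻¹ by rw [hw]; group, ← h1] at h2
    simp only [map_mul, map_inv] at h2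
    exact mul_left_cancel (mul_right_cancel h2)
  set g' : X := ⟨g, mem_centralizer_singleton_iff.2 hg.eq⟩
  have hz := Invol.zstar hiso (π g')
  rw [← map_inv π e', ← map_inv π g', ← map_mul, ← map_mul, ← map_mul] at hz
  obtain ⟨o, ho, hoz⟩ := core_quot hZc hZ2 hz
  have hei : e'⁻¹ = e' := inv_eq_of_mul_eq_one_right hee
  -- the conjugate as a core element times the partner
  obtain ⟨ζ, hζ, hc⟩ : ∃ ζ : X, (ζ = 1 ∨ ζ = a') ∧ g' * e' * g'⁻¹ = e' * o * ζ := by
    refine ⟨_, hZmem _ hoz, ?_⟩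
    calc g' * e' * g'⁻¹ = e' * (e' * g' * e'⁻¹ * g'⁻¹) := by
          rw [hei]; simp only [← mul_assoc, hee, one_mul]
      _ = _ := by group
  have hζc : ζ ∈ center X := by
    rcases hζ with rfl | rfl
    exacts [one_mem _, hZc (mem_zpowers a')]
  have hζ2 : ζ * ζ = 1 := by rcases hζ with rfl | rfl; exacts [one_mul _, haa]
  have hinv : e' * o * e' * o = 1 := by
    calc e' * o * e' * o = e' * o * (ζ * ζ) * (e' * o) := by rw [hζ2, mul_one, mul_assoc (e' * o)]
      _ = e' * o * ζ * (ζ * (e' * o)) := by simp only [mul_assoc]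
      _ = e' * o * ζ * (e' * o * ζ) := by rw [mem_center_iff.1 hζc (e' * o)]
      _ = 1 := by rw [← hc, conj_mul, hee]; group
  obtain ⟨k, hk⟩ : ∃ k, orderOf o = 2 * k + 1 := by
    refine ⟨orderOf o / 2, ?_⟩
    have : ¬ 2 ∣ orderOf o := fun h2 =>
      Core.not_dvd_card_pPrimeCore (p := 2) (G := X) (h2.trans (Subgroup.orderOf_dvd_natCard _ ho))
    omega
  set u := o ^ (k + 1) with hu
  have huo : u * u = o := by
    rw [hu, ← pow_add, show k + 1 + (k + 1) = orderOf o + 1 by omega, pow_succ, pow_orderOf_eq_one,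
      one_mul]
  have heu : e' * u * e'⁻¹ = u⁻¹ := by
    have : e' * o * e'⁻¹ = o⁻¹ := by rw [hei]; exact eq_inv_of_mul_eq_one_left hinv
    rw [hu, ← conj_pow, this, inv_pow]
  -- `g'` is a core element times an element of the normalizer
  have hn : (u * g') * e' * (u * g')⁻¹ = e' * ζ := by
    calc u * g' * e' * (u * g')⁻¹ = u * (g' * e' * g'⁻¹) * u⁻¹ := by group
      _ = u * e' * (u * u) * (ζ * u⁻¹) := by rw [hc, huo]; group
      _ = e' * (e' * u * e'⁻¹) * (u * u) * (ζ * u⁻¹) := by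
          rw [hei]; simp only [← mul_assoc, hee, one_mul]
      _ = e' * u * ζ * u⁻¹ := by rw [heu]; group
      _ = e' * ζ := by rw [mul_assoc e' u, mem_center_iff.1 hζc u]; group
  refine ⟨((u⁻¹ : X) : G), ⟨u⁻¹, inv_mem (pow_mem ho _), rfl⟩, ((u * g' : X) : G),
    mem_centralizer_singleton_iff.1 (u * g' : X).2, ?_, by
      show g = ((u⁻¹ * (u * g') : X) : G); rw [inv_mul_cancel_left]⟩
  rcases hζ with rfl | rfl
  · exact Or.inl (by simpa using congrArg Subtype.val hn)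
  · refine Or.inr ?_
    have := congrArg Subtype.val hn
    simp only [Subgroup.coe_mul, Subgroup.coe_inv] at this ⊢
    rw [this]
    exact (B.comm_A hev has).eq

/-- An element of the normalizer of `A` cycling the second four-group. -/
theorem exists_cycle : ∃ n ∈ normalizer (B.A : Set G), n ∈ B.centV ∧
    n * B.f w1 * n⁻¹ = B.f w2 ∧ n * B.f w2 * n⁻¹ = B.f (w1 * w2) := by
  obtain ⟨hev, hw1A, hw2A, has, hev1, has1, hne, hw11, hw21, hw12, -, haw, -, -, -, haeA, hza, hze, hzae,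
    hzw, hzaw, -, -, -, hzw2, hzaw2, h30A, hz30⟩ := two_facts
  obtain ⟨m1, ⟨s, hs1, hs2⟩, t, ht1, ht2, ht3⟩ := move_facts
  obtain ⟨n0, hn0, e0⟩ := B.conj_in_A (mem_map_of_mem B.f UT.AS_facts.2.2.2.2)
    (mem_map_of_mem B.f h30A) ((p.cls _ h30A).2 hz30)
  have img : ∀ n ∈ normalizer (B.A : Set G), ∀ x ∈ AS, x ≠ 1 → ∃ y ∈ AS, y ≠ 1 ∧
      n * B.f x * n⁻¹ = B.f y ∧ (zp false y ↔ zp false x) := by
    intro n hn x hx hx1
    obtain ⟨y, hy, e⟩ := (mem_normalizer_iff.1 hn _).1 (mem_map_of_mem B.f hx)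
    have hc : IsConj (B.f x) (B.f y) := isConj_iff.2 ⟨n, e.symm⟩
    refine ⟨y, hy, (B.sq_of_isConj hc (UT.AS_facts.2.1 x hx) hx1).2, e.symm, ?_⟩
    rw [← p.cls x hx, ← p.cls y hy]
    exact ⟨fun h' => h'.trans hc.symm, fun h' => h'.trans hc⟩
  obtain ⟨α, hα, hα1, eα, zα⟩ := img n0 hn0 as has has1
  obtain ⟨β, hβ, hβ1, eβ, zβ⟩ := img n0 hn0 w1 hw1A hw11
  have hαβ : α * β = el 30 := B.inj (by
    rw [map_mul, ← eα, ← eβ, conj_mul, ← map_mul, haw]; exact e0)
  obtain ⟨n1, hn1, c1, c2⟩ : ∃ n ∈ normalizer (B.A : Set G),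
      n * B.f as * n⁻¹ = B.f as ∧ n * B.f w1 * n⁻¹ = B.f w2 := by
    rcases m1 α hα β hβ hα1 hβ1 (fun e => hza (zα.1 e)) (fun e => hzw (zβ.1 e)) hαβ with
      ⟨rfl, rfl⟩ | ⟨rfl, rfl⟩
    · exact ⟨n0, hn0, eα, eβ⟩
    · refine ⟨n0 * B.f s, mul_mem hn0 (B.mem_normA s), ?_, ?_⟩
      · rw [show n0 * B.f s * B.f as * (n0 * B.f s)⁻¹ = n0 * (B.f s * B.f as * (B.f s)⁻¹) * n0⁻¹ by
          group, ← B.conj_f, hs1, eβ]
      · rw [show n0 * B.f s * B.f w1 * (n0 * B.f s)⁻¹ = n0 * (B.f s * B.f w1 * (B.f s)⁻¹) * n0⁻¹ by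
          group, ← B.conj_f, hs2, eα]
  have evimg : ∀ n ∈ normalizer (B.A : Set G), n * B.f as * n⁻¹ = B.f as →
      n * B.f ev * n⁻¹ = B.f ev ∨ n * B.f ev * n⁻¹ = B.f as * B.f ev := by
    intro n hn hna
    rcases B.fix_ev p h (mul_inv_eq_iff_eq_mul.1 hna) (img n hn ev hev hev1).choose_spec.2.2.1 with e | e
    · exact Or.inl ((img n hn ev hev hev1).choose_spec.2.2.1.trans (by rw [e]))
    · exact Or.inr ((img n hn ev hev hev1).choose_spec.2.2.1.trans (by rw [e, map_mul]))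
  obtain ⟨n2, hn2, d0, d1, d2⟩ : ∃ n ∈ normalizer (B.A : Set G), n * B.f as * n⁻¹ = B.f as ∧
      n * B.f w1 * n⁻¹ = B.f w2 ∧ n * B.f w2 * n⁻¹ = B.f (w1 * w2) := by
    obtain ⟨δ, hδ, hδ1, eδ, zδ⟩ := img n1 hn1 w2 hw2A hw21
    have hδas : δ ≠ as := fun e => by
      have : B.f w2 = B.f as := mul_left_cancel (mul_right_cancel (eδ.trans (e ▸ c1.symm)))
      exact hzaw2 |> fun hz => by
        rw [B.inj this, UT.AS_facts.2.1 _ has] at hz
        exact absurd hz (by decide +kernel)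
    have hδz : zp false (as * δ) := (p.cls _ (mul_mem has hδ)).1
      (((p.cls _ (mul_mem has hw2A)).2 hzaw2).trans
        (isConj_iff.2 ⟨n1, by rw [map_mul, map_mul, ← conj_mul, c1, eδ]⟩))
    rcases (fus_as.2.1 δ hδ hδ1 hδas (fun e => hzw2 (zδ.1 e)) hδz).2 with rfl | rfl | rfl
    · refine ⟨n1 * B.f t, mul_mem hn1 (B.mem_normA t), ?_, ?_, ?_⟩
      · rw [show n1 * B.f t * B.f as * (n1 * B.f t)⁻¹ = n1 * (B.f t * B.f as * (B.f t)⁻¹) * n1⁻¹ by
          group, ← B.conj_f, ht1, c1]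
      · rw [show n1 * B.f t * B.f w1 * (n1 * B.f t)⁻¹ = n1 * (B.f t * B.f w1 * (B.f t)⁻¹) * n1⁻¹ by
          group, ← B.conj_f, ht2, c2]
      · rw [show n1 * B.f t * B.f w2 * (n1 * B.f t)⁻¹ = n1 * (B.f t * B.f w2 * (B.f t)⁻¹) * n1⁻¹ by
          group, ← B.conj_f, ht3, map_mul, ← conj_mul, c2, eδ]
        exact (B.comm_A hw2A hw1A).eq
    · exact absurd (mul_left_cancel (mul_right_cancel (eδ.trans c2.symm))) fun e => hw12 (B.inj e).symm
    · exact ⟨n1, hn1, c1, c2, eδ⟩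
  have d3 : n2 * B.f (w1 * w2) * n2⁻¹ = B.f w1 := by
    rw [map_mul, ← conj_mul, d1, d2, map_mul, ← mul_assoc, (B.comm_A hw2A hw1A).eq, mul_assoc,
      ← map_mul B.f w2, UT.AS_facts.2.1 _ hw2A, map_one, mul_one]
  have sq4 : ∀ x : G, n2 ^ 4 * x * (n2 ^ 4)⁻¹ =
      n2 * (n2 * (n2 * (n2 * x * n2⁻¹) * n2⁻¹) * n2⁻¹) * n2⁻¹ := fun x => by
    rw [pow_succ, pow_succ, pow_succ, pow_one]; group
  have dev : n2 * (n2 * B.f ev * n2⁻¹) * n2⁻¹ = B.f ev := by
    rcases evimg n2 hn2 d0 with e | e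
    · rw [e, e]
    · rw [e, ← conj_mul, d0, e, ← mul_assoc, ← map_mul, UT.AS_facts.2.1 _ has, map_one, one_mul]
  refine ⟨n2 ^ 4, pow_mem hn2 4, ⟨mem_centralizer_singleton_iff.2 ?_, mem_centralizer_singleton_iff.2 ?_⟩,
    by rw [sq4, d1, d2, d3, d1], by rw [sq4, d2, d3, d1, d2]⟩
  · exact mul_inv_eq_iff_eq_mul.1 (by rw [sq4, d0, d0, d0, d0])
  · exact mul_inv_eq_iff_eq_mul.1 (by rw [sq4, dev, dev])

/-- In the centralizer of the four-group the centralizer of `w1` is covered by the closure and `A`. -/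
theorem centVw_decomp {g : G} (hg : g ∈ B.centV) (hgw : Commute g (B.f w1)) :
    ∃ r ∈ B.closZ, r ∈ B.centV ∧ ∃ s ∈ AS, g = r * B.f s := by
  obtain ⟨hev, -, -, has, -, -, -, -, -, -, -, haw, -⟩ := two_facts
  have hga : Commute g (B.f as) := mem_centralizer_singleton_iff.1 hg.1
  have hge : Commute g (B.f ev) := mem_centralizer_singleton_iff.1 hg.2
  have hgz : Commute g B.z := by
    rw [show B.z = B.f zs from rfl, ← haw, map_mul]
    exact hga.mul_right hgw
  obtain ⟨hfix, hasQ, -⟩ := UT.as_fix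
  obtain ⟨o, ho, s, n, ⟨hnz, i, j, hn⟩, rfl⟩ := B.exists_spl h hgz
  obtain rfl : j = 0 := by_contra fun e => p.norot ((B.rot_split (⟨n, hnz, hn⟩ : B.Rot i j)).2 e)
  obtain rfl : i = 0 := hfix i s (B.eq_conj_mod ho (by
    rw [B.conj_f, ← hn as hasQ, show o * (B.f s * (n * B.f as * n⁻¹) * (B.f s)⁻¹) * o⁻¹ =
      o * B.f s * n * B.f as * (o * B.f s * n)⁻¹ by group, hga.eq, mul_inv_cancel_right]))
  obtain ⟨o', ho', t, -, rfl⟩ := B.cent_Q h hnz fun q hq => by
    show n * B.f q = B.f q * n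
    have := hn q hq
    rw [UT.rho_zero q hq, mul_inv_eq_iff_eq_mul] at this
    exact this
  set r := o * (B.f s * o' * (B.f s)⁻¹) with hr
  have hrθ : r ∈ theta B.z := mul_mem ho (theta_normal (B.comm_z s) ho')
  have e1 : o * B.f s * (o' * B.f t) = r * B.f (s * t) := by rw [hr, map_mul]; group
  rw [e1] at hga hge ⊢
  have key : ∀ {x : UT}, Commute (r * B.f (s * t)) (B.f x) →
      (s * t) * x = x * (s * t) ∧ Commute r (B.f x) := by
    intro x hx
    have h1 : r * B.f ((s * t) * x * (s * t)⁻¹) * r⁻¹ = B.f x := by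
      rw [B.conj_f, show r * (B.f (s * t) * B.f x * (B.f (s * t))⁻¹) * r⁻¹ =
        r * B.f (s * t) * B.f x * (r * B.f (s * t))⁻¹ by group, hx.eq, mul_inv_cancel_right]
    have h2 := B.eq_conj_mod hrθ h1
    rw [h2] at h1
    exact ⟨mul_inv_eq_iff_eq_mul.1 h2, mul_inv_eq_iff_eq_mul.1 h1⟩
  exact ⟨r, (le_sup_of_le_left le_sup_left : theta B.z ≤ B.closZ) hrθ,
    ⟨mem_centralizer_singleton_iff.2 (key hga).2.eq, mem_centralizer_singleton_iff.2 (key hge).2.eq⟩,
    s * t, fus_as.2.2.2.1 _ (key hga).1 (key hge).1, rfl⟩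

/-- The closure meets the centralizer of the four-group in its core. -/
theorem inf_centV_le : B.closZ ⊓ B.centV ≤ (pPrimeCore 2 B.centV).map B.centV.subtype := by
  haveI : Fact (Nat.Prime 2) := ⟨Nat.prime_two⟩
  obtain ⟨hev, hw1A, hw2A, has, hev1, has1, hne, hw11, hw21, hw12, -, haw, -, -, -, haeA, -, -, -, hzw,
    -, hzw1, hzw1e, hzw1ae, -⟩ := two_facts
  obtain ⟨n, hnA, hnV, hn1, hn2⟩ := B.exists_cycle p h
  set D := B.centV
  have hfD : ∀ {x : UT}, x ∈ AS → B.f x ∈ D := fun hx => B.A_le_centV (mem_map_of_mem _ hx)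
  set a' : D := ⟨B.f as, hfD has⟩
  set e' : D := ⟨B.f ev, hfD hev⟩
  have sq : ∀ {x : UT} (hx : x ∈ AS), (⟨B.f x, hfD hx⟩ : D) * ⟨B.f x, hfD hx⟩ = 1 := fun hx =>
    Subtype.ext (by show B.f _ * B.f _ = 1; rw [← map_mul, UT.AS_facts.2.1 _ hx, map_one])
  set Z1 := zpowers a'
  have hZ1c : Z1 ≤ center D := zpowers_le.2 (mem_center_iff.2 fun x =>
    Subtype.ext (mem_centralizer_singleton_iff.1 x.2.1))
  haveI : Z1.Normal := ⟨fun y hy x => by rwa [mem_center_iff.1 (hZ1c hy) x, mul_inv_cancel_right]⟩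
  have ha2 : orderOf (B.f as) = 2 := B.orderOf_f (UT.AS_facts.2.1 _ has) has1
  have hZ12 : Nat.card Z1 = 2 := by rw [Nat.card_zpowers, ← Subgroup.orderOf_coe, ha2]
  set e'' : D ⧸ Z1 := (e' : D ⧸ Z1)
  set Z2 := zpowers e''
  have hZ2c : Z2 ≤ center (D ⧸ Z1) := zpowers_le.2 (mem_center_iff.2 fun q => by
    obtain ⟨x, rfl⟩ := QuotientGroup.mk_surjective q
    show ((x * e' : D) : D ⧸ Z1) = ((e' * x : D) : D ⧸ Z1)
    rw [show x * e' = e' * x from Subtype.ext (mem_centralizer_singleton_iff.1 x.2.2)])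
  haveI : Z2.Normal := ⟨fun y hy x => by rwa [mem_center_iff.1 (hZ2c hy) x, mul_inv_cancel_right]⟩
  have hee : e'' * e'' = 1 := by
    show ((e' * e' : D) : D ⧸ Z1) = 1
    rw [sq hev]; rfl
  have hZ22 : Nat.card Z2 = 2 := by
    rw [Nat.card_zpowers]
    refine orderOf_eq_prime (by rw [pow_two, hee]) fun e1 => ?_
    rcases zpowers_two (sq has) ((QuotientGroup.eq_one_iff e').1 e1) with e2 | e2
    · exact hev1 (B.inj ((congrArg Subtype.val e2).trans (map_one B.f).symm))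
    · exact hne (B.inj (congrArg Subtype.val e2))
  set f : D →* (D ⧸ Z1) ⧸ Z2 := (QuotientGroup.mk' Z2).comp (QuotientGroup.mk' Z1) with hf
  have hfs : Function.Surjective f :=
    (QuotientGroup.mk'_surjective _).comp (QuotientGroup.mk'_surjective _)
  have fa : f a' = 1 := by
    show ((a' : D ⧸ Z1) : (D ⧸ Z1) ⧸ Z2) = 1
    rw [(QuotientGroup.eq_one_iff a').2 (mem_zpowers a')]; rfl
  have fe : f e' = 1 := (QuotientGroup.eq_one_iff e'').2 (mem_zpowers e'')
  have ker : ∀ x : D, f x = 1 → (x : G) = 1 ∨ (x : G) = B.f as ∨ (x : G) = B.f ev ∨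
      (x : G) = B.f (as * ev) := by
    intro x hx
    have h1 : (x : D ⧸ Z1) ∈ Z2 := (QuotientGroup.eq_one_iff _).1 hx
    rcases zpowers_two hee h1 with e1 | e1
    · rcases zpowers_two (sq has) ((QuotientGroup.eq_one_iff x).1 e1) with e2 | e2
      · exact Or.inl (congrArg Subtype.val e2)
      · exact Or.inr (Or.inl (congrArg Subtype.val e2))
    · rcases zpowers_two (sq has) ((QuotientGroup.eq (s := Z1)).1 e1.symm) with e2 | e2
      · exact Or.inr (Or.inr (Or.inl (congrArg Subtype.val (inv_mul_eq_one.1 e2).symm)))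
      · refine Or.inr (Or.inr (Or.inr ?_))
        rw [map_mul, (B.comm_A has hev).eq]
        exact congrArg Subtype.val (inv_mul_eq_iff_eq_mul.1 e2)
  obtain ⟨S, hS⟩ := exists_sylow_eq B.A_le_centV (IsPGroup.of_card (n := 4) (by rw [B.card_A]; norm_num))
    fun _ h1 h2 => B.centV_max p h h1 h2
  set P := S.mapSurjective hfs
  have hPc : (P : Subgroup ((D ⧸ Z1) ⧸ Z2)) = (B.A.subgroupOf D).map f := by
    rw [← hS]; rfl
  set v' : D := ⟨B.f w1, hfD hw1A⟩
  set w' : D := ⟨B.f w2, hfD hw2A⟩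
  have hvw : v' * w' = ⟨B.f (w1 * w2), hfD (mul_mem hw1A hw2A)⟩ := Subtype.ext (map_mul _ _ _).symm
  have nker : ∀ {x : UT} (hx : x ∈ AS), x ∈ [w1, w2, w1 * w2] → f ⟨B.f x, hfD hx⟩ ≠ 1 := by
    intro x hx hxl hfx
    obtain ⟨n1', n2', n3', n4'⟩ := four_inj x hxl
    rcases ker _ hfx with e | e | e | e
    · exact n1' (B.inj (e.trans (map_one B.f).symm))
    · exact n2' (B.inj e)
    · exact n3' (B.inj e)
    · exact n4' (B.inj e)
  have hv1 : f v' ≠ 1 := nker hw1A (by simp)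
  have hw1' : f w' ≠ 1 := nker hw2A (by simp)
  have hvw1 : f v' * f w' ≠ 1 := by rw [← map_mul, hvw]; exact nker (mul_mem hw1A hw2A) (by simp)
  have hfv : f v' * f v' = 1 := by rw [← map_mul, sq hw1A, map_one]
  have hfw : f w' * f w' = 1 := by rw [← map_mul, sq hw2A, map_one]
  have hvw' : f v' ≠ f w' := fun e => hvw1 (by rw [← e]; exact hfv)
  have hP4 : Nat.card (P : Subgroup ((D ⧸ Z1) ⧸ Z2)) = 4 := by
    classical
    have hset : ((P : Subgroup ((D ⧸ Z1) ⧸ Z2)) : Set ((D ⧸ Z1) ⧸ Z2)) =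
        (({1, f v', f w', f v' * f w'} : Finset ((D ⧸ Z1) ⧸ Z2)) : Set _) := by
      ext q
      rw [hPc, SetLike.mem_coe]
      simp only [Finset.coe_insert, Finset.coe_singleton, Set.mem_insert_iff, Set.mem_singleton_iff]
      constructor
      · rintro ⟨x, ⟨y, hy, hyx⟩, rfl⟩
        obtain ⟨v, hv, hyv⟩ := fus_as.2.2.2.2 y hy
        have hvA : v ∈ AS := by
          simp only [List.mem_cons, List.not_mem_nil, or_false] at hv
          rcases hv with rfl | rfl | rfl | rfl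
          exacts [one_mem _, hw1A, hw2A, mul_mem hw1A hw2A]
        have hfx : f x = f ⟨B.f v, hfD hvA⟩ := by
          rcases hyv with rfl | rfl | rfl | rfl
          · exact congrArg f (Subtype.ext hyx.symm)
          · rw [show x = ⟨B.f v, hfD hvA⟩ * a' from Subtype.ext (hyx.symm.trans (map_mul _ _ _)),
              map_mul, fa, mul_one]
          · rw [show x = ⟨B.f v, hfD hvA⟩ * e' from Subtype.ext (hyx.symm.trans (map_mul _ _ _)),
              map_mul, fe, mul_one]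
          · rw [show x = ⟨B.f v, hfD hvA⟩ * (a' * e') from Subtype.ext (hyx.symm.trans
              (by rw [map_mul, map_mul]; rfl)), map_mul, map_mul, fa, fe, mul_one, mul_one]
        simp only [List.mem_cons, List.not_mem_nil, or_false] at hv
        rcases hv with rfl | rfl | rfl | rfl
        · exact Or.inl (hfx.trans (by
            rw [show (⟨B.f 1, hfD hvA⟩ : D) = 1 from Subtype.ext (map_one _), map_one]))
        · exact Or.inr (Or.inl hfx)
        · exact Or.inr (Or.inr (Or.inl hfx))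
        · exact Or.inr (Or.inr (Or.inr (hfx.trans (by rw [← map_mul, hvw]))))
      · have hm : ∀ {x : UT} (hx : x ∈ AS), f ⟨B.f x, hfD hx⟩ ∈ (B.A.subgroupOf D).map f := fun hx =>
          mem_map_of_mem f (mem_subgroupOf.2 (mem_map_of_mem B.f hx))
        rintro (rfl | rfl | rfl | rfl)
        exacts [one_mem _, hm hw1A, hm hw2A, mul_mem (hm hw1A) (hm hw2A)]
    rw [← SetLike.coe_sort_coe, hset, Nat.card_coe_set_eq, Set.ncard_coe_finset]
    have n5 : f v' ≠ f v' * f w' := fun e => hw1' (left_eq_mul.1 e)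
    have n6 : f w' ≠ f v' * f w' := fun e => hv1 (right_eq_mul.1 e)
    simp [hv1.symm, hw1'.symm, hvw1.symm, hvw', n5, n6]
  set R := (B.closZ.subgroupOf D).map f with hR
  have hnorm : ∀ x : D, (x : G) ∈ normalizer (B.closZ : Set G) →
      f x ∈ normalizer (R : Set ((D ⧸ Z1) ⧸ Z2)) := by
    intro x hx
    refine le_normalizer_map f (mem_map_of_mem f (mem_normalizer_iff.2 fun y => ?_))
    rw [mem_subgroupOf, mem_subgroupOf, Subgroup.coe_mul, Subgroup.coe_mul, Subgroup.coe_inv]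
    exact mem_normalizer_iff.1 hx _
  have hRodd : ¬ 2 ∣ Nat.card R := fun h2 => B.closZ_odd p h ((h2.trans (card_map_dvd _ _)).trans (by
    rw [← card_map_of_injective (K := B.closZ.subgroupOf D) D.subtype_injective]
    exact card_dvd_of_le (by rintro _ ⟨y, hy, rfl⟩; exact hy)))
  have hcore := core_of_four P hP4 (v := f v') (w := f w')
    (hPc ▸ mem_map_of_mem f (mem_subgroupOf.2 (mem_map_of_mem B.f hw1A)))
    (hPc ▸ mem_map_of_mem f (mem_subgroupOf.2 (mem_map_of_mem B.f hw2A))) hv1 hw1' hvw'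
    (h := f ⟨n, hnV⟩) (by rw [← map_inv, ← map_mul, ← map_mul]; exact congrArg f (Subtype.ext hn1))
    (by rw [← map_inv, ← map_mul, ← map_mul, ← map_mul f v', hvw]; exact congrArg f (Subtype.ext hn2))
    R hRodd (by
      rw [hPc]
      rintro _ ⟨x, ⟨y, hy, hyx⟩, rfl⟩
      exact hnorm x (by rw [show (x : G) = B.f y from hyx.symm]; exact B.range_le_closZ p h ⟨y, rfl⟩))
    (hnorm _ (B.normA_le p h hnA)) (fun q hq => by
      obtain ⟨x, rfl⟩ := hfs q
      have hx : f (v'⁻¹ * (x * v' * x⁻¹)) = 1 := by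
        rw [map_mul, map_mul, map_mul, map_inv, map_inv, hq, mul_inv_cancel_right, inv_mul_cancel]
      have hxw : (x : G) * B.f w1 * (x : G)⁻¹ = B.f w1 := by
        have e0 : ∀ c : G, ((v'⁻¹ * (x * v' * x⁻¹) : D) : G) = c →
            (x : G) * B.f w1 * (x : G)⁻¹ = B.f w1 * c := fun c hc => by
          rw [← hc]; simp only [Subgroup.coe_mul, Subgroup.coe_inv, v']; group
        have bad : ∀ {y : UT}, y ∈ AS → zp false (w1 * y) →
            (x : G) * B.f w1 * (x : G)⁻¹ ≠ B.f w1 * B.f y := fun {y} hy hz e => hzw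
          ((p.cls _ hw1A).1 (((p.cls _ (mul_mem hw1A hy)).2 hz).trans
            (isConj_iff.2 ⟨(x : G), by rw [map_mul]; exact e⟩).symm))
        rcases ker _ hx with e | e | e | e
        · exact (e0 _ e).trans (mul_one _)
        · exact absurd (e0 _ e) (bad has hzw1)
        · exact absurd (e0 _ e) (bad hev hzw1e)
        · exact absurd (e0 _ e) (bad haeA hzw1ae)
      obtain ⟨r, hr, hrD, s, hs, hxe⟩ := B.centVw_decomp p h x.2 (mul_inv_eq_iff_eq_mul.1 hxw)
      refine ⟨_, mem_map_of_mem f (show (⟨r, hrD⟩ : D) ∈ B.closZ.subgroupOf D from hr),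
        f ⟨B.f s, hfD hs⟩, hPc ▸ mem_map_of_mem f (mem_subgroupOf.2 (mem_map_of_mem B.f hs)), ?_⟩
      rw [← map_mul]
      exact congrArg f (Subtype.ext hxe))
  rintro x ⟨hxW, hxD⟩
  set x' : D := ⟨x, hxD⟩
  have hodd : ¬ 2 ∣ orderOf x' := by
    rw [← Subgroup.orderOf_coe]
    exact fun h2 => B.closZ_odd p h (h2.trans (Subgroup.orderOf_dvd_natCard _ hxW))
  refine ⟨x', mem_core_of_quot hZ1c hZ12 hodd (mem_core_of_quot hZ2c hZ22
    (fun h2 => hodd (h2.trans (orderOf_map_dvd (QuotientGroup.mk' Z1) x'))) (hcore ⟨x', hxW, rfl⟩)), rfl⟩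

/-- The closure meets the centralizer of `as` in its core. -/
theorem inf_centA_le : B.closZ ⊓ centralizer ({B.f as} : Set G) ≤ theta (B.f as) := by
  haveI : Fact (Nat.Prime 2) := ⟨Nat.prime_two⟩
  obtain ⟨-, -, -, has, -, has1, -⟩ := two_facts
  set a := B.f as with ha
  set X := centralizer ({a} : Set G)
  set D := B.centV
  set K := ((pPrimeCore 2 D).map D.subtype).subgroupOf X
  have haa : a * a = 1 := by rw [ha, ← map_mul, UT.AS_facts.2.1 _ has, map_one]
  have hconj : ∀ n : G, Commute n a → (n * B.f ev * n⁻¹ = B.f ev ∨ n * B.f ev * n⁻¹ = a * B.f ev) →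
      ∀ x ∈ (pPrimeCore 2 D).map D.subtype, n * x * n⁻¹ ∈ (pPrimeCore 2 D).map D.subtype := by
    intro n hna hne
    have hna' : n * a * n⁻¹ = a := mul_inv_eq_iff_eq_mul.2 hna.eq
    have hmap : D.map (MulAut.conj n).toMonoidHom = D := by
      refine eq_of_le_of_card_ge ?_ (by rw [card_map_of_injective (MulEquiv.injective _)])
      rintro _ ⟨x, hx, rfl⟩
      have c1 : Commute (n * x * n⁻¹) a :=
        hna' ▸ (Commute.conj_iff n).2 (mem_centralizer_singleton_iff.1 hx.1)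
      have c2 : Commute (n * x * n⁻¹) (n * B.f ev * n⁻¹) :=
        (Commute.conj_iff n).2 (mem_centralizer_singleton_iff.1 hx.2)
      refine ⟨mem_centralizer_singleton_iff.2 c1.eq, mem_centralizer_singleton_iff.2 ?_⟩
      show Commute (n * x * n⁻¹) (B.f ev)
      rcases hne with e | e <;> rw [e] at c2
      · exact c2
      · rw [show B.f ev = a * (a * B.f ev) by rw [← mul_assoc, haa, one_mul]]
        exact c1.mul_right c2
    rintro _ ⟨x, hx, rfl⟩
    let φ : D ≃* D := ((MulAut.conj n).subgroupMap D).trans (MulEquiv.subgroupCongr hmap)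
    refine ⟨φ x, ?_, rfl⟩
    rw [SetLike.mem_coe, ← Core.map_pPrimeCore φ]
    exact mem_map_of_mem _ hx
  set π := QuotientGroup.mk' (pPrimeCore 2 X)
  have hKn : (K.map π).Normal := ⟨by
    rintro _ ⟨k, hk, rfl⟩ q
    obtain ⟨y, rfl⟩ := QuotientGroup.mk'_surjective _ q
    obtain ⟨o, ho, n, hna, hne, hy⟩ := B.centA_decomp p h (mem_centralizer_singleton_iff.1 y.2)
    obtain ⟨o', ho', rfl⟩ := ho
    set n' : X := ⟨n, mem_centralizer_singleton_iff.2 hna.eq⟩
    have hπ : π y = π n' := by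
      rw [show y = o' * n' from Subtype.ext hy, map_mul,
        show π o' = 1 from (QuotientGroup.eq_one_iff _).2 ho', one_mul]
    refine ⟨n' * k * n'⁻¹, hconj n hna hne _ hk, ?_⟩
    rw [map_mul, map_mul, map_inv, hπ]⟩
  have hKbot : K.map π = ⊥ := by
    refine le_bot_iff.1 ((Core.le_pPrimeCore (p := 2) (hN := hKn) ?_).trans
      Core.pPrimeCore_quotient_eq_bot.le)
    refine ((Nat.prime_two.coprime_iff_not_dvd).2 fun h2 => ?_).symm
    refine Core.not_dvd_card_pPrimeCore (p := 2) (G := D) (h2.trans ((card_map_dvd _ _).trans ?_))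
    rw [← card_map_of_injective (K := K) X.subtype_injective,
      ← card_map_of_injective (K := pPrimeCore 2 D) D.subtype_injective]
    exact card_dvd_of_le (by rintro _ ⟨y, hy, rfl⟩; exact hy)
  rintro x ⟨hxW, hxX⟩
  obtain ⟨o, ho, n, hna, hne, rfl⟩ := B.centA_decomp p h (mem_centralizer_singleton_iff.1 hxX)
  refine mul_mem ho ?_
  have hnW : n ∈ B.closZ := by
    rw [show n = o⁻¹ * (o * n) by group]
    exact mul_mem (inv_mem (B.theta_A_le p h has has1 ho)) hxW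
  have hn2 : n ^ 2 * B.f ev * (n ^ 2)⁻¹ = B.f ev := by
    rw [pow_two, show n * n * B.f ev * (n * n)⁻¹ = n * (n * B.f ev * n⁻¹) * n⁻¹ by group]
    rcases hne with e | e
    · rw [e, e]
    · rw [e, ← conj_mul, e, mul_inv_eq_iff_eq_mul.2 hna.eq, ← mul_assoc, haa, one_mul]
  have hnD : n ∈ D := mem_of_sq_mem
    (fun h2 => B.closZ_odd p h (h2.trans (Subgroup.orderOf_dvd_natCard _ hnW)))
    ⟨mem_centralizer_singleton_iff.2 (hna.pow_left 2).eq,
      mem_centralizer_singleton_iff.2 (mul_inv_eq_iff_eq_mul.1 hn2)⟩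
  set n' : X := ⟨n, mem_centralizer_singleton_iff.2 hna.eq⟩
  have : π n' ∈ K.map π := mem_map_of_mem π (B.inf_centV_le p h ⟨hnW, hnD⟩)
  rw [hKbot, mem_bot] at this
  exact ⟨n', (QuotientGroup.eq_one_iff _).1 this, rfl⟩

/-- The centralizer of `as` normalizes the closure. -/
theorem centA_le {g : G} (hg : Commute g (B.f as)) : g ∈ normalizer (B.closZ : Set G) := by
  obtain ⟨hev, -, -, has, hev1, has1, -, -, -, -, -, -, hae1, -, -, haeA, hza, hze, hzae, -⟩ := two_facts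
  have hu : ∀ u ∈ AS, u ≠ 1 → ¬ zp false u → B.closZ ⊓ centralizer ({B.f u} : Set G) ≤ theta (B.f u) := by
    intro u hu hu1 hz x hx
    obtain ⟨n, hn, e⟩ := B.conj_in_A (mem_map_of_mem B.f hu) (mem_map_of_mem B.f has) (p.rest u hu hu1 hz)
    have hx' : n * x * n⁻¹ ∈ theta (B.f as) := B.inf_centA_le p h
      ⟨(mem_normalizer_iff.1 (B.normA_le p h hn) x).1 hx.1, mem_centralizer_singleton_iff.2 (by
        rw [← e]; exact ((Commute.conj_iff n).2 (mem_centralizer_singleton_iff.1 hx.2)).eq)⟩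
    have : theta (B.f as) = (theta (B.f u)).map (MulAut.conj n).toMonoidHom := by
      haveI : Fact (Nat.Prime 2) := ⟨Nat.prime_two⟩
      rw [← e]; exact Signalizer.core_conj (p := 2) _ _
    rw [this] at hx'
    obtain ⟨y, hy, hyx⟩ := hx'
    rwa [← mul_left_cancel (mul_right_cancel hyx)]
  have hN := B.range_le_closZ p h
  have heq : B.closZ = four (B.f as) (B.f ev) := by
    refine le_antisymm ?_ (sup_le (sup_le (B.theta_A_le p h has has1) (B.theta_A_le p h hev hev1)) ?_)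
    · exact odd_le_of_fixed (B.closZ_odd p h) (B.A_sq _ (mem_map_of_mem _ has))
        (B.A_sq _ (mem_map_of_mem _ hev)) (B.comm_A has hev) (hN ⟨as, rfl⟩) (hN ⟨ev, rfl⟩)
        ((hu as has has1 hza).trans (le_sup_of_le_left le_sup_left))
        ((hu ev hev hev1 hze).trans (le_sup_of_le_left le_sup_right))
        (by rw [← map_mul]; exact (hu _ haeA hae1 hzae).trans (le_sup_of_le_right (map_mul B.f as ev ▸ le_rfl)))
    · rw [← map_mul]; exact B.theta_A_le p h haeA hae1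
  obtain ⟨o, ho, n, hna, hne, rfl⟩ := B.centA_decomp p h hg
  refine mul_mem (le_normalizer (B.theta_A_le p h has has1 ho)) (mem_normalizer_iff_map_conj_eq.2 ?_)
  rw [heq]
  refine (four_conj n (B.f as) (B.f ev)).symm.trans ?_
  rw [mul_inv_eq_iff_eq_mul.2 hna.eq]
  rcases hne with e | e
  · rw [e]
  · rw [e]
    show theta _ ⊔ theta (B.f as * B.f ev) ⊔ theta (B.f as * (B.f as * B.f ev)) = _
    rw [← mul_assoc, B.A_sq _ (mem_map_of_mem _ has), one_mul]
    exact sup_right_comm _ _ _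

/-- Every involution of the normalizer is moved to one of the two representatives in it. -/
theorem into_reps {y : G} (hy : y ∈ normalizer (B.closZ : Set G)) (hy2 : orderOf y = 2) :
    ∃ m ∈ normalizer (B.closZ : Set G), m * y * m⁻¹ = B.z ∨ m * y * m⁻¹ = B.f as := by
  obtain ⟨m, hm, hms⟩ := B.conj_into (B.range_le_closZ p h) (IsPGroup.of_card (n := 1)
    (by rw [Nat.card_zpowers, hy2, pow_one])) (zpowers_le.2 hy)
  obtain ⟨r, hr⟩ := hms y (mem_zpowers y)
  obtain ⟨r1, r2⟩ := Invol.orderOf_eq_two_iff.1 (show orderOf r = 2 by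
    rw [← orderOf_injective B.f B.inj, ← hr, Invol.orderOf_conj, hy2])
  obtain ⟨hA, hA1, hQ, -⟩ := red_facts r r2 r1
  obtain ⟨k, hk, hkr⟩ : ∃ k ∈ normalizer (B.closZ : Set G), k * B.f r * k⁻¹ = B.f (red r) := by
    have key : ∀ {i : Fin 3}, B.Rot i 0 → r ∈ QS →
        ∃ k ∈ normalizer (B.closZ : Set G), k * B.f r * k⁻¹ = B.f (rho i 0 r) := fun ⟨k, hkz, hk⟩ hrQ =>
      ⟨k, B.centZ_le p h hkz, hk r hrQ⟩
    unfold UT.red
    split_ifs with h1 h2
    · exact ⟨1, one_mem _, by group⟩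
    · exact key p.rot (hQ h1)
    · exact key (i := 2) (by simpa using B.rot_mul p.rot p.rot) (hQ h1)
  obtain ⟨n, hn, hne⟩ : ∃ n ∈ normalizer (B.A : Set G),
      n * B.f (red r) * n⁻¹ = B.z ∨ n * B.f (red r) * n⁻¹ = B.f as := by
    by_cases hz : zp false (red r)
    · obtain ⟨n, hn, e⟩ := B.conj_in_A (mem_map_of_mem B.f hA)
        (show B.z ∈ B.A from mem_map_of_mem _ UT.AS_facts.2.2.2.2) ((p.cls _ hA).2 hz).symm
      exact ⟨n, hn, Or.inl e⟩
    · obtain ⟨n, hn, e⟩ := B.conj_in_A (mem_map_of_mem B.f hA) (mem_map_of_mem B.f two_facts.2.2.2.1)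
        (p.rest _ hA hA1 hz)
      exact ⟨n, hn, Or.inr e⟩
  refine ⟨n * k * m, mul_mem (mul_mem (B.normA_le p h hn) hk) hm, ?_⟩
  rw [show n * k * m * y * (n * k * m)⁻¹ = n * (k * (m * y * m⁻¹) * k⁻¹) * n⁻¹ by group, hr, hkr]
  exact hne

/-- In the pattern of the alternating groups the core of the centralizer of `z` is trivial. -/
theorem theta_eq_bot_II : theta B.z = ⊥ := by
  haveI : Fact (Nat.Prime 2) := ⟨Nat.prime_two⟩
  obtain ⟨-, -, -, has, -, has1, -, -, -, -, -, -, -, -, -, -, hza, -⟩ := two_facts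
  set M := normalizer (B.closZ : Set G)
  have hza' : ¬ IsConj B.z (B.f as) := fun hc => hza ((p.cls _ has).1 hc)
  have hle : theta B.z ≤ B.closZ := le_sup_of_le_left le_sup_left
  by_cases htop : M = ⊤
  · have hN : B.closZ.Normal := normalizer_eq_top_iff.1 htop
    have h1 : B.closZ ≤ oddCore G := Core.le_pPrimeCore (hN := hN)
      (Nat.prime_two.coprime_iff_not_dvd.2 (B.closZ_odd p h)).symm
    rw [h.oddcore] at h1
    exact le_bot_iff.1 (hle.trans h1)
  exfalso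
  refine hza' (Invol.se_isConj_all ((Invol.se_iff M).2 ⟨htop, ?_, fun t g ht htM htg => ?_⟩)
    B.orderOf_z (B.orderOf_f (UT.AS_facts.2.1 _ has) has1))
  · rw [even_iff_two_dvd]
    exact dvd_trans (by rw [B.card_range]; norm_num) (card_dvd_of_le (B.range_le_closZ p h))
  obtain ⟨m1, hm1, h1⟩ := B.into_reps p h htM ht
  obtain ⟨m2, hm2, h2⟩ := B.into_reps p h htg (by
    rw [show g⁻¹ * t * g = g⁻¹ * t * g⁻¹⁻¹ by group, Invol.orderOf_conj, ht])
  have e : (m1 * g * m2⁻¹) * (m2 * (g⁻¹ * t * g) * m2⁻¹) * (m1 * g * m2⁻¹)⁻¹ = m1 * t * m1⁻¹ := by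
    group
  have hmem : m1 * g * m2⁻¹ ∈ M := by
    rcases h1 with h1 | h1 <;> rcases h2 with h2 | h2 <;> rw [h1, h2] at e
    · exact B.centZ_le p h (mul_inv_eq_iff_eq_mul.1 e)
    · exact absurd (isConj_iff.2 ⟨_, e⟩).symm hza'
    · exact absurd (isConj_iff.2 ⟨_, e⟩) hza'
    · exact B.centA_le p h (mul_inv_eq_iff_eq_mul.1 e)
  have := mul_mem (mul_mem (inv_mem hm1) hmem) hm2
  rwa [show m1⁻¹ * (m1 * g * m2⁻¹) * m2 = g by group] at this

end Base

end Cfsg.Agent.A8Type
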