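import Cfsg.Agent.A8Type.Facts
import Cfsg.Agent.Invol.Pair
import Cfsg.Agent.TwoTransfer.Basic
import Cfsg.Agent.Core.PCore
import Cfsg.Prelude.Def_Local
import Cfsg.Prelude.Def_Solvable
import Cfsg.Prelude.Def_Transfer

/-!
Groups whose Sylow 2-subgroups are those of the alternating group of degree eight and in which the
centralizer of a central involution is solvable: the basic notions.
-/

set_option autoImplicit false

namespace Cfsg.Agent.A8Type

open Subgroup

/-- A Sylow 2-subgroup of a group, as an image of the model. -/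
structure Base (G : Type*) [Group G] where
  /-- the embedding -/
  f : UT →* G
  inj : Function.Injective f
  sylow : ∃ P : Sylow 2 G, (P : Subgroup G) = f.range

/-- The odd core of the centralizer of an element. -/
abbrev theta {G : Type*} [Group G] (u : G) : Subgroup G :=
  centralizerPPrimeCore 2 u

theorem theta_le {G : Type*} [Group G] (u : G) : theta u ≤ centralizer ({u} : Set G) :=
  map_subtype_le _

theorem theta_odd {G : Type*} [Group G] [Finite G] (u : G) : ¬ 2 ∣ Nat.card (theta u) := by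
  haveI : Fact (Nat.Prime 2) := ⟨Nat.prime_two⟩
  rw [theta, centralizerPPrimeCore, card_map_of_injective (subtype_injective _)]
  exact Core.not_dvd_card_pPrimeCore

theorem theta_normal {G : Type*} [Group G] {u g o : G} (hg : Commute g u) (ho : o ∈ theta u) :
    g * o * g⁻¹ ∈ theta u := by
  obtain ⟨o', ho', rfl⟩ := ho
  exact ⟨(⟨g, mem_centralizer_singleton_iff.2 hg.eq⟩ : centralizer ({u} : Set G)) * o' *
    (⟨g, mem_centralizer_singleton_iff.2 hg.eq⟩ : centralizer ({u} : Set G))⁻¹,
    (Core.pPrimeCore_normal).conj_mem o' ho' _, rfl⟩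

/-- The permutations of eight points representing the three transvections. -/
def permTab : Fin 3 → List (Fin 8) :=
  ![[0, 1, 2, 3, 5, 4, 7, 6], [0, 1, 4, 5, 2, 3, 6, 7], [2, 3, 0, 1, 6, 7, 4, 5]]

/-- A representing permutation. -/
def pgen (i : Fin 3) : Equiv.Perm (Fin 8) :=
  let f : Fin 8 → Fin 8 := fun j => (permTab i).getD (j : ℕ) 0
  ⟨f, f, (by revert i; decide +kernel), (by revert i; decide +kernel)⟩

/-- The permutation of an element. -/
def pmap (y : UT) : Equiv.Perm (Fin 8) :=
  let p := pgen 0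
  let q := pgen 1
  let r := pgen 2
  let e24 := q * r * q * r
  r ^ y.f.val * q ^ y.d.val * e24 ^ y.e.val * (p * q * p * q) ^ y.b.val * p ^ y.a.val *
    (p * e24 * p * e24) ^ y.c.val

theorem pmap_gen : pmap 1 = 1 ∧ ∀ g ∈ [UT.x12, UT.x23, UT.x34], Equiv.Perm.sign (pmap g) = 1 ∧
    ∀ x : UT, pmap (x * g) = pmap x * pmap g := by
  decide +kernel

theorem pmap_inj : ∀ x : UT, pmap x = 1 → x = 1 := by
  decide +kernel

/-- The model inside the alternating group. -/
theorem exists_model_alt : ∃ f : UT →* alternatingGroup (Fin 8), Function.Injective f := by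
  let H : Submonoid UT :=
    { carrier := {y | Equiv.Perm.sign (pmap y) = 1 ∧ ∀ x, pmap (x * y) = pmap x * pmap y}
      one_mem' := ⟨by rw [pmap_gen.1, map_one], fun x => by rw [mul_one, pmap_gen.1, mul_one]⟩
      mul_mem' := fun {y y'} hy hy' => ⟨by rw [hy'.2 y, map_mul, hy.1, hy'.1, one_mul],
        fun x => by rw [← mul_assoc, hy'.2 (x * y), hy.2 x, mul_assoc, ← hy'.2 y]⟩ }
  have ha : UT.x12 ∈ H := pmap_gen.2 _ (by simp)
  have hb : UT.x23 ∈ H := pmap_gen.2 _ (by simp)
  have hc : UT.x34 ∈ H := pmap_gen.2 _ (by simp)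
  have key : ∀ y : UT, y ∈ H := fun y => by
    rw [← UT.word_eq y]
    have he := mul_mem (mul_mem (mul_mem hb hc) hb) hc
    exact mul_mem (mul_mem (mul_mem (mul_mem (mul_mem (pow_mem hc _) (pow_mem hb _)) (pow_mem he _))
      (pow_mem (mul_mem (mul_mem (mul_mem ha hb) ha) hb) _)) (pow_mem ha _))
      (pow_mem (mul_mem (mul_mem (mul_mem ha he) ha) he) _)
  refine ⟨MonoidHom.mk' (fun y => ⟨pmap y, Equiv.Perm.mem_alternatingGroup.2 (key y).1⟩)
    (fun x y => Subtype.ext ((key y).2 x)), ?_⟩
  exact (injective_iff_map_eq_one _).2 fun x hx => pmap_inj x (congrArg Subtype.val hx)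

/-- A Sylow 2-subgroup isomorphic to one of the alternating group of degree eight is the model. -/
theorem exists_base {G : Type*} [Group G] [Finite G] (S : Sylow 2 G)
    (hS : ∀ P : Sylow 2 ↥(alternatingGroup (Fin 8)),
      Nonempty (↥(S : Subgroup G) ≃* ↥(P : Subgroup ↥(alternatingGroup (Fin 8))))) :
    ∃ B : Base G, B.f.range = (S : Subgroup G) := by
  haveI : Fact (Nat.Prime 2) := ⟨Nat.prime_two⟩
  obtain ⟨f, hf⟩ := exists_model_alt
  have h64 : Nat.card f.range = 2 ^ 6 := by
    rw [← Nat.card_congr (MonoidHom.ofInjective hf).toEquiv, Nat.card_eq_fintype_card, UT.fintype_card_ut]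
    norm_num
  let P : Sylow 2 ↥(alternatingGroup (Fin 8)) := (IsPGroup.of_card h64).toSylow (by
    intro h2
    have h := f.range.card_mul_index
    rw [h64, nat_card_alternatingGroup, Nat.card_eq_fintype_card, Fintype.card_fin] at h
    norm_num [Nat.factorial] at h
    omega)
  obtain ⟨e⟩ := hS P
  let φ : UT ≃* ↥(S : Subgroup G) :=
    ((MonoidHom.ofInjective hf).trans
      (MulEquiv.subgroupCongr (show f.range = (P : Subgroup _) from rfl))).trans e.symm
  have hr : ((S : Subgroup G).subtype.comp φ.toMonoidHom).range = (S : Subgroup G) := by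
    rw [MonoidHom.range_comp, MonoidHom.range_eq_top.2 φ.surjective, ← MonoidHom.range_eq_map,
      range_subtype]
  exact ⟨⟨(S : Subgroup G).subtype.comp φ.toMonoidHom,
    (S : Subgroup G).subtype_injective.comp φ.injective, S, hr.symm⟩, hr⟩

namespace Base

variable {G : Type*} [Group G] (B : Base G)

/-- The central involution. -/
def z : G := B.f zs

/-- The extraspecial subgroup in the group. -/
def Q : Subgroup G := QS.map B.f

/-- The elementary abelian subgroup of order sixteen in the group. -/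
def A : Subgroup G := AS.map B.f

/-- The hypotheses on the group. -/
structure Simp : Prop where
  no_index_two : ∀ N : Subgroup G, N.index ≠ 2
  pcore : pCore 2 G = ⊥
  oddcore : oddCore G = ⊥
  solvable : Group.IsSolvable ↥(centralizer ({B.z} : Set G))

theorem conj_f (g r : UT) : B.f (g * r * g⁻¹) = B.f g * B.f r * (B.f g)⁻¹ := by
  rw [map_mul, map_mul, map_inv]

theorem orderOf_f {r : UT} (h : r * r = 1) (h1 : r ≠ 1) : orderOf (B.f r) = 2 := by
  rw [orderOf_injective B.f B.inj]
  exact Invol.orderOf_eq_two_iff.2 ⟨h1, h⟩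

theorem orderOf_z : orderOf B.z = 2 := B.orderOf_f UT.zs_facts.2.1 UT.zs_facts.1

theorem comm_z (s : UT) : Commute (B.f s) B.z := by
  show B.f s * B.f zs = B.f zs * B.f s
  rw [← map_mul, ← map_mul, UT.zs_facts.2.2.1]

theorem range_le : B.f.range ≤ centralizer ({B.z} : Set G) := by
  rintro _ ⟨s, rfl⟩
  exact mem_centralizer_singleton_iff.2 (B.comm_z s).eq

theorem card_range : Nat.card B.f.range = 64 := by
  rw [← Nat.card_congr (MonoidHom.ofInjective B.inj).toEquiv, Nat.card_eq_fintype_card, UT.fintype_card_ut]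

theorem isConj_f {r s : UT} {g : UT} (h : g * r * g⁻¹ = s) : IsConj (B.f r) (B.f s) :=
  isConj_iff.2 ⟨B.f g, by rw [← B.conj_f, h]⟩

/-- The centralizer of an element of the model, in the group. -/
def centS (r : UT) : Subgroup G := (centralizer ({r} : Set UT)).map B.f

theorem card_centS (r : UT) : Nat.card (B.centS r) = UT.cc r := by
  classical
  rw [centS, card_map_of_injective B.inj, UT.cc, ← Fintype.card_subtype, ← Nat.card_eq_fintype_card]
  exact Nat.card_congr (Equiv.subtypeEquivRight fun g => mem_centralizer_singleton_iff)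

theorem centS_le (r : UT) : B.centS r ≤ centralizer ({B.f r} : Set G) := by
  rintro _ ⟨s, hs, rfl⟩
  rw [mem_centralizer_singleton_iff, ← map_mul, ← map_mul, mem_centralizer_singleton_iff.1 hs]

theorem mem_Q {r : UT} : B.f r ∈ B.Q ↔ r ∈ QS := mem_map_iff_mem B.inj

theorem mem_A {r : UT} : B.f r ∈ B.A ↔ r ∈ AS := mem_map_iff_mem B.inj

theorem A_comm : ∀ a ∈ B.A, ∀ b ∈ B.A, a * b = b * a := by
  rintro _ ⟨a, ha, rfl⟩ _ ⟨b, hb, rfl⟩
  rw [← map_mul, ← map_mul, UT.AS_facts.1 a ha b hb]

theorem A_sq : ∀ a ∈ B.A, a * a = 1 := by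
  rintro _ ⟨a, ha, rfl⟩
  rw [← map_mul, UT.AS_facts.2.1 a ha, map_one]

theorem card_A : Nat.card B.A = 16 := by
  rw [A, card_map_of_injective B.inj, Nat.card_eq_fintype_card, UT.card_QS.2]

theorem card_Q : Nat.card B.Q = 32 := by
  rw [Q, card_map_of_injective B.inj, Nat.card_eq_fintype_card, UT.card_QS.1]

/-- The base composed with an automorphism of the model. -/
noncomputable def twist (i : Fin 12) : Base G where
  f := B.f.comp (UT.auto i).toMonoidHom
  inj := B.inj.comp (UT.auto i).injective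
  sylow := by
    obtain ⟨P, hP⟩ := B.sylow
    refine ⟨P, hP.trans ?_⟩
    ext x
    exact ⟨fun ⟨s, hs⟩ => ⟨(UT.auto i).symm s, by simpa using hs⟩,
      fun ⟨s, hs⟩ => ⟨UT.auto i s, hs⟩⟩

theorem auto_zs (i : Fin 12) : UT.auto i zs = zs := by
  rw [UT.auto_apply]
  revert i
  decide +kernel

theorem twist_z (i : Fin 12) : (B.twist i).z = B.z := congrArg B.f (auto_zs i)

theorem twist_simp (i : Fin 12) (h : B.Simp) : (B.twist i).Simp :=
  ⟨h.no_index_two, h.pcore, h.oddcore, by rw [twist_z]; exact h.solvable⟩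

theorem twist_range (i : Fin 12) : (B.twist i).f.range = B.f.range := by
  ext x
  exact ⟨fun ⟨s, hs⟩ => ⟨UT.auto i s, hs⟩,
    fun ⟨s, hs⟩ => ⟨(UT.auto i).symm s, by simpa [twist] using hs⟩⟩

end Base

end Cfsg.Agent.A8Type
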