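import Cfsg.Agent.A8Type.Patterns
import Cfsg.Agent.A8Type.Automizer
import Cfsg.Agent.A8Type.Balance
import Cfsg.Agent.A8Type.CPlus
import Cfsg.Agent.A8Type.End.Alt
import Cfsg.Agent.A8Type.End.PSp

/-!
The fusion patterns of a group of the type of the alternating group of degree eight, and their
recognition, apart from the triviality of the core in the pattern of the alternating groups.
-/

set_option autoImplicit false
set_option maxRecDepth 8000

namespace Cfsg.Agent.A8Type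

open Subgroup

namespace UT

theorem kap_not_inner : ∀ s : UT, ∃ a : UT, a ∈ AS ∧ Base.kapTab a ≠ s * a * s⁻¹ := by decide +kernel

theorem auto_AS : ∀ i : Fin 12, ∀ x : UT, autoFun i x ∈ AS ↔ x ∈ AS := by decide +kernel

theorem pattern_facts : x13 ∈ AS ∧ zp false x13 ∧ x13.idx ∈ ([8, 16, 24] : List ℕ) ∧ ¬ zp true x13 ∧
    x24 ∈ AS ∧ x24.idx ∉ ([8, 16, 24] : List ℕ) ∧ as ∈ AS ∧ ¬ zp false as := by
  decide +kernel

end UT

namespace Base

variable {G : Type*} [Group G] (B : Base G)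

theorem stabS_of_twist {i : Fin 12} (h : (B.twist i).StabS) : B.StabS := by
  intro g hg hN
  have hmem : ∀ a : UT, UT.auto i a ∈ AS ↔ a ∈ AS := fun a => by
    rw [UT.auto_apply]; exact UT.auto_AS i a
  have hA : (B.twist i).A = B.A := by
    ext x
    constructor
    · rintro ⟨a, ha, rfl⟩
      exact ⟨_, (hmem a).2 ha, rfl⟩
    · rintro ⟨a, ha, rfl⟩
      exact ⟨(UT.auto i).symm a, (hmem _).1 (by rwa [MulEquiv.apply_symm_apply]),
        congrArg B.f (MulEquiv.apply_symm_apply _ a)⟩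
  obtain ⟨s, hs⟩ := h g (by rwa [twist_z]) (by rwa [hA])
  refine ⟨UT.auto i s, fun a ha => ?_⟩
  have h1 := hs ((UT.auto i).symm a) ((hmem _).1 (by rwa [MulEquiv.apply_symm_apply]))
  change g * B.f (UT.auto i _) * g⁻¹ = B.f (UT.auto i _) at h1
  rw [map_mul (UT.auto i), map_mul (UT.auto i), map_inv (UT.auto i), MulEquiv.apply_symm_apply] at h1
  exact h1

variable [Finite G]

theorem rot01_iff (h : B.Simp) : B.Rot 0 1 ↔ ¬ B.StabS := by
  refine ⟨fun hr hS => ?_, fun hS => by_contra fun hr => hS (B.stabS h hr)⟩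
  obtain ⟨k, hkz, hkA, hk⟩ := B.kap_exists h hr
  obtain ⟨s, hs⟩ := hS k hkz hkA
  obtain ⟨a, ha, hne⟩ := UT.kap_not_inner s
  exact hne (B.inj ((hk a ha).symm.trans (hs a ha)))

/-- The three patterns. -/
theorem patterns (h : B.Simp) :
    (∃ B' : Base G, B'.Simp ∧ B'.PatI ∧ ¬ B'.Rot 0 1) ∨ (∃ B' : Base G, B'.Simp ∧ B'.PatII) ∨
      ∃ B' : Base G, B'.Simp ∧ B'.PatU := by
  have hconj : ∀ {B' : Base G} {x y : UT}, (∃ n ∈ normalizer (B'.A : Set G), n * B'.f x * n⁻¹ = B'.f y) →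
      IsConj (B'.f y) (B'.f x) := fun {B' x y} ⟨n, _, hn⟩ => (isConj_iff.2 ⟨n, hn⟩).symm
  by_cases hr : B.Rot 0 1
  · obtain ⟨i, hc, hrest⟩ := B.automizer_stabK (B.move h) (B.stabK h hr)
    have h' := B.twist_simp i h
    refine Or.inr (Or.inr ⟨B.twist i, h', hc, fun a ha h1 hz => hconj (hrest a ha h1 hz), ?_⟩)
    rw [rot01_iff _ h']
    exact fun hS => (B.rot01_iff h).1 hr (B.stabS_of_twist hS)
  · have hS := B.stabS h hr
    obtain ⟨i, ⟨hc, hne, hrest⟩ | ⟨hc, hrest, -, -⟩⟩ := B.automizer_stabS (B.move h) hS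
    all_goals
      have h' := B.twist_simp i h
      have hno : ¬ (B.twist i).Rot 0 1 := fun hr' =>
        ((B.twist i).rot01_iff h').1 hr' (Aut16.twist_stabS B i hS)
      have h10 : (B.twist i).Rot 1 0 := ((B.twist i).rot_cases h').resolve_right hno
    · refine Or.inl ⟨B.twist i, h', ⟨hc, hne, fun a ha h1 hz => ?_, h10⟩, hno⟩
      obtain ⟨n, hn, e | e⟩ := hrest a ha h1 hz
      · exact Or.inl (hconj ⟨n, hn, e⟩)
      · exact Or.inr (hconj ⟨n, hn, e⟩)
    · exact Or.inr (Or.inl ⟨B.twist i, h', hc, fun a ha h1 hz => hconj (hrest a ha h1 hz), h10, hno⟩)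

theorem solvable_all (hall : ∀ u : UT, u * u = 1 → u ≠ 1 → Group.IsSolvable (centralizer ({B.f u} : Set G)))
    {x : G} (hx : orderOf x = 2) : Group.IsSolvable (centralizer ({x} : Set G)) := by
  haveI : Fact (Nat.Prime 2) := ⟨Nat.prime_two⟩
  obtain ⟨c, -, hcs⟩ := B.conj_into (H := ⊤) le_top (IsPGroup.of_card (n := 1) (by
    rw [Nat.card_zpowers, hx, pow_one]) : IsPGroup 2 (zpowers x)) le_top
  obtain ⟨u, hu⟩ := hcs x (mem_zpowers x)
  have h2 : orderOf u = 2 := by rw [← orderOf_injective B.f B.inj, ← hu, Invol.orderOf_conj, hx]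
  obtain ⟨h1, h2'⟩ := Invol.orderOf_eq_two_iff.1 h2
  exact isSolvable_conj (isConj_iff.2 ⟨c, hu⟩ : IsConj x (B.f u)).symm (hall u h2' h1)

theorem recog_I (h : B.Simp) (p : B.PatI) (hno : ¬ B.Rot 0 1) :
    Nonempty (G ≃* ↥(alternatingGroup (Fin 8))) ∨ Nonempty (G ≃* ↥(alternatingGroup (Fin 9))) := by
  obtain ⟨f1, -, f3, -, f5, f6, -, -⟩ := UT.pattern_facts
  refine B.recog_alt h ?_ p.rot hno ((p.cls _ f1).2 f3)
  exact B.theta_eq_bot (fun x hx => B.solvable_all (fun u hu hu1 => B.solvable_I h p hu hu1) hx) h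
    ⟨B.f UT.x24, B.orderOf_f (UT.AS_facts.2.1 _ f5) UT.reps_I.2.2.2.2.2.2.1,
      fun hc => f6 ((p.cls _ f5).1 hc)⟩ UT.zs_facts.2.1 UT.zs_facts.1

theorem recog_U (h : B.Simp) (p : B.PatU) :
    ∃ (F : Type) (_ : Field F) (_ : Fintype F), Fintype.card F = 3 ∧ Nonempty (G ≃* Cfsg.PSp 2 F) := by
  obtain ⟨f1, -, -, f4, -, -, -, -⟩ := UT.pattern_facts
  have hθ : ∀ u : UT, u * u = 1 → u ≠ 1 → theta (B.f u) = ⊥ := fun u hu hu1 =>
    B.theta_eq_bot (fun x hx => B.solvable_all (fun u hu hu1 => B.solvable_U h p hu hu1) hx) h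
      ⟨B.f UT.x13, B.orderOf_f (UT.AS_facts.2.1 _ f1) UT.reps_I.2.2.2.2.2.2.2.2.1,
        fun hc => f4 ((p.cls _ f1).1 hc)⟩ hu hu1
  by_cases hr : B.Rot 1 0
  · exact B.recog_psp h (hθ zs UT.zs_facts.2.1 UT.zs_facts.1) hr p.rot
  · exact (B.false_of_CPlus h p hr hθ).elim

theorem recog_II (h : B.Simp) (p : B.PatII) (ht : theta B.z = ⊥) :
    Nonempty (G ≃* ↥(alternatingGroup (Fin 8))) ∨ Nonempty (G ≃* ↥(alternatingGroup (Fin 9))) := by
  obtain ⟨f1, f2, -, -, -, -, -, -⟩ := UT.pattern_facts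
  exact B.recog_alt h ht p.rot p.norot ((p.cls _ f1).2 f2)

end Base

end Cfsg.Agent.A8Type
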