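import Cfsg.Agent.A8Type.Model

/-!
Facts on the model checked by computation: classes of involutions, the subgroup of order sixteen,
and automorphisms.
-/

set_option autoImplicit false
set_option maxRecDepth 8000

namespace Cfsg.Agent.A8Type

namespace UT

/-- The transvection `E12`. -/
def x12 : UT := el 32

/-- The transvection `E23`. -/
def x23 : UT := el 4

/-- The transvection `E34`. -/
def x34 : UT := el 1

/-- The transvection `E13`. -/
def x13 : UT := el 16

/-- The transvection `E24`. -/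
def x24 : UT := el 2

/-- Being one of the elements with the given numbers. -/
abbrev In (l : List ℕ) (x : UT) : Prop := x.idx ∈ l

/-- The class of `E12`. -/
def c0 : List ℕ := [32, 40, 48, 56]

/-- The class of `E23`. -/
def c1 : List ℕ := [4, 6, 20, 30]

/-- The class of `E34`. -/
def c2 : List ℕ := [1, 3, 9, 11]

/-- The class of `E12 E34`. -/
def c3 : List ℕ := [33, 41, 51, 59]

/-- The class of `E13`. -/
def c4 : List ℕ := [16, 24]

/-- The class of `E24`. -/
def c5 : List ℕ := [2, 10]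

/-- The class of `E13 E24`. -/
def c6 : List ℕ := [18, 26]

/-- The class of `E23 E14`. -/
def c7 : List ℕ := [12, 14, 22, 28]

/-- The central involution alone. -/
def c8 : List ℕ := [8]

/-- The classes of involutions. -/
def classes : List (List ℕ) := [c0, c1, c2, c3, c4, c5, c6, c7, c8]

/-- Representatives of the classes, in the same order. -/
def reps : List UT := [x12, x23, x34, x12 * x34, x13, x24, as, x23 * zs, zs]

/-- The order of the centralizer. -/
def cc (r : UT) : ℕ := (Finset.univ.filter fun g => g * r = r * g).card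

theorem fintype_card_ut : Fintype.card UT = 64 := by decide +kernel

theorem card_QS : Fintype.card QS = 32 ∧ Fintype.card AS = 16 := by decide +kernel

theorem zs_facts : zs ≠ 1 ∧ zs * zs = 1 ∧ (∀ g : UT, g * zs = zs * g) ∧
    (∀ g : UT, (g * g = 1 ∧ g ≠ 1 ∧ cc g = 64) → g = zs) := by
  refine ⟨by decide +kernel, by decide +kernel, by decide +kernel, by decide +kernel⟩

theorem invol_cases : ∀ x : UT, x * x = 1 → x ≠ 1 → ∃ l ∈ classes, In l x := by
  decide +kernel

theorem class_conj : ∀ i : Fin 9, ∀ x : UT, In (classes.getD i []) x →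
    x * x = 1 ∧ x ≠ 1 ∧ ∃ g : UT, g * reps.getD i 1 * g⁻¹ = x := by
  decide +kernel

theorem conj_class : ∀ l ∈ classes, ∀ x : UT, In l x → ∀ g : UT, In l (g * x * g⁻¹) := by
  decide +kernel

theorem cc_classes : (∀ l ∈ [c0, c1, c2, c3, c7], ∀ x : UT, In l x → cc x = 16) ∧
    (∀ l ∈ [c4, c5, c6], ∀ x : UT, In l x → cc x = 32) := by
  decide +kernel

theorem AS_facts : (∀ x ∈ AS, ∀ y ∈ AS, x * y = y * x) ∧ (∀ x ∈ AS, x * x = 1) ∧
    (∀ x ∈ AS, ∀ g : UT, g * x * g⁻¹ ∈ AS) ∧ (∀ g : UT, (∀ x ∈ AS, g * x = x * g) → g ∈ AS) ∧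
    zs ∈ AS := by
  refine ⟨by decide +kernel, by decide +kernel, by decide +kernel, by decide +kernel, by decide +kernel⟩

theorem QS_facts : (∀ x : UT, x ∈ QS → x * x = 1 ∨ x * x = zs) ∧ zs ∈ QS ∧
    (∀ x ∈ QS, ∀ g : UT, g * x * g⁻¹ ∈ QS) ∧ (∀ g : UT, (∀ x ∈ QS, g * x = x * g) → g = 1 ∨ g = zs) ∧
    (∀ g : UT, g ∉ QS → ∃ q ∈ QS, g = x23 * q) := by
  refine ⟨by decide +kernel, by decide +kernel, by decide +kernel, by decide +kernel, by decide +kernel⟩

/-- The tables of the automorphisms permuting the three pairs of classes, six bits for each value: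
the images of `(E12, E23, E34)` have indices `(32,4,1)`, `(32,4,33)`, `(1,4,32)`, `(1,4,33)`,
`(33,4,32)`, `(33,4,1)`, then the same with `22` in place of `4`. -/
def autoTab : List ℕ :=
  [0xffef7cefae78df6d74cf2c70beeb6caeaa689e69648e28607de75c6da6585d65544d24503ce34c2ca2481c61440c2040,
    0x7e637c2e26785ee1740ea4703f676c6f22681fe5644fa060fc6b5cac2e58dce9548cac50bd6f4ced2a489ded44cda840,
    0x955f4ded38cbb5dd45cdbac3bd7dcfc51a499dffc7e5984199ed8ec9a88ab96f86e92a82b1cf0ce18a08914d04c10800,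
    0x99ff0de1988bb97d05c11a83b1dd8fc9ba09915f87e93801954dcec508cab5cfc6e58ac2bd6f4ced2a489ded44cda840,
    0x56537d2e34fb76d1750eb6f33f75ef4712691ff7e7679061f86b96a82e92d8e99e88ac9ab1cf0ce18a08914d04c10800,
    0xfbff3de39ebbdb7d35c31cb3b2dbafaaba299259a78a38215545d64504d275c7de6586da3ce34c2ca2481c61440c2040,
    0xb6c9e6efac70964beecf2e78d74ffe8e2a68f7cdf6aea86034c1c66da4501443ce4d26585547de0c224875c5d62ca040,
    0x37c7e60ea4701745ee2e26785641fe6f226876c3f64fa060b5cfc68cac50954dceac2e58d449deed2a48f4cbd6cda840,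
    0xdcf9dfed3ac3fc7bd7cdb8cbd45955e59a49f4db5dc51841f0c914c9aa82d04b1ce9288af8699ec10a08d8eb96e18800,
    0xf0d99fc11a83d05b97e1988bf87915c9ba09d8fb1de93801dce954e58ac2fc6b5cc508cad449deed2a48f4cbd6cda840,
    0x3f77e70eb4fb1ff5ef2e36f356517567926976d37d471061b1cd0488ae92914f0ca82c9af8699ec10a08d8eb96e18800,
    0xb2d9a7c31ebb925bafe39cb3fbfd358a3a29db7f3daab8213ce1446584d21c634c4506da5547de0c224875c5d62ca040]

/-- The map given by a table. -/
def autoFun (i : Fin 12) (x : UT) : UT :=
  el ((autoTab.getD i 0 >>> (6 * x.idx)) &&& 63)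

theorem autoFun_gen : ∀ i : Fin 12, autoFun i 1 = 1 ∧ ∀ g ∈ [x12, x23, x34], ∀ x : UT,
    autoFun i (x * g) = autoFun i x * autoFun i g := by
  decide +kernel

/-- The word in the three transvections representing an element. -/
def word (y : UT) : UT :=
  let e24 := x23 * x34 * x23 * x34
  let e13 := x12 * x23 * x12 * x23
  x34 ^ y.f.val * x23 ^ y.d.val * e24 ^ y.e.val * e13 ^ y.b.val * x12 ^ y.a.val *
    (x12 * e24 * x12 * e24) ^ y.c.val

theorem word_eq : ∀ y : UT, word y = y := by
  decide +kernel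

theorem autoFun_hom (i : Fin 12) : ∀ x y : UT, autoFun i (x * y) = autoFun i x * autoFun i y := by
  let H : Submonoid UT :=
    { carrier := {y | ∀ x, autoFun i (x * y) = autoFun i x * autoFun i y}
      one_mem' := fun x => by rw [mul_one, (autoFun_gen i).1, mul_one]
      mul_mem' := fun {y y'} (hy : ∀ x, autoFun i (x * y) = autoFun i x * autoFun i y)
          (hy' : ∀ x, autoFun i (x * y') = autoFun i x * autoFun i y') x => by
        rw [← mul_assoc, hy' (x * y), hy x, mul_assoc, ← hy' y] }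
  have hg : x12 ∈ H ∧ x23 ∈ H ∧ x34 ∈ H :=
    ⟨(autoFun_gen i).2 x12 (by simp), (autoFun_gen i).2 x23 (by simp), (autoFun_gen i).2 x34 (by simp)⟩
  obtain ⟨ha, hb, hc⟩ := hg
  intro x y
  suffices h : y ∈ H from h x
  rw [← word_eq y]
  have he := mul_mem (mul_mem (mul_mem hb hc) hb) hc
  exact mul_mem (mul_mem (mul_mem (mul_mem (mul_mem (pow_mem hc _) (pow_mem hb _)) (pow_mem he _))
    (pow_mem (mul_mem (mul_mem (mul_mem ha hb) ha) hb) _)) (pow_mem ha _))
    (pow_mem (mul_mem (mul_mem (mul_mem ha he) ha) he) _)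

theorem autoFun_inj : ∀ i : Fin 12, ∀ x : UT, autoFun i x = 1 → x = 1 := by
  decide +kernel

/-- The automorphism with the given number. -/
noncomputable def auto (i : Fin 12) : UT ≃* UT :=
  let f : UT →* UT := MonoidHom.mk' (autoFun i) (autoFun_hom i)
  MulEquiv.ofBijective f (Finite.injective_iff_bijective.1
    ((injective_iff_map_eq_one f).2 fun x hx => autoFun_inj i x hx))

theorem auto_apply (i : Fin 12) (x : UT) : auto i x = autoFun i x := rfl

end UT

end Cfsg.Agent.A8Type
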