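import Mathlib.GroupTheory.GroupAction.Quotient
import Mathlib.Algebra.BigOperators.Ring.Finset
import Mathlib.GroupTheory.OrderOfElement
import Mathlib.GroupTheory.Subgroup.Centralizer
import Mathlib.Tactic.Group
import Mathlib.Tactic.LinearCombination

/-!
The order of a subgroup of odd order normalised by a four-group, in terms of the orders of the fixed
subgroups: `|R| |C_R(V)|² = |C_R(a)| |C_R(b)| |C_R(ab)|`.  Both sides count the pairs of an
involution in `aR` and an involution in `bR`.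
-/

set_option autoImplicit false

namespace Cfsg.Agent.A8Type

open Subgroup

variable {G : Type*} [Group G]

/-- Two involutions congruent modulo a subgroup of odd order are conjugate by a power of their
product. -/
theorem conj_of_product_mem {R : Subgroup G} [Finite G] (hR : Odd (Nat.card R)) {x y : G}
    (hx : x * x = 1) (hy : y * y = 1) (h : x * y ∈ R) :
    ∃ k : ℕ, (x * y) ^ k * y * ((x * y) ^ k)⁻¹ = x := by
  obtain ⟨m, hm⟩ := hR.of_dvd_nat (Subgroup.orderOf_dvd_natCard R h)
  refine ⟨m + 1, ?_⟩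
  set q := x * y
  have hq : y * q * y⁻¹ = q⁻¹ := by
    rw [inv_eq_of_mul_eq_one_right hy, show q⁻¹ = y⁻¹ * x⁻¹ from mul_inv_rev x y,
      inv_eq_of_mul_eq_one_right hy, inv_eq_of_mul_eq_one_right hx]
    calc y * (x * y) * y = y * x * (y * y) := by group
      _ = y * x := by rw [hy, mul_one]
  have hy2 : y * (q ^ (m + 1))⁻¹ = q ^ (m + 1) * y := by
    have h1 : y * q ^ (m + 1) * y⁻¹ = (q ^ (m + 1))⁻¹ := by rw [← conj_pow, hq, inv_pow]
    calc y * (q ^ (m + 1))⁻¹ = y * (y * q ^ (m + 1) * y⁻¹) := by rw [h1]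
      _ = (y * y) * q ^ (m + 1) * y⁻¹ := by group
      _ = q ^ (m + 1) * y := by rw [hy, one_mul, inv_eq_of_mul_eq_one_right hy]
  calc q ^ (m + 1) * y * (q ^ (m + 1))⁻¹ = q ^ (m + 1) * (y * (q ^ (m + 1))⁻¹) := mul_assoc _ _ _
    _ = q ^ (m + 1 + (m + 1)) * y := by rw [hy2, ← mul_assoc, ← pow_add]
    _ = q ^ (orderOf q + 1) * y := by rw [hm]; ring_nf
    _ = x := by
      rw [pow_succ, pow_orderOf_eq_one, one_mul]
      show x * y * y = x
      rw [mul_assoc, hy, mul_one]

/-- The conjugates of an element under a subgroup. -/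
def orbitSet (R : Subgroup G) (x : G) : Set G := {w | ∃ r ∈ R, r * x * r⁻¹ = w}

theorem card_orbitSet [Finite G] (R : Subgroup G) (x : G) :
    Nat.card (orbitSet R x) * Nat.card ↥(R ⊓ centralizer ({x} : Set G)) = Nat.card R := by
  classical
  let D : Subgroup R := (centralizer ({x} : Set G)).subgroupOf R
  let f : R ⧸ D → orbitSet R x := Quotient.lift
    (fun r : R => (⟨r * x * (r : G)⁻¹, r, r.2, rfl⟩ : orbitSet R x))
    (fun r s hrs => by
      have h : ((r⁻¹ * s : R) : G) ∈ centralizer ({x} : Set G) :=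
        mem_subgroupOf.1 (QuotientGroup.leftRel_apply.1 (show (QuotientGroup.leftRel D) r s from hrs))
      rw [mem_centralizer_singleton_iff, Subgroup.coe_mul, Subgroup.coe_inv] at h
      refine Subtype.ext ?_
      show (r : G) * x * (r : G)⁻¹ = s * x * (s : G)⁻¹
      calc (r : G) * x * (r : G)⁻¹ = (r : G) * (x * ((r : G)⁻¹ * s)) * (s : G)⁻¹ := by group
        _ = s * x * (s : G)⁻¹ := by rw [← h]; group)
  have hf : Function.Bijective f := by
    refine ⟨fun p q => ?_, fun ⟨w, r, hr, he⟩ => ⟨Quotient.mk'' ⟨r, hr⟩, Subtype.ext he⟩⟩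
    induction p using Quotient.inductionOn'
    rename_i r
    induction q using Quotient.inductionOn'
    rename_i s
    intro h
    have h' : (r : G) * x * (r : G)⁻¹ = s * x * (s : G)⁻¹ := congrArg Subtype.val h
    refine Quotient.sound' (QuotientGroup.leftRel_apply.2 ?_)
    show ((r⁻¹ * s : R) : G) ∈ centralizer ({x} : Set G)
    rw [mem_centralizer_singleton_iff, Subgroup.coe_mul, Subgroup.coe_inv]
    calc (r : G)⁻¹ * s * x = (r : G)⁻¹ * (s * x * (s : G)⁻¹) * s := by group
      _ = x * ((r : G)⁻¹ * s) := by rw [← h']; group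
  have hD : Nat.card D = Nat.card ↥(R ⊓ centralizer ({x} : Set G)) := by
    refine Nat.card_congr
      { toFun := fun d => ⟨d.1.1, d.1.2, d.2⟩
        invFun := fun d => ⟨⟨d.1, d.2.1⟩, d.2.2⟩
        left_inv := fun d => rfl
        right_inv := fun d => rfl }
  rw [← Nat.card_congr (Equiv.ofBijective f hf), ← hD, ← card_eq_card_quotient_mul_card_subgroup]

variable [Finite G]

/-- The fixed-subgroup order formula for a four-group acting on a subgroup of odd order. -/
theorem card_fixed_four {R : Subgroup G} (hR : Odd (Nat.card R)) {a b : G} (ha : a * a = 1)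
    (hb : b * b = 1) (hab : a * b = b * a) (haR : ∀ r ∈ R, a * r * a⁻¹ ∈ R)
    (hbR : ∀ r ∈ R, b * r * b⁻¹ ∈ R) :
    Nat.card R * Nat.card ↥(R ⊓ centralizer ({a} : Set G) ⊓ centralizer ({b} : Set G)) ^ 2 =
      Nat.card ↥(R ⊓ centralizer ({a} : Set G)) * Nat.card ↥(R ⊓ centralizer ({b} : Set G)) *
        Nat.card ↥(R ⊓ centralizer ({a * b} : Set G)) := by
  classical
  have := Fintype.ofFinite G
  obtain ⟨c, hcdef⟩ : ∃ c, c = a * b := ⟨_, rfl⟩
  rw [← hcdef]
  have hc : c * c = 1 := by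
    rw [hcdef]
    calc a * b * (a * b) = a * (b * a) * b := by group
      _ = a * a * (b * b) := by rw [← hab]; group
      _ = 1 := by rw [ha, hb, one_mul]
  have hcR : ∀ r ∈ R, c * r * c⁻¹ ∈ R := fun r hr => by
    rw [show c * r * c⁻¹ = a * (b * r * b⁻¹) * a⁻¹ by rw [hcdef]; group]
    exact haR _ (hbR _ hr)
  -- membership in an orbit
  have mem_iff : ∀ {d : G}, d * d = 1 → (∀ r ∈ R, d * r * d⁻¹ ∈ R) →
      ∀ {x : G}, x ∈ orbitSet R d ↔ x * x = 1 ∧ x * d ∈ R := by
    intro d hd hdR x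
    refine ⟨?_, fun ⟨hx, hxd⟩ => ?_⟩
    · rintro ⟨r, hr, rfl⟩
      refine ⟨?_, ?_⟩
      · calc r * d * r⁻¹ * (r * d * r⁻¹) = r * (d * d) * r⁻¹ := by group
          _ = 1 := by rw [hd]; group
      · rw [show r * d * r⁻¹ * d = r * (d * r⁻¹ * d⁻¹) * (d * d) by group, hd, mul_one]
        exact mul_mem hr (hdR _ (inv_mem hr))
    · obtain ⟨k, hk⟩ := conj_of_product_mem hR hx hd hxd
      exact ⟨_, pow_mem hxd k, hk⟩
  set Ia := (orbitSet R a).toFinset
  set Ib := (orbitSet R b).toFinset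
  set Ic := (orbitSet R c).toFinset
  set n := Nat.card R with hn
  -- the third involution of a pair
  have hthird : ∀ x ∈ Ia, ∀ y ∈ Ib, (x * y) ^ n ∈ Ic ∧ x * (x * y) ^ n = (x * y) ^ n * x ∧
      y * (x * y) ^ n = (x * y) ^ n * y := by
    intro x hx y hy
    rw [Set.mem_toFinset, mem_iff ha haR] at hx
    rw [Set.mem_toFinset, mem_iff hb hbR] at hy
    have hxy : x * y * c ∈ R := by
      rw [show x * y * c = (x * a) * (a * (y * b) * a⁻¹) by
        rw [inv_eq_of_mul_eq_one_right ha, hcdef, hab]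
        calc x * y * (b * a) = x * (a * a) * y * b * a := by rw [ha]; group
          _ = x * a * (a * (y * b) * a) := by group]
      exact mul_mem hx.2 (haR _ hy.2)
    -- powers
    have hsq : ∀ {g : G}, g * c ∈ R → g * g ∈ R := fun {g} hg => by
      rw [show g * g = g * c * (c * (g * c) * c⁻¹) by
        calc g * g = g * (c * c) * g * (c * c⁻¹) := by rw [hc]; group
          _ = _ := by group]
      exact mul_mem hg (hcR _ hg)
    have h2 : (x * y) ^ n * (x * y) ^ n = 1 := by
      rw [← (Commute.refl (x * y)).mul_pow, hn]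
      exact congrArg Subtype.val
        (pow_card_eq_one' (x := (⟨x * y * (x * y), hsq hxy⟩ : R)))
    obtain ⟨j, hj⟩ := hR
    have hodd : (x * y) ^ n * c ∈ R := by
      rw [hj, pow_succ, mul_assoc, pow_mul, pow_two]
      exact mul_mem (pow_mem (hsq hxy) _) hxy
    refine ⟨Set.mem_toFinset.2 ((mem_iff hc hcR).2 ⟨h2, hodd⟩), ?_, ?_⟩
    · have e : x * (x * y) * x⁻¹ = (x * y)⁻¹ := by
        rw [mul_inv_rev, inv_eq_of_mul_eq_one_right hy.1, inv_eq_of_mul_eq_one_right hx.1,
          ← mul_assoc x x y, hx.1, one_mul]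
      have : x * (x * y) ^ n * x⁻¹ = (x * y) ^ n := by
        rw [← conj_pow, e, inv_pow]
        exact inv_eq_of_mul_eq_one_right h2
      exact mul_inv_eq_iff_eq_mul.1 this
    · have e : y * (x * y) * y⁻¹ = (x * y)⁻¹ := by
        rw [mul_inv_rev, inv_eq_of_mul_eq_one_right hy.1, inv_eq_of_mul_eq_one_right hx.1]
        calc y * (x * y) * y = y * x * (y * y) := by group
          _ = y * x := by rw [hy.1, mul_one]
      have : y * (x * y) ^ n * y⁻¹ = (x * y) ^ n := by
        rw [← conj_pow, e, inv_pow]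
        exact inv_eq_of_mul_eq_one_right h2
      exact mul_inv_eq_iff_eq_mul.1 this
  -- the fibres
  have hfib : ∀ w ∈ Ic, ((Ia ×ˢ Ib).filter fun p : G × G => (p.1 * p.2) ^ n = w) =
      (Ia.filter fun x => x * w = w * x) ×ˢ (Ib.filter fun y => y * w = w * y) := by
    intro w hw
    ext ⟨x, y⟩
    simp only [Finset.mem_filter, Finset.mem_product]
    constructor
    · rintro ⟨⟨hx, hy⟩, rfl⟩
      exact ⟨⟨hx, (hthird x hx y hy).2.1⟩, hy, (hthird x hx y hy).2.2⟩
    · rintro ⟨⟨hx, hxw⟩, hy, hyw⟩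
      refine ⟨⟨hx, hy⟩, ?_⟩
      obtain ⟨hv, -, -⟩ := hthird x hx y hy
      rw [Set.mem_toFinset, mem_iff hc hcR] at hv hw
      have hwxy : Commute (x * y) w := Commute.mul_left hxw hyw
      have hwv : Commute ((x * y) ^ n) w := hwxy.pow_left n
      -- two commuting involutions congruent modulo `R` are equal
      have hmem : (x * y) ^ n * w ∈ R := by
        rw [show (x * y) ^ n * w = (x * y) ^ n * c * (w * c)⁻¹ by
          rw [mul_inv_rev, inv_eq_of_mul_eq_one_right hw.1]; group]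
        exact mul_mem hv.2 (inv_mem hw.2)
      have h2 : ((x * y) ^ n * w) * ((x * y) ^ n * w) = 1 := by
        calc (x * y) ^ n * w * ((x * y) ^ n * w) = (x * y) ^ n * (w * (x * y) ^ n) * w := by group
          _ = ((x * y) ^ n * (x * y) ^ n) * (w * w) := by rw [← hwv.eq]; group
          _ = 1 := by rw [hv.1, hw.1, one_mul]
      have ho : orderOf ((x * y) ^ n * w) ∣ 1 := by
        have hd : orderOf ((x * y) ^ n * w) ∣ 2 := orderOf_dvd_of_pow_eq_one (by rw [pow_two]; exact h2)
        have hodd := hR.of_dvd_nat (Subgroup.orderOf_dvd_natCard R hmem)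
        rcases (Nat.dvd_prime Nat.prime_two).1 hd with e | e <;> rw [e] at hodd ⊢
        exact absurd hodd (by decide)
      have h1 := eq_inv_of_mul_eq_one_left (orderOf_eq_one_iff.1 (Nat.dvd_one.1 ho))
      rw [h1, inv_eq_of_mul_eq_one_right hw.1]
  have hsum : Ia.card * Ib.card = ∑ w ∈ Ic, (Ia.filter fun x => x * w = w * x).card *
      (Ib.filter fun y => y * w = w * y).card := by
    rw [← Finset.card_product,
      Finset.card_eq_sum_card_fiberwise (f := fun p : G × G => (p.1 * p.2) ^ n) (t := Ic)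
        (fun p hp => (hthird p.1 (Finset.mem_product.1 hp).1 p.2 (Finset.mem_product.1 hp).2).1)]
    exact Finset.sum_congr rfl fun w hw => by rw [hfib w hw, Finset.card_product]
  -- the fixed conjugates of `d`
  have hfix : ∀ {d : G}, d * d = 1 → (∀ r ∈ R, d * r * d⁻¹ ∈ R) → d * c = c * d → ∀ w ∈ Ic,
      ((orbitSet R d).toFinset.filter fun x => x * w = w * x).card *
        Nat.card ↥(R ⊓ centralizer ({c} : Set G) ⊓ centralizer ({d} : Set G)) =
      Nat.card ↥(R ⊓ centralizer ({c} : Set G)) := by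
    intro d hd hdR hdc w hw
    rw [← card_orbitSet (R ⊓ centralizer ({c} : Set G)) d, Nat.card_eq_card_toFinset]
    congr 1
    obtain ⟨r, hr, rfl⟩ := Set.mem_toFinset.1 hw
    refine Finset.card_bij' (fun x _ => r⁻¹ * x * r) (fun x _ => r * x * r⁻¹) ?_ ?_ ?_ ?_
    · intro x hx
      rw [Finset.mem_filter, Set.mem_toFinset, mem_iff hd hdR] at hx
      obtain ⟨⟨hx2, hxd⟩, hxw⟩ := hx
      have e2 : r⁻¹ * x * r * (r⁻¹ * x * r) = 1 := by
        rw [show r⁻¹ * x * r * (r⁻¹ * x * r) = r⁻¹ * (x * x) * r by group, hx2]; group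
      have ed : r⁻¹ * x * r * d ∈ R := by
        rw [show r⁻¹ * x * r * d = r⁻¹ * (x * d) * (d⁻¹ * r * d⁻¹⁻¹) by group]
        refine mul_mem (mul_mem (inv_mem hr) hxd) ?_
        rw [inv_eq_of_mul_eq_one_right hd]; exact hdR r hr
      have ec : Commute (r⁻¹ * x * r) c := by
        show r⁻¹ * x * r * c = c * (r⁻¹ * x * r)
        calc r⁻¹ * x * r * c = r⁻¹ * (x * (r * c * r⁻¹)) * r := by group
          _ = c * (r⁻¹ * x * r) := by rw [hxw]; group
      obtain ⟨k, hk⟩ := conj_of_product_mem hR e2 hd ed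
      rw [Set.mem_toFinset]
      exact ⟨_, mem_inf.2 ⟨pow_mem ed k,
        mem_centralizer_singleton_iff.2 ((ec.mul_left hdc).pow_left k).eq⟩, hk⟩
    · intro x hx
      obtain ⟨s, hs, rfl⟩ := Set.mem_toFinset.1 hx
      obtain ⟨hsR, hsC⟩ := mem_inf.1 hs
      rw [Finset.mem_filter, Set.mem_toFinset]
      refine ⟨⟨r * s, mul_mem hr hsR, by group⟩, ?_⟩
      have hsc : s * d * s⁻¹ * c = c * (s * d * s⁻¹) := by
        have h1 : Commute s c := mem_centralizer_singleton_iff.1 hsC
        exact ((h1.mul_left hdc).mul_left h1.inv_left).eq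
      calc r * (s * d * s⁻¹) * r⁻¹ * (r * c * r⁻¹) = r * (s * d * s⁻¹ * c) * r⁻¹ := by group
        _ = r * c * r⁻¹ * (r * (s * d * s⁻¹) * r⁻¹) := by rw [hsc]; group
    · intro x _
      group
    · intro x _
      group
  -- arithmetic
  set D := Nat.card ↥(R ⊓ centralizer ({a} : Set G) ⊓ centralizer ({b} : Set G)) with hD
  have hDa : R ⊓ centralizer ({c} : Set G) ⊓ centralizer ({a} : Set G) =
      R ⊓ centralizer ({a} : Set G) ⊓ centralizer ({b} : Set G) := by
    ext s
    simp only [mem_inf, mem_centralizer_singleton_iff, hcdef]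
    constructor
    · rintro ⟨⟨h1, h2⟩, h3⟩
      refine ⟨⟨h1, h3⟩, ?_⟩
      calc s * b = a⁻¹ * (a * s) * b := by group
        _ = a⁻¹ * (s * (a * b)) := by rw [← h3]; group
        _ = b * s := by rw [h2]; group
    · rintro ⟨⟨h1, h2⟩, h3⟩
      exact ⟨⟨h1, (Commute.mul_right h2 h3).eq⟩, h2⟩
  have hDb : R ⊓ centralizer ({c} : Set G) ⊓ centralizer ({b} : Set G) =
      R ⊓ centralizer ({a} : Set G) ⊓ centralizer ({b} : Set G) := by
    ext s
    simp only [mem_inf, mem_centralizer_singleton_iff, hcdef]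
    constructor
    · rintro ⟨⟨h1, h2⟩, h3⟩
      refine ⟨⟨h1, ?_⟩, h3⟩
      calc s * a = s * (a * b) * b⁻¹ := by group
        _ = a * (b * s) * b⁻¹ := by rw [h2]; group
        _ = a * s := by rw [← h3]; group
    · rintro ⟨⟨h1, h2⟩, h3⟩
      exact ⟨⟨h1, (Commute.mul_right h2 h3).eq⟩, h3⟩
  have hac : a * c = c * a := by rw [hcdef, ← mul_assoc, ha, one_mul, mul_assoc, ← hab, ← mul_assoc, ha, one_mul]
  have hbc : b * c = c * b := by
    rw [hcdef, ← mul_assoc, ← hab]
  have hsum' : Ia.card * Ib.card * (D * D) = Ic.card *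
      (Nat.card ↥(R ⊓ centralizer ({c} : Set G)) * Nat.card ↥(R ⊓ centralizer ({c} : Set G))) := by
    rw [hsum, Finset.sum_mul]
    refine Finset.sum_const_nat fun w hw => ?_
    have e1 := hfix ha haR hac w hw
    have e2 := hfix hb hbR hbc w hw
    rw [hDa] at e1
    rw [hDb] at e2
    rw [mul_mul_mul_comm, e1, e2]
  have ea := card_orbitSet R a
  have eb := card_orbitSet R b
  have ec := card_orbitSet R c
  rw [Nat.card_eq_card_toFinset] at ea eb ec
  refine Nat.eq_of_mul_eq_mul_right (Nat.card_pos : 0 < Nat.card R) ?_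
  change n * D ^ 2 * n = _ * n
  have : (Ia.card * Nat.card ↥(R ⊓ centralizer ({a} : Set G))) *
      (Ib.card * Nat.card ↥(R ⊓ centralizer ({b} : Set G))) * (D * D) =
      (Ic.card * Nat.card ↥(R ⊓ centralizer ({c} : Set G))) *
        Nat.card ↥(R ⊓ centralizer ({c} : Set G)) *
        (Nat.card ↥(R ⊓ centralizer ({a} : Set G)) * Nat.card ↥(R ⊓ centralizer ({b} : Set G))) := by
    linear_combination (Nat.card ↥(R ⊓ centralizer ({a} : Set G)) *
      Nat.card ↥(R ⊓ centralizer ({b} : Set G))) * hsum'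
  rw [ea, eb, ec] at this
  linear_combination this

end Cfsg.Agent.A8Type
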