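import Cfsg.Agent.A8Type.Dispatch
import Cfsg.Agent.L33Rec.Simple
import Cfsg.Prelude.Def_CaseTheorems

/-!
The recognition of the alternating groups of degree eight and nine and of `PSp(4,3)`, given the
triviality of the core in the pattern of the alternating groups.
-/

set_option autoImplicit false

namespace Cfsg.Agent.A8Type

open Subgroup

universe u

theorem main {G : Type u} [Group G] [Finite G] (hO2 : Cfsg.pResidual 2 G = ⊤)
    (hcore2 : Cfsg.pCore 2 G = ⊥) (hodd : Cfsg.oddCore G = ⊥) (S : Sylow 2 G)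
    (hS : ∀ P : Sylow 2 ↥(alternatingGroup (Fin 8)),
      Nonempty (↥(S : Subgroup G) ≃* ↥(P : Subgroup ↥(alternatingGroup (Fin 8)))))
    (hsol : ∀ z : G, z ∈ (S : Subgroup G) → (∀ s ∈ (S : Subgroup G), s * z = z * s) → orderOf z = 2 →
      IsSolvable ↥(Subgroup.centralizer ({z} : Set G)))
    (hII : ∀ B : Base G, B.Simp → B.PatII → theta B.z = ⊥) :
    Nonempty (G ≃* ↥(alternatingGroup (Fin 8))) ∨ Nonempty (G ≃* ↥(alternatingGroup (Fin 9))) ∨
      (∃ (F : Type) (_ : Field F) (_ : Fintype F), Fintype.card F = 3 ∧ Nonempty (G ≃* Cfsg.PSp 2 F)) := by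
  obtain ⟨B, hB⟩ := exists_base S hS
  have h : B.Simp := ⟨fun N hN =>
      (haveI := normal_of_index_eq_two hN; L33Rec.no_index_two hO2 N inferInstance hN), hcore2, hodd,
    hsol B.z (hB ▸ ⟨zs, rfl⟩) (fun s hs => by
      rw [← hB] at hs
      obtain ⟨r, rfl⟩ := hs
      exact (B.comm_z r).eq) B.orderOf_z⟩
  rcases B.patterns h with ⟨B', h', p, hno⟩ | ⟨B', h', p⟩ | ⟨B', h', p⟩
  · exact (B'.recog_I h' p hno).imp id Or.inl
  · exact (B'.recog_II h' p (hII B' h' p)).imp id Or.inl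
  · exact Or.inr (Or.inr (B'.recog_U h' p))

end Cfsg.Agent.A8Type
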