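import Mathlib.Data.ZMod.Basic
import Mathlib.GroupTheory.Subgroup.Centralizer
import Mathlib.Tactic.Ring
import Mathlib.Tactic.FinCases

/-!
The unitriangular group of degree four over the field with two elements, as the model of the Sylow
2-subgroup of the alternating group of degree eight, with the tables of the two fusion patterns.
-/

set_option autoImplicit false
set_option maxRecDepth 20000

namespace Cfsg.Agent.A8Type

/-- A matrix `((1,a,b,c),(0,1,d,e),(0,0,1,f),(0,0,0,1))` over the field with two elements. -/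
@[ext] structure UT where
  /-- entry (1,2) -/
  a : ZMod 2
  /-- entry (1,3) -/
  b : ZMod 2
  /-- entry (1,4) -/
  c : ZMod 2
  /-- entry (2,3) -/
  d : ZMod 2
  /-- entry (2,4) -/
  e : ZMod 2
  /-- entry (3,4) -/
  f : ZMod 2
deriving DecidableEq

namespace UT

instance : Mul UT :=
  ⟨fun x y => ⟨x.a + y.a, x.b + y.b + x.a * y.d, x.c + y.c + x.a * y.e + x.b * y.f,
    x.d + y.d, x.e + y.e + x.d * y.f, x.f + y.f⟩⟩

instance : One UT := ⟨⟨0, 0, 0, 0, 0, 0⟩⟩

instance : Inv UT :=
  ⟨fun x => ⟨-x.a, -x.b + x.a * x.d, -x.c + x.a * x.e + x.b * x.f - x.a * x.d * x.f,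
    -x.d, -x.e + x.d * x.f, -x.f⟩⟩

theorem mul_def (x y : UT) :
    x * y = ⟨x.a + y.a, x.b + y.b + x.a * y.d, x.c + y.c + x.a * y.e + x.b * y.f,
      x.d + y.d, x.e + y.e + x.d * y.f, x.f + y.f⟩ := rfl

theorem one_def : (1 : UT) = ⟨0, 0, 0, 0, 0, 0⟩ := rfl

theorem inv_def (x : UT) :
    x⁻¹ = ⟨-x.a, -x.b + x.a * x.d, -x.c + x.a * x.e + x.b * x.f - x.a * x.d * x.f,
      -x.d, -x.e + x.d * x.f, -x.f⟩ := rfl

instance : Group UT where
  mul_assoc x y z := by ext <;> simp only [mul_def] <;> ring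
  one_mul x := by ext <;> simp [mul_def, one_def]
  mul_one x := by ext <;> simp [mul_def, one_def]
  inv_mul_cancel x := by ext <;> simp only [mul_def, inv_def, one_def] <;> ring

/-- The coordinates. -/
def equivProd : UT ≃ ZMod 2 × ZMod 2 × ZMod 2 × ZMod 2 × ZMod 2 × ZMod 2 where
  toFun x := (x.a, x.b, x.c, x.d, x.e, x.f)
  invFun p := ⟨p.1, p.2.1, p.2.2.1, p.2.2.2.1, p.2.2.2.2.1, p.2.2.2.2.2⟩

/-- The index of a matrix. -/
def idx (x : UT) : ℕ :=
  32 * x.a.val + 16 * x.b.val + 8 * x.c.val + 4 * x.d.val + 2 * x.e.val + x.f.val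

/-- The matrix with the given index. -/
def el (n : ℕ) : UT :=
  ⟨(n / 32 : ℕ), (n / 16 : ℕ), (n / 8 : ℕ), (n / 4 : ℕ), (n / 2 : ℕ), (n : ℕ)⟩

/-- All matrices. -/
def all : List UT := (List.range 64).map el

theorem mem_all : ∀ x : UT, x ∈ all := by
  rintro ⟨a, b, c, d, e, f⟩
  fin_cases a <;> fin_cases b <;> fin_cases c <;> fin_cases d <;> fin_cases e <;> fin_cases f <;>
    decide +kernel

instance : Fintype UT := ⟨all.toFinset, fun x => List.mem_toFinset.2 (mem_all x)⟩

theorem card_UT : Nat.card UT = 64 := by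
  rw [Nat.card_congr equivProd]
  simp

/-- A statement is true for all matrices if it is true for the listed ones. -/
theorem forall_iff {p : UT → Prop} : (∀ x, p x) ↔ ∀ x ∈ all, p x :=
  ⟨fun h x _ => h x, fun h x => h x (mem_all x)⟩

end UT

open UT

/-- The elementary abelian subgroup of order sixteen. -/
def AS : Subgroup UT where
  carrier := {x | x.a = 0 ∧ x.f = 0}
  mul_mem' := fun {x y} hx hy =>
    ⟨show x.a + y.a = 0 by rw [hx.1, hy.1, add_zero],
      show x.f + y.f = 0 by rw [hx.2, hy.2, add_zero]⟩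
  one_mem' := ⟨rfl, rfl⟩
  inv_mem' := fun {x} hx =>
    ⟨show -x.a = 0 by rw [hx.1, neg_zero], show -x.f = 0 by rw [hx.2, neg_zero]⟩

instance : DecidablePred (· ∈ AS) := fun x => inferInstanceAs (Decidable (x.a = 0 ∧ x.f = 0))

/-- The extraspecial subgroup of order thirty-two. -/
def QS : Subgroup UT where
  carrier := {x | x.d = 0}
  mul_mem' := fun {x y} hx hy =>
    show x.d + y.d = 0 by rw [show x.d = 0 from hx, show y.d = 0 from hy, add_zero]
  one_mem' := rfl
  inv_mem' := fun {x} hx => show -x.d = 0 by rw [show x.d = 0 from hx, neg_zero]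

instance : DecidablePred (· ∈ QS) := fun x => inferInstanceAs (Decidable (x.d = 0))

/-- The central involution. -/
def zs : UT := el 8

/-- The chosen involution of the second class. -/
def as : UT := el 18

/-- The indices of the involutions of the class of the central one; `u` is the pattern of the
unitary group. -/
def zl (u : Bool) : List ℕ :=
  cond u [4, 6, 8, 20, 30] [1, 2, 3, 4, 6, 8, 9, 10, 11, 16, 20, 24, 30, 32, 40, 48, 56]

/-- Membership in the class of the central involution. -/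
def zp (u : Bool) (x : UT) : Prop := x.idx ∈ zl u

instance (u : Bool) (x : UT) : Decidable (zp u x) := inferInstanceAs (Decidable (x.idx ∈ zl u))

/-- The list of indices as a function of the sixteen elements of `AS`. -/
def tabA (l : List ℕ) (x : UT) : UT := el (l.getD (x.idx / 2) 0)

/-- The list of indices as a function of the thirty-two elements of `QS`. -/
def tabQ (l : List ℕ) (x : UT) : UT := el (l.getD (x.idx / 8 * 4 + x.idx % 4) 0)

/-- An automorphism of order three of `AS` fixing `as` and permuting its partners. -/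
def sigTab (u : Bool) : UT → UT :=
  tabA (cond u [0, 14, 8, 6, 30, 16, 22, 24, 28, 18, 20, 26, 2, 12, 10, 4]
    [0, 24, 8, 16, 30, 6, 22, 14, 10, 18, 2, 26, 20, 12, 28, 4])

/-- A second automorphism of `AS`. -/
def tauTab (u : Bool) : UT → UT :=
  tabA (cond u [0, 2, 4, 6, 20, 22, 16, 18, 26, 24, 30, 28, 14, 12, 10, 8]
    [0, 4, 6, 2, 16, 20, 22, 18, 24, 28, 30, 26, 8, 12, 14, 10])

/-- The automorphisms of order three of `QS` induced by the centralizer of `zs`. -/
def rots (u : Bool) : List (UT → UT) :=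
  cond u
    [tabQ [0, 24, 48, 40, 8, 16, 56, 32, 51, 35, 3, 19, 59, 43, 11, 27, 26, 2, 34, 58, 18, 10, 42,
      50, 33, 49, 25, 9, 41, 57, 17, 1],
     tabQ [0, 26, 59, 41, 8, 18, 51, 33, 3, 17, 56, 34, 11, 25, 48, 42, 2, 24, 49, 35, 10, 16, 57,
      43, 1, 19, 50, 40, 9, 27, 58, 32]]
    [tabQ [0, 3, 1, 2, 8, 11, 9, 10, 32, 35, 33, 34, 40, 43, 41, 42, 48, 51, 49, 50, 56, 59, 57, 58,
      16, 19, 17, 18, 24, 27, 25, 26]]

end Cfsg.Agent.A8Type
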