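import Cfsg.Agent.A8Type.Cz.Norm
import Cfsg.Agent.Invol.IsolatedApps
import Cfsg.Agent.Invol.Isolated
import Cfsg.Agent.S0205

/-!
A group with a central involution `b` and an involution `x` whose only conjugates in a Sylow
2-subgroup are `x` and `x * b`: by the Z*-theorem it is the core extended by the stabiliser of that
pair, hence solvable when the centralizer of `x` is.
-/

set_option autoImplicit false

namespace Cfsg.Agent.A8Type

open Subgroup

variable {C : Type*} [Group C] [Finite C]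

theorem pair_decomp {b x : C} (hb : b ∈ center C) (hbo : orderOf b = 2) (hx2 : x * x = 1)
    (hx : x ≠ 1) (hxb : x ≠ b) (P : Sylow 2 C) (hxP : x ∈ (P : Subgroup C))
    (hiso : ∀ g : C, g * x * g⁻¹ ∈ (P : Subgroup C) → g * x * g⁻¹ = x ∨ g * x * g⁻¹ = x * b)
    (g : C) : ∃ o ∈ oddCore C, (o⁻¹ * g) * x * (o⁻¹ * g)⁻¹ = x ∨
      (o⁻¹ * g) * x * (o⁻¹ * g)⁻¹ = x * b := by
  classical
  have hb2 : b * b = 1 := by rw [← sq, ← hbo, pow_orderOf_eq_one]
  haveI : Fact (Nat.Prime 2) := ⟨Nat.prime_two⟩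
  set N := zpowers b with hN
  haveI hNn : N.Normal := ⟨fun n hn g => by
    rw [mem_center_iff.1 (zpowers_le.2 hb hn) g, mul_inv_cancel_right]; exact hn⟩
  have hN2 : IsPGroup 2 N := fun w => ⟨1, by
    obtain ⟨k, hk⟩ := w.2
    apply Subtype.ext
    rw [SubmonoidClass.coe_pow, pow_one, ← hk, sq, ← zpow_add, ← two_mul, zpow_mul, zpow_two, hb2,
      one_zpow, OneMemClass.coe_one]⟩
  have hNP : N ≤ (P : Subgroup C) := (Core.le_pCore hN2).trans (Core.pCore_le_sylow P)
  have hmemN : ∀ n ∈ N, n = 1 ∨ n = b := by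
    rintro _ ⟨k, rfl⟩
    rcases Int.even_or_odd k with ⟨m, rfl⟩ | ⟨m, rfl⟩
    · left
      show b ^ (m + m) = 1
      rw [← two_mul, zpow_mul, zpow_two, hb2, one_zpow]
    · right
      show b ^ (2 * m + 1) = b
      rw [zpow_add, zpow_mul, zpow_two, hb2, one_zpow, one_mul, zpow_one]
  have hne : (x : C ⧸ N) ≠ 1 := fun e => by
    rcases hmemN x ((QuotientGroup.eq_one_iff x).1 e) with h | h
    exacts [hx h, hxb h]
  have hord : orderOf (x : C ⧸ N) = 2 :=
    Invol.orderOf_eq_two_iff.2 ⟨hne, by rw [← QuotientGroup.mk_mul, hx2, QuotientGroup.mk_one]⟩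
  let P' : Sylow 2 (C ⧸ N) := P.mapSurjective (QuotientGroup.mk'_surjective N)
  have hback : ∀ y : C, (y : C ⧸ N) ∈ (P' : Subgroup (C ⧸ N)) → y ∈ (P : Subgroup C) := by
    intro y hy
    rw [Sylow.coe_mapSurjective] at hy
    obtain ⟨p, hp, he⟩ := hy
    have h1 : p⁻¹ * y ∈ N := QuotientGroup.eq.1 he
    have h2 := mul_mem hp (hNP h1)
    rwa [mul_inv_cancel_left] at h2
  have hisoQ : Cfsg.IsIsolatedInvolution (x : C ⧸ N) := by
    refine Invol.isolated_of_sylow P' hord fun q hq => ?_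
    obtain ⟨u, rfl⟩ := QuotientGroup.mk_surjective q
    rcases hiso u (hback _ hq) with e | e
    · exact congrArg (fun w : C => (w : C ⧸ N)) e
    · refine (congrArg (fun w : C => (w : C ⧸ N)) e).trans ?_
      show ((x * b : C) : C ⧸ N) = x
      rw [QuotientGroup.mk_mul, (QuotientGroup.eq_one_iff b).2 (mem_zpowers b), mul_one]
  obtain ⟨o', ho', hc⟩ := Invol.isolated_decomp hisoQ (g : C ⧸ N)
  obtain ⟨y, rfl⟩ := QuotientGroup.mk_surjective o'
  obtain ⟨o, ho, hoy⟩ := core_quot (zpowers_le.2 hb) (by rw [Nat.card_zpowers, hbo]) ho'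
  have hoe : (o : C ⧸ N) = y := QuotientGroup.eq.2 hoy
  refine ⟨o, ho, ?_⟩
  have h1 : ((o⁻¹ * g * x * (o⁻¹ * g)⁻¹ : C) : C ⧸ N) = (x : C ⧸ N) := by
    rw [QuotientGroup.mk_mul, QuotientGroup.mk_mul, QuotientGroup.mk_inv, QuotientGroup.mk_mul,
      QuotientGroup.mk_inv, hoe, hc.eq, mul_inv_cancel_right]
  have h2 := QuotientGroup.eq.1 h1.symm
  rcases hmemN _ h2 with e | e
  · left; rw [inv_mul_eq_one] at e; exact e.symm
  · right; rw [inv_mul_eq_iff_eq_mul] at e; exact e

/-- A group with such a pair is solvable when the centralizer of `x` is. -/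
theorem isSolvable_of_pair {b x : C} (hb : b ∈ center C) (hbo : orderOf b = 2) (hx2 : x * x = 1)
    (hx : x ≠ 1) (hxb : x ≠ b) (P : Sylow 2 C) (hxP : x ∈ (P : Subgroup C))
    (hiso : ∀ g : C, g * x * g⁻¹ ∈ (P : Subgroup C) → g * x * g⁻¹ = x ∨ g * x * g⁻¹ = x * b)
    (hsol : Group.IsSolvable (centralizer ({x} : Set C))) : Group.IsSolvable C := by
  classical
  haveI : Fact (Nat.Prime 2) := ⟨Nat.prime_two⟩
  have hb2 : b * b = 1 := by rw [← sq, ← hbo, pow_orderOf_eq_one]
  have hcb : ∀ g : C, g * b * g⁻¹ = b := fun g => by rw [mem_center_iff.1 hb g, mul_inv_cancel_right]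
  let D : Subgroup C :=
    { carrier := {g | g * x * g⁻¹ = x ∨ g * x * g⁻¹ = x * b}
      one_mem' := Or.inl (by group)
      mul_mem' := fun {u v} hu hv => by
        have e : u * v * x * (u * v)⁻¹ = u * (v * x * v⁻¹) * u⁻¹ := by group
        rcases hv with hv | hv <;> rcases hu with hu | hu
        · left; rw [e, hv, hu]
        · right; rw [e, hv, hu]
        · right; rw [e, hv, ← conj_mul, hu, hcb]
        · left; rw [e, hv, ← conj_mul, hu, hcb, mul_assoc, hb2, mul_one]
      inv_mem' := fun {u} hu => by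
        rcases hu with hu | hu
        · left
          nth_rewrite 1 [← hu]
          group
        · right
          have h1 : u * (x * b) * u⁻¹ = x := by rw [← conj_mul, hu, hcb, mul_assoc, hb2, mul_one]
          nth_rewrite 1 [← h1]
          group }
  let δ : D →* zpowers b := MonoidHom.mk' (fun g => ⟨x⁻¹ * ((g : C) * x * (g : C)⁻¹), by
      rcases g.2 with e | e
      · rw [e, inv_mul_cancel]; exact one_mem _
      · rw [e, inv_mul_cancel_left]; exact mem_zpowers b⟩) (fun u v => Subtype.ext (by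
      show x⁻¹ * ((u : C) * v * x * ((u : C) * v)⁻¹) =
        x⁻¹ * ((u : C) * x * (u : C)⁻¹) * (x⁻¹ * ((v : C) * x * (v : C)⁻¹))
      rcases v.2 with e | e
      · rw [show (u : C) * v * x * ((u : C) * v)⁻¹ = u * (v * x * (v : C)⁻¹) * (u : C)⁻¹ by group,
          e, inv_mul_cancel, mul_one]
      · rw [show (u : C) * v * x * ((u : C) * v)⁻¹ = u * (v * x * (v : C)⁻¹) * (u : C)⁻¹ by group,
          e, ← conj_mul, hcb, inv_mul_cancel_left, ← mul_assoc x⁻¹]))
  haveI : IsMulCommutative (zpowers b) := inferInstance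
  haveI hN : Group.IsSolvable (zpowers b) := Group.isSolvable_of_comm fun u v => mul_comm' u v
  haveI hker : Group.IsSolvable δ.ker := by
    haveI := hsol
    have hle : δ.ker.map D.subtype ≤ centralizer ({x} : Set C) := by
      rintro _ ⟨g, hg, rfl⟩
      refine mem_centralizer_singleton_iff.2 (mul_inv_eq_iff_eq_mul.1 ?_)
      exact (inv_mul_eq_one.1 (congrArg Subtype.val hg)).symm
    haveI : Group.IsSolvable (δ.ker.map D.subtype) :=
      Group.isSolvable_of_isSolvable_injective (f := inclusion hle) (inclusion_injective _)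
    exact Group.isSolvable_of_isSolvable_injective
      (f := (δ.ker.equivMapOfInjective D.subtype D.subtype_injective).toMonoidHom) (MulEquiv.injective _)
  haveI : Group.IsSolvable D := (Group.isSolvable_iff_subgroup_quotient δ.ker).2
    ⟨hker, Group.isSolvable_of_isSolvable_injective (QuotientGroup.kerLift_injective δ)⟩
  haveI hO : (oddCore C).Normal := Core.pPrimeCore_normal
  refine (Group.isSolvable_iff_subgroup_quotient (oddCore C)).2 ⟨S0205.result
    (Nat.odd_iff.2 (Nat.two_dvd_ne_zero.1 Core.not_dvd_card_pPrimeCore)), ?_⟩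
  refine Group.isSolvable_of_surjective (f := (QuotientGroup.mk' (oddCore C)).comp D.subtype) ?_
  intro q
  obtain ⟨g, rfl⟩ := QuotientGroup.mk_surjective q
  obtain ⟨o, ho, hd⟩ := pair_decomp hb hbo hx2 hx hxb P hxP hiso g
  refine ⟨⟨o⁻¹ * g, hd⟩, ?_⟩
  show ((o⁻¹ * g : C) : C ⧸ oddCore C) = g
  rw [QuotientGroup.mk_mul, QuotientGroup.mk_inv, (QuotientGroup.eq_one_iff o).2 ho, inv_one, one_mul]

end Cfsg.Agent.A8Type
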